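import Groth.Agent.SGA3Power26.LocalEndo
import Groth.Agent.AbVarLib.PowEtale
import Groth.Agent.FlatLocal.StalkCrit
import Groth.Agent.AlgGrpLib.ExactSeqBasics
import Mathlib.LinearAlgebra.Dual.Lemmas

/-! The `n`-th power map of an algebraic group is etale at the unit if `n` is invertible. -/

set_option autoImplicit false
set_option backward.isDefEq.respectTransparency.types false
set_option linter.style.haveILetI false

universe u

open CategoryTheory Limits MonoidalCategory CartesianMonoidalCategory MonObj GrpObj AlgebraicGeometry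
open IsLocalRing (maximalIdeal closedPoint)

namespace Groth.Agent.SGA3Power26

open Groth.Agent.LieSLib Groth.Agent.AbVarLib

variable {k : Type u} [Field k] (G : Over (Spec (CommRingCat.of k))) [GrpObj G]

/-- The unit point. -/
noncomputable abbrev e₀ : G.left := η[G].left.base (closedPoint k)

omit [GrpObj G] in
theorem exists_functional {O : Type u} [CommRing O] [Algebra k O] (m : Ideal O) {z : O} (hz : z ∉ m ^ 2) :
    ∃ f : O →ₗ[k] k, f z ≠ 0 ∧ ∀ y ∈ m ^ 2, f y = 0 := by
  have hz' : z ∉ (m ^ 2).restrictScalars k := hz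
  obtain ⟨f, hfx, hf⟩ := Submodule.exists_dual_map_eq_bot_of_notMem hz' inferInstance
  exact ⟨f, hfx, fun y hy =>
    (Submodule.mem_bot k).1 (hf ▸ Submodule.mem_map_of_mem (p := (m ^ 2).restrictScalars k) hy)⟩

/-- The dual number point defined by a functional. -/
noncomputable def dualPt {O : Type u} [CommRing O] [Algebra k O] (χ : O →ₐ[k] k) (m : Ideal O)
    (hm : ∀ b, χ b = 0 → b ∈ m) (f : O →ₗ[k] k) (hf : ∀ y ∈ m ^ 2, f y = 0) :
    O →ₐ[k] TrivSqZeroExt k k :=
  have hR : ∀ b, b - algebraMap k O (χ b) ∈ m := fun b => hm _ (by simp)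
  have hRmul : ∀ a b, a * b - algebraMap k O (χ (a * b)) = (a - algebraMap k O (χ a)) * (b - algebraMap k O (χ b))
      + χ a • (b - algebraMap k O (χ b)) + χ b • (a - algebraMap k O (χ a)) := fun a b => by
    simp only [map_mul, Algebra.smul_def]; ring
  { toFun := fun b => TrivSqZeroExt.inl (χ b) + TrivSqZeroExt.inr (f (b - algebraMap k O (χ b)))
    map_one' := by ext <;> simp
    map_mul' := fun a b => by
      refine TrivSqZeroExt.ext (by simp) ?_
      simp only [TrivSqZeroExt.snd_add, TrivSqZeroExt.snd_inl, TrivSqZeroExt.snd_inr, zero_add,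
        TrivSqZeroExt.snd_mul, TrivSqZeroExt.fst_add, TrivSqZeroExt.fst_inl, TrivSqZeroExt.fst_inr, add_zero,
        op_smul_eq_smul, hRmul, map_add, map_smul, smul_eq_mul]
      rw [hf _ (by rw [pow_two]; exact Ideal.mul_mem_mul (hR a) (hR b)), zero_add]
    map_zero' := by ext <;> simp
    map_add' := fun a b => by
      refine TrivSqZeroExt.ext (by simp) ?_
      simp only [TrivSqZeroExt.snd_add, TrivSqZeroExt.snd_inl, TrivSqZeroExt.snd_inr, zero_add]
      rw [← map_add]
      congr 1
      simp only [map_add]; ring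
    commutes' := fun c => by
      refine TrivSqZeroExt.ext ?_ ?_ <;> simp [TrivSqZeroExt.algebraMap_eq_inl'] }

variable [LocallyOfFiniteType G.hom] {n : ℕ} (hn : (n : k) ≠ 0)
include hn

/-- The power map is etale at the unit. -/
theorem etale_nhd_unit : ∃ U : G.left.Opens, e₀ G ∈ U ∧ Etale (U.ι ≫ ((𝟙 G : G ⟶ G) ^ n).left) := by
  let u : G ⟶ G := (𝟙 G : G ⟶ G) ^ n
  let N := u.left
  haveI : LocallyOfFinitePresentation N := AlgGrpLib.ExactSeqBasics.locallyOfFinitePresentation_left u
  haveI : IsLocallyNoetherian G.left := LocallyOfFiniteType.isLocallyNoetherian G.hom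
  have hu1 : η[G].left ≫ N = η[G].left := by
    show (η[G] ≫ u).left = _
    rw [MonObj.comp_pow, Category.comp_id, show η[G] = (1 : 𝟙_ _ ⟶ G) by
      rw [Hom.one_def, toUnit_unique (toUnit (𝟙_ _)) (𝟙 _), Category.id_comp], one_pow]
  have he : N.base (e₀ G) = e₀ G := congrArg (fun t => t.base (closedPoint k)) hu1
  haveI : IsIso (G.left.presheaf.stalkSpecializes (show N.base (e₀ G) ⤳ e₀ G by rw [he])) :=
    (G.left.presheaf.stalkCongr (.of_eq he)).isIso_inv
  let σ := G.left.presheaf.stalkSpecializes (show N.base (e₀ G) ⤳ e₀ G by rw [he])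
  let φc := σ ≫ N.stalkMap (e₀ G)
  let O := G.left.presheaf.stalk (e₀ G)
  let κ := Spec.preimage (G.left.fromSpecStalk (e₀ G) ≫ G.hom)
  letI : Algebra k O := κ.hom.toAlgebra
  let χc := Scheme.stalkClosedPointTo η[G].left
  have hκ : Spec.map κ = G.left.fromSpecStalk (e₀ G) ≫ G.hom := Spec.map_preimage _
  have hχ : Spec.map χc ≫ G.left.fromSpecStalk (e₀ G) = η[G].left := Scheme.Spec_stalkClosedPointTo_fromSpecStalk _
  have hφ : Spec.map φc ≫ G.left.fromSpecStalk (e₀ G) = G.left.fromSpecStalk (e₀ G) ≫ N := by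
    rw [Spec.map_comp, Category.assoc, Scheme.SpecMap_stalkSpecializes_fromSpecStalk,
      Scheme.SpecMap_stalkMap_fromSpecStalk]
  have hχκ : κ ≫ χc = 𝟙 _ := Spec.map_injective (by
    rw [Spec.map_comp, hκ, ← Category.assoc, hχ, Spec.map_id]; exact Over.w η[G])
  have hφκ : κ ≫ φc = κ := Spec.map_injective (by
    rw [Spec.map_comp, hκ, ← Category.assoc, hφ, Category.assoc]
    exact congrArg (G.left.fromSpecStalk (e₀ G) ≫ ·) (Over.w u))
  have hφχ : φc ≫ χc = χc := Spec.map_injective (by
    rw [← cancel_mono (G.left.fromSpecStalk (e₀ G)), Spec.map_comp, Category.assoc, hφ, ← Category.assoc, hχ, hu1])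
  let φ : O →ₐ[k] O := { φc.hom with commutes' := fun c => congrArg (fun t => t.hom c) hφκ }
  let χ : O →ₐ[k] k := { χc.hom with commutes' := fun c => congrArg (fun t => t.hom c) hχκ }
  have hχφ : χ.comp φ = χ := AlgHom.ext fun x => congrArg (fun t => t.hom x) hφχ
  have hker : ∀ x, χ x = 0 ↔ x ∈ maximalIdeal O := fun x => by
    have hs : Function.Surjective χ := fun c => ⟨algebraMap k O c, χ.commutes c⟩
    have := IsLocalRing.eq_maximalIdeal (RingHom.ker_isMaximal_of_surjective χ.toRingHom hs)
    rw [← this]; exact Iff.rfl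
  have hcot : ∀ x ∈ maximalIdeal O, φ x - (n : k) • x ∈ maximalIdeal O ^ 2 := by
    intro x hx
    by_contra hz
    obtain ⟨f, hfz, hf⟩ := exists_functional (k := k) _ hz
    let q := dualPt χ (maximalIdeal O) (fun b => (hker b).1) f hf
    let w : tpt (𝟙 (Spec (CommRingCat.of k))) k ⟶ G :=
      Over.homMk (Spec.map (CommRingCat.ofHom q.toRingHom) ≫ G.left.fromSpecStalk (e₀ G)) (by
        rw [Category.assoc, ← hκ]
        refine ((Spec.map_comp κ (CommRingCat.ofHom q.toRingHom)).symm.trans ?_).trans (Category.comp_id _).symm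
        congr 1
        exact CommRingCat.hom_ext q.comp_algebraMap)
    have hw : zsec (𝟙 (Spec (CommRingCat.of k))) ≫ w = 1 := by
      refine Over.OverMorphism.ext ?_
      show Spec.map _ ≫ Spec.map _ ≫ _ = Over.Hom.left (toUnit (LieS.pt k (𝟙 (Spec (CommRingCat.of k))))) ≫ η[G].left
      rw [← Category.assoc, LieS.specMap_comp, show Over.Hom.left (toUnit (LieS.pt k (𝟙 (Spec (CommRingCat.of k)))) : _ ⟶ 𝟙_ (Over (Spec (CommRingCat.of k)))) = 𝟙 _
        from rfl, Category.id_comp, ← hχ]
      congr 2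
      ext b
      simp [q, dualPt]
      rfl
    have hpow : w ≫ u = tmap (𝟙 (Spec (CommRingCat.of k))) ((n : ℤ) • LinearMap.id : k →ₗ[k] k) ≫ w := by
      rw [← zpow_eq_tmap_comp _ hw, zpow_natCast, MonObj.comp_pow, Category.comp_id]
    have hl := congrArg (fun t => Over.Hom.left t) hpow
    simp only [Over.comp_left, w, Over.homMk_left, tmap_left, Category.assoc] at hl
    rw [show u.left = N from rfl, ← hφ, ← Category.assoc, ← Category.assoc] at hl
    replace hl : Spec.map (φc ≫ CommRingCat.ofHom q.toRingHom) = Spec.map (CommRingCat.ofHom q.toRingHom ≫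
        CommRingCat.ofHom (TrivSqZeroExt.map ((n : ℤ) • LinearMap.id : k →ₗ[k] k)).toRingHom) := by
      rw [Spec.map_comp φc, Spec.map_comp (CommRingCat.ofHom q.toRingHom)]
      exact (cancel_mono (G.left.fromSpecStalk (e₀ G))).1 hl
    have hq : ∀ b, q (φ b) = TrivSqZeroExt.map ((n : ℤ) • LinearMap.id : k →ₗ[k] k) (q b) := fun b =>
      congrArg (fun t => t.hom b) (Spec.map_injective hl)
    have h1 := congrArg TrivSqZeroExt.snd (hq x)
    have hx0 : χ x = 0 := (hker x).2 hx
    have hx1 : χ (φ x) = 0 := (AlgHom.congr_fun hχφ x).trans hx0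
    simp [q, dualPt, hx0, hx1] at h1
    exact hfz (by rw [map_sub, map_smul, h1, smul_eq_mul, mul_comm, sub_self])
  have hflat : φc.hom.Flat := flat_endo φ χ hχφ hker hn hcot
  have hmap : (maximalIdeal O).map φc.hom = maximalIdeal O := map_maximalIdeal φ χ hχφ hker hn hcot
  refine (FlatLocal.etale_nhd_iff N (e₀ G)).2 ⟨?_, ?_⟩
  · have : N.stalkMap (e₀ G) = inv σ ≫ φc := by simp [φc]
    rw [this]
    exact (RingHom.Flat.respectsIso.cancel_left_isIso (inv σ) φc).2 hflat
  · rw [FlatLocal.formallyUnramified_stalkMap_iff]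
    have hσ : (maximalIdeal O).map σ.hom = maximalIdeal (G.left.presheaf.stalk (N.base (e₀ G))) :=
      IsLocalRing.map_maximalIdeal_of_surjective _ (ConcreteCategory.bijective_of_isIso σ).2
    refine ⟨?_, ?_⟩
    · letI := (N.residueFieldMap (e₀ G)).hom.toAlgebra
      have hs : Function.Surjective (algebraMap (G.left.residueField (N.base (e₀ G))) (G.left.residueField (e₀ G))) := by
        intro y
        obtain ⟨b, rfl⟩ := IsLocalRing.residue_surjective y
        refine ⟨IsLocalRing.residue _ (σ.hom (algebraMap k O (χ b))), ?_⟩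
        show IsLocalRing.residue _ (φ (algebraMap k O (χ b))) = IsLocalRing.residue _ b
        rw [φ.commutes]
        refine Ideal.Quotient.eq.2 ?_
        rw [← hker, map_sub, χ.commutes]
        simp
      exact Algebra.IsSeparable.of_equiv_equiv (RingEquiv.refl (G.left.residueField (N.base (e₀ G))))
        (RingEquiv.ofBijective (algebraMap (G.left.residueField (N.base (e₀ G))) (G.left.residueField (e₀ G)))
          ⟨RingHom.injective (algebraMap (G.left.residueField (N.base (e₀ G))) (G.left.residueField (e₀ G))), hs⟩) (RingHom.ext fun _ => rfl)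
    · conv_lhs => rw [← hσ, Ideal.map_map]
      exact hmap

end Groth.Agent.SGA3Power26
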