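import Groth.Agent.TorsorHartogs.Hartogs
import Groth.Agent.EGA43.QcohFP
import Groth.Agent.Props12.FlatOver
import Groth.Agent.Coherent.QcohLocal
import Groth.Agent.CAlgH3.Serre
import Groth.Prelude.Def_Pi1
import Mathlib.RingTheory.Flat.Basic
import Mathlib.RingTheory.Localization.BaseChange
import Mathlib.LinearAlgebra.TensorProduct.Pi

/-!
# Flat quasi-coherent modules satisfy Hartogs whenever the structure sheaf does
-/

set_option autoImplicit false
set_option backward.isDefEq.respectTransparency false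
set_option linter.style.haveILetI false
universe u v

open CategoryTheory AlgebraicGeometry Opposite TopologicalSpace TensorProduct
open Groth.Agent.Coherent

namespace Groth.Agent.SGA3Power26

/-- Tensoring a left exact sequence `0 → R → Π P → Π Q` with a flat module, read through given
identifications of the factors. -/
theorem exists_of_flat_exact {R : Type u} [CommRing R] {M : Type u} [AddCommGroup M] [Module R M]
    [Module.Flat R M] {ι : Type u} {κ : Type u} [Fintype ι] [DecidableEq ι] [Fintype κ] [DecidableEq κ]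
    {P : ι → Type u} [∀ i, AddCommGroup (P i)] [∀ i, Module R (P i)]
    {Q : κ → Type u} [∀ k, AddCommGroup (Q k)] [∀ k, Module R (Q k)]
    {N : ι → Type u} [∀ i, AddCommGroup (N i)] [∀ i, Module R (N i)]
    {N' : κ → Type u} [∀ k, AddCommGroup (N' k)] [∀ k, Module R (N' k)]
    (φ : R →ₗ[R] ∀ i, P i) (ψ : (∀ i, P i) →ₗ[R] ∀ k, Q k)
    (hφ : Function.Injective φ) (hex : Function.Exact φ ψ)
    (e : ∀ i, M ⊗[R] P i ≃ₗ[R] N i) (e' : ∀ k, M ⊗[R] Q k ≃ₗ[R] N' k) :
    (∀ m : M, (∀ i, e i (m ⊗ₜ φ 1 i) = 0) → m = 0) ∧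
    ∀ x : ∀ i, N i, (∀ z : M ⊗[R] (∀ i, P i), (∀ i, e i (piRightHom R R M P z i) = x i) →
        ∀ k, e' k (piRightHom R R M Q (ψ.lTensor M z) k) = 0) →
      ∃ m : M, ∀ i, e i (m ⊗ₜ φ 1 i) = x i := by
  have hinj := Module.Flat.lTensor_preserves_injective_linearMap (M := M) φ hφ
  have hex' := Module.Flat.lTensor_exact M hex
  constructor
  · intro m hm
    have h0 : m ⊗ₜ[R] φ 1 = 0 := by
      apply (piRight R R M P).injective
      rw [map_zero]
      funext i
      rw [piRight_apply, piRightHom_tmul, Pi.zero_apply]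
      exact (e i).map_eq_zero_iff.1 (hm i)
    have h1 : m ⊗ₜ[R] (1 : R) = 0 := hinj (by rw [LinearMap.lTensor_tmul, h0, map_zero])
    simpa using congrArg (TensorProduct.rid R M) h1
  · intro x hx
    obtain ⟨z, hz⟩ : ∃ z : M ⊗[R] (∀ i, P i), ∀ i, e i (piRightHom R R M P z i) = x i :=
      ⟨(piRight R R M P).symm fun i => (e i).symm (x i), fun i => by
        rw [← piRight_apply, LinearEquiv.apply_symm_apply, LinearEquiv.apply_symm_apply]⟩
    have h0 : ψ.lTensor M z = 0 := by
      apply (piRight R R M Q).injective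
      rw [map_zero]
      funext k
      rw [piRight_apply, Pi.zero_apply]
      exact (e' k).map_eq_zero_iff.1 (hx z hz k)
    obtain ⟨w, hw⟩ := (hex' z).1 h0
    refine ⟨TensorProduct.rid R M w, fun i => ?_⟩
    rw [← hz i, ← hw, show w = (TensorProduct.rid R M w) ⊗ₜ[R] (1 : R) from
      ((TensorProduct.rid R M).symm_apply_apply w).symm.trans (TensorProduct.rid_symm_apply _)]
    simp

variable {X : Scheme.{u}}

/-- Sections of a flat quasi-coherent module over an affine open extend uniquely wherever those of the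
structure sheaf do. -/
theorem bijective_resM_of_flat (M : X.Modules) [Coh.IsQCoh M] {V : X.Opens} (hV : IsAffineOpen V)
    (hfl : Module.Flat Γ(X, V) Γ(M, V)) {W : X.Opens} (hWV : W ≤ V) (hWc : IsCompact (W : Set X))
    (hO : Function.Bijective (X.presheaf.map (homOfLE hWV).op)) :
    Function.Bijective (resM M hWV) := by
  classical
  choose F hFW hxF using fun x : (W : Set X) => hV.exists_basicOpen_le ⟨x.1, x.2⟩ (hWV x.2)
  obtain ⟨t, ht⟩ := hWc.elim_finite_subcover (fun x => (X.basicOpen (F x) : Set X))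
    (fun x => (X.basicOpen (F x)).isOpen) (fun x hx => Set.mem_iUnion.2 ⟨⟨x, hx⟩, hxF ⟨x, hx⟩⟩)
  let f : ↥t → Γ(X, V) := fun i => F i.1
  have hfW : ∀ i, X.basicOpen (f i) ≤ W := fun i => hFW i.1
  have hcov : W ≤ ⨆ i, X.basicOpen (f i) := fun x hx => by
    obtain ⟨i, hi, hxi⟩ := Set.mem_iUnion₂.1 (ht hx)
    exact Opens.mem_iSup.2 ⟨⟨i, hi⟩, hxi⟩
  letI : ∀ g : Γ(X, V), Algebra Γ(X, V) Γ(X, X.basicOpen g) := fun g =>
    (X.presheaf.map (homOfLE (X.basicOpen_le g)).op).hom.toAlgebra
  letI : ∀ g : Γ(X, V), Module Γ(X, V) Γ(M, X.basicOpen g) := fun g =>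
    Module.compHom _ (X.presheaf.map (homOfLE (X.basicOpen_le g)).op).hom
  haveI : ∀ g : Γ(X, V), IsScalarTower Γ(X, V) Γ(X, X.basicOpen g) Γ(M, X.basicOpen g) :=
    fun g => IsScalarTower.of_algebraMap_smul fun _ _ => rfl
  let res' : ∀ g : Γ(X, V), Γ(M, V) →ₗ[Γ(X, V)] Γ(M, X.basicOpen g) := fun g =>
    { toFun := resM M (X.basicOpen_le g)
      map_add' := fun a b => map_add _ a b
      map_smul' := fun r m => resM_smul M _ r m }
  have hloc : ∀ g : Γ(X, V), IsLocalizedModule.Away g (res' g) := fun g =>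
    EGA43.QcohFP.isLocalizedModule_res M hV g (res' g) fun _ => rfl
  have hbc : ∀ g : Γ(X, V), IsBaseChange Γ(X, X.basicOpen g) (res' g) := fun g =>
    haveI := hV.isLocalization_basicOpen g
    haveI := hloc g
    IsLocalizedModule.isBaseChange (Submonoid.powers g) _ _
  let e : ∀ g : Γ(X, V), Γ(M, V) ⊗[Γ(X, V)] Γ(X, X.basicOpen g) ≃ₗ[Γ(X, V)] Γ(M, X.basicOpen g) :=
    fun g => TensorProduct.comm _ _ _ ≪≫ₗ (hbc g).equiv.restrictScalars _
  have he : ∀ g (m : Γ(M, V)) (s : Γ(X, X.basicOpen g)),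
      e g (m ⊗ₜ s) = s • resM M (X.basicOpen_le g) m := fun g m s => (hbc g).equiv_tmul s m
  have hij1 : ∀ i j : ↥t, X.basicOpen (f i * f j) ≤ X.basicOpen (f i) := fun i j => by
    rw [Scheme.basicOpen_mul]; exact inf_le_left
  have hij2 : ∀ i j : ↥t, X.basicOpen (f i * f j) ≤ X.basicOpen (f j) := fun i j => by
    rw [Scheme.basicOpen_mul]; exact inf_le_right
  let φ : Γ(X, V) →ₗ[Γ(X, V)] ∀ i : ↥t, Γ(X, X.basicOpen (f i)) :=
    LinearMap.pi fun i => Algebra.linearMap _ _
  let rO : ∀ {i : ↥t} {g : Γ(X, V)}, X.basicOpen g ≤ X.basicOpen (f i) →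
      (Γ(X, X.basicOpen (f i)) →ₗ[Γ(X, V)] Γ(X, X.basicOpen g)) := fun {i g} h =>
    { toFun := X.presheaf.map (homOfLE h).op
      map_add' := fun a b => map_add _ a b
      map_smul' := fun r s => by
        rw [Algebra.smul_def, Algebra.smul_def, map_mul, RingHom.id_apply]
        congr 1
        show X.presheaf.map _ (X.presheaf.map _ r) = X.presheaf.map _ r
        rw [← CommRingCat.comp_apply, ← Functor.map_comp]
        rfl }
  let ψ : (∀ i : ↥t, Γ(X, X.basicOpen (f i))) →ₗ[Γ(X, V)]
      ∀ k : ↥t × ↥t, Γ(X, X.basicOpen (f k.1 * f k.2)) :=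
    LinearMap.pi fun k => rO (hij1 k.1 k.2) ∘ₗ LinearMap.proj k.1 - rO (hij2 k.1 k.2) ∘ₗ LinearMap.proj k.2
  have hφ : Function.Injective φ := fun a b hab => hO.1 <| by
    refine TopCat.Sheaf.eq_of_locally_eq' X.sheaf (fun i => X.basicOpen (f i)) W
      (fun i => homOfLE (hfW i)) hcov _ _ fun i => ?_
    have := congrFun hab i
    show X.presheaf.map _ (X.presheaf.map _ a) = X.presheaf.map _ (X.presheaf.map _ b)
    rw [← CommRingCat.comp_apply, ← CommRingCat.comp_apply, ← Functor.map_comp]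
    exact this
  have hex : Function.Exact φ ψ := by
    intro s
    constructor
    · intro hs
      obtain ⟨w, hw, -⟩ := TopCat.Sheaf.existsUnique_gluing' X.sheaf (fun i => X.basicOpen (f i)) W
        (fun i => homOfLE (hfW i)) hcov s (fun i j => by
          have h := congrFun hs (i, j)
          have h' : X.presheaf.map (homOfLE (hij1 i j)).op (s i) =
              X.presheaf.map (homOfLE (hij2 i j)).op (s j) := sub_eq_zero.1 h
          have hle : X.basicOpen (f i) ⊓ X.basicOpen (f j) ≤ X.basicOpen (f i * f j) := by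
            rw [Scheme.basicOpen_mul]
          have h'' := congr(X.presheaf.map (homOfLE hle).op $h')
          rw [← CommRingCat.comp_apply, ← CommRingCat.comp_apply, ← Functor.map_comp,
            ← Functor.map_comp] at h''
          exact h'')
      obtain ⟨r, hr⟩ := hO.2 w
      refine ⟨r, funext fun i => ?_⟩
      rw [← hw i, ← hr]
      show X.presheaf.map _ r = X.presheaf.map _ (X.presheaf.map _ r)
      rw [← CommRingCat.comp_apply, ← Functor.map_comp]
      rfl
    · rintro ⟨r, rfl⟩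
      funext k
      show X.presheaf.map _ (X.presheaf.map _ r) - X.presheaf.map _ (X.presheaf.map _ r) = 0
      rw [← CommRingCat.comp_apply, ← CommRingCat.comp_apply, ← Functor.map_comp, ← Functor.map_comp]
      exact sub_self _
  obtain ⟨hinj, hsurj⟩ := exists_of_flat_exact φ ψ hφ hex (fun i => e (f i))
    (fun k => e (f k.1 * f k.2))
  have he1 : ∀ (m : Γ(M, V)) i, e (f i) (m ⊗ₜ φ 1 i) = resM M (X.basicOpen_le (f i)) m := fun m i => by
    rw [he]
    show (algebraMap Γ(X, V) Γ(X, X.basicOpen (f i))) 1 • _ = _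
    rw [map_one, one_smul]
  refine ⟨fun a b hab => sub_eq_zero.1 (hinj _ fun i => ?_), fun x => ?_⟩
  · rw [he1, map_sub, sub_eq_zero, ← resM_resM M hWV (hfW i) a, hab, resM_resM]
  · obtain ⟨m, hm⟩ := hsurj (fun i => resM M (hfW i) x) fun z hz k => by
      have key : ∀ z' : Γ(M, V) ⊗[Γ(X, V)] (∀ i : ↥t, Γ(X, X.basicOpen (f i))),
          e (f k.1 * f k.2) (piRightHom Γ(X, V) Γ(X, V) Γ(M, V) _ (ψ.lTensor Γ(M, V) z') k) =
          resM M (hij1 k.1 k.2) (e (f k.1) (piRightHom Γ(X, V) Γ(X, V) Γ(M, V) _ z' k.1)) -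
          resM M (hij2 k.1 k.2) (e (f k.2) (piRightHom Γ(X, V) Γ(X, V) Γ(M, V) _ z' k.2)) := fun z' => by
        induction z' using TensorProduct.induction_on with
        | zero => simp only [map_zero, Pi.zero_apply, sub_zero]
        | tmul m s =>
          simp only [LinearMap.lTensor_tmul, piRightHom_tmul, he, resM_smul, resM_resM]
          rw [show ψ s k = rO (hij1 k.1 k.2) (s k.1) - rO (hij2 k.1 k.2) (s k.2) from rfl, sub_smul]
          rfl
        | add a b ha hb => simp only [map_add, Pi.add_apply, ha, hb]; abel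
      rw [key, hz, hz, resM_resM, resM_resM, sub_self]
    refine ⟨m, TopCat.Sheaf.eq_of_locally_eq' (⟨M.presheaf, M.isSheaf⟩ : TopCat.Sheaf Ab X)
      (fun i => X.basicOpen (f i)) W (fun i => homOfLE (hfW i)) hcov _ _ fun i => ?_⟩
    show resM M (hfW i) (resM M hWV m) = resM M (hfW i) x
    rw [resM_resM, ← he1, hm]

/-- A morphism bijective on a basis is an isomorphism. -/
theorem isIso_of_bijective_basis {X : Scheme.{u}} {M N : X.Modules} (φ : M ⟶ N) (P : X.Opens → Prop)
    (hP : ∀ (V : X.Opens) (y : X), y ∈ V → ∃ B, P B ∧ y ∈ B ∧ B ≤ V)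
    (h : ∀ B, P B → Function.Bijective (φ.app B)) : IsIso φ := by
  have hinj : ∀ V : X.Opens, Function.Injective (φ.app V) := fun V a b hab => by
    choose B hB hyB hBV using fun y : V => hP V y.1 y.2
    refine TopCat.Sheaf.eq_of_locally_eq' (⟨M.presheaf, M.isSheaf⟩ : TopCat.Sheaf Ab X) B V
      (fun y => homOfLE (hBV y)) (fun y hy => Opens.mem_iSup.2 ⟨⟨y, hy⟩, hyB ⟨y, hy⟩⟩) a b fun y => (h _ (hB y)).1 ?_
    show φ.app _ (resM M (hBV y) a) = φ.app _ (resM M (hBV y) b)
    rw [app_resM, app_resM, hab]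
  refine Scheme.Modules.Hom.isIso_iff_isIso_app.mpr fun V =>
    (ConcreteCategory.isIso_iff_bijective _).mpr ⟨hinj V, fun z => ?_⟩
  choose B hB hyB hBV using fun y : V => hP V y.1 y.2
  choose w hw using fun y : V => (h (B y) (hB y)).2 (resM N (hBV y) z)
  have hle : V ≤ ⨆ y : V, B y := fun y hy => Opens.mem_iSup.2 ⟨⟨y, hy⟩, hyB ⟨y, hy⟩⟩
  obtain ⟨ρ, hρ, -⟩ := TopCat.Sheaf.existsUnique_gluing' (⟨M.presheaf, M.isSheaf⟩ : TopCat.Sheaf Ab X)
    B V (fun y => homOfLE (hBV y)) hle w fun a b => by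
      refine hinj _ ?_
      show φ.app _ (resM M inf_le_left (w a)) = φ.app _ (resM M inf_le_right (w b))
      rw [app_resM, app_resM, hw, hw, resM_resM, resM_resM]
  refine ⟨ρ, TopCat.Sheaf.eq_of_locally_eq' (⟨N.presheaf, N.isSheaf⟩ : TopCat.Sheaf Ab X) B V
    (fun y => homOfLE (hBV y)) hle _ _ fun y => ?_⟩
  show resM N (hBV y) (φ.app V ρ) = resM N (hBV y) z
  rw [← app_resM, ← hw y]
  exact congrArg _ (hρ y)

theorem flat_compHom_id {R N : Type u} [CommRing R] [AddCommGroup N] [Module R N] (φ : R →+* R)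
    (hφ : φ = RingHom.id R) (h : Module.Flat R N) :
    @Module.Flat R N _ _ (Module.compHom N φ) := by
  subst hφ; exact h

theorem flat_of_compHom_id {R N : Type u} [CommRing R] [AddCommGroup N] [Module R N] (φ : R →+* R)
    (hφ : φ = RingHom.id R) (h : @Module.Flat R N _ _ (Module.compHom N φ)) :
    Module.Flat R N := by
  subst hφ; exact h

theorem two_le_of_not_le_one {d : WithBot ℕ∞} (h : ¬ d ≤ 1) : 2 ≤ d := by
  induction d using WithBot.recBotCoe with
  | bot => exact absurd bot_le h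
  | coe n =>
    induction n using ENat.recTopCoe with
    | top => exact WithBot.coe_le_coe.2 le_top
    | coe n =>
      by_contra h2
      exact h (WithBot.coe_le_coe.2 (ENat.natCast_le_natCast.2 (show n ≤ 1 by
        by_contra hn
        exact h2 (WithBot.coe_le_coe.2 (ENat.natCast_le_natCast.2 (show 2 ≤ n by omega))))))

/-- On a normal Noetherian scheme a flat quasi-coherent module is the direct image of its restriction
to an open containing all points of codimension at most one. -/
theorem isIso_unit_of_flat (S : Scheme.{u}) [IsNoetherian S] (hS : Pi1.IsNormalScheme S)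
    (A : S.Modules) [Coh.IsQCoh A] (hAfl : FlatMod.IsFlat A) (U : S.Opens)
    (hU : ∀ s : S, ringKrullDim (S.presheaf.stalk s) ≤ 1 → s ∈ U) :
    IsIso ((Scheme.Modules.restrictAdjunction U.ι).unit.app A) := by
  refine isIso_of_bijective_basis _ (fun B => IsAffineOpen B) (fun V y hy => by
    obtain ⟨B, hB, hyB, hBV⟩ := Opens.isBasis_iff_nbhd.mp S.isBasis_affineOpens hy
    exact ⟨B, hB, hyB, hBV⟩) fun V hV => ?_
  have hcpt : IsCompact ((V ⊓ U : S.Opens) : Set S) := NoetherianSpace.isCompact _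
  have hfl : Module.Flat Γ(S, V) Γ(A, V) := by
    have h := (Props12.flat_sections_iff (𝟙 S) A hV hV (le_refl V)).2 fun x _ =>
      @flat_compHom_id (S.presheaf.stalk x) (A.presheaf.stalk x) _ _ _
        (Scheme.Hom.stalkMap (𝟙 S) x).hom (by rw [Scheme.Hom.stalkMap_id]; rfl) (hAfl x)
    exact flat_of_compHom_id ((𝟙 S : S ⟶ S).appLE V V le_rfl).hom (by
      rw [Scheme.Hom.appLE, Scheme.Hom.id_app, Category.id_comp]
      exact congrArg CommRingCat.Hom.hom (S.presheaf.map_id (op V))) h
  haveI : QuasiCompact U.ι := inferInstance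
  have hO : Function.Bijective (S.presheaf.map (homOfLE (inf_le_left : V ⊓ U ≤ V)).op) :=
    TorsorHartogs.bijective_restrict U (fun x _ => inferInstance) (fun x hx => by
      haveI := (hS x).1
      haveI := (hS x).2
      exact CAlgH3.two_le_depth_of_normal (two_le_of_not_le_one fun h => hx (hU x h))) hV rfl inf_le_left
  have key : ∀ {W : S.Opens} (_ : W = V ⊓ U) (hle : W ≤ V), Function.Bijective (resM A hle) := by
    intro W e hle; subst e; exact bijective_resM_of_flat A hV hfl hle hcpt hO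
  exact key (((U.ι.image_preimage_eq_opensRange_inf V).trans
    (by rw [Scheme.Opens.opensRange_ι])).trans (inf_comm _ _)) (U.ι.image_preimage_le V)

end Groth.Agent.SGA3Power26
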