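import Groth.Agent.SGA3Power26.PowerUnit
import Groth.Agent.SGA3cLib.BCPoints
import Mathlib.AlgebraicGeometry.Morphisms.LocalFlatDescent
import Mathlib.AlgebraicGeometry.AlgClosed.Basic
import Mathlib.FieldTheory.IsAlgClosed.AlgebraicClosure

/-! The `n`-th power map is etale at central rational points, hence everywhere for commutative groups. -/

set_option autoImplicit false
set_option backward.isDefEq.respectTransparency.types false
set_option linter.style.haveILetI false

universe u

open CategoryTheory Limits MonoidalCategory CartesianMonoidalCategory MonObj GrpObj AlgebraicGeometry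
open IsLocalRing (closedPoint)

namespace Groth.Agent.SGA3Power26

variable {k : Type u} [Field k] (G : Over (Spec (CommRingCat.of k))) [GrpObj G]

/-- Left translation by a rational point. -/
noncomputable def transl (a : 𝟙_ (Over (Spec (CommRingCat.of k))) ⟶ G) : G ⟶ G := (toUnit G ≫ a) * 𝟙 G

theorem transl_comp (a b : 𝟙_ (Over (Spec (CommRingCat.of k))) ⟶ G) :
    transl G a ≫ transl G b = transl G (b * a) := by
  rw [transl, transl, transl, MonObj.comp_mul, ← Category.assoc, toUnit_unique (_ ≫ toUnit G) (toUnit G),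
    Category.comp_id, MonObj.comp_mul, _root_.mul_assoc]

theorem transl_one : transl G 1 = 𝟙 G := by
  rw [transl, MonObj.comp_one, _root_.one_mul]

/-- Translation as an automorphism. -/
noncomputable def translIso (a : 𝟙_ (Over (Spec (CommRingCat.of k))) ⟶ G) : G ≅ G where
  hom := transl G a
  inv := transl G a⁻¹
  hom_inv_id := by rw [transl_comp, inv_mul_cancel, transl_one]
  inv_hom_id := by rw [transl_comp, mul_inv_cancel, transl_one]

variable [LocallyOfFiniteType G.hom] {n : ℕ}

/-- The power map is etale near every central rational point. -/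
theorem etale_nhd_central (hn : (n : k) ≠ 0) (g : 𝟙_ (Over (Spec (CommRingCat.of k))) ⟶ G)
    (hg : Commute (toUnit G ≫ g) (𝟙 G)) :
    ∃ U : G.left.Opens, Set.range g.left.base ⊆ (U : Set G.left) ∧
      Etale (U.ι ≫ ((𝟙 G : G ⟶ G) ^ n).left) := by
  obtain ⟨U, hU, hE⟩ := etale_nhd_unit G hn
  let u : G ⟶ G := (𝟙 G : G ⟶ G) ^ n
  have hrel : transl G g ≫ u = u ≫ transl G (g ^ n) := by
    rw [transl, transl, MonObj.comp_pow, Category.comp_id, hg.mul_pow, MonObj.comp_mul, ← Category.assoc,
      toUnit_unique (u ≫ toUnit G) (toUnit G), Category.comp_id, MonObj.comp_pow]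
  have hu : u = transl G g⁻¹ ≫ u ≫ transl G (g ^ n) := by
    rw [← hrel, ← Category.assoc, transl_comp, mul_inv_cancel, transl_one, Category.id_comp]
  let t := (transl G g⁻¹).left
  haveI : IsIso t := inferInstanceAs (IsIso ((Over.forget _).map (translIso G g).inv))
  haveI : IsIso (transl G (g ^ n)).left :=
    inferInstanceAs (IsIso ((Over.forget _).map (translIso G (g ^ n)).hom))
  refine ⟨t ⁻¹ᵁ U, ?_, ?_⟩
  · rintro _ ⟨p, rfl⟩
    show (g ≫ transl G g⁻¹).left.base p ∈ U
    haveI : Subsingleton ↥(𝟙_ (Over (Spec (CommRingCat.of k)))).left :=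
      inferInstanceAs (Subsingleton (PrimeSpectrum k))
    rw [transl, MonObj.comp_mul, ← Category.assoc, toUnit_unique (g ≫ toUnit G) (𝟙 _), Category.id_comp,
      Category.comp_id, inv_mul_cancel, Hom.one_def, toUnit_unique (toUnit (𝟙_ _)) (𝟙 _), Category.id_comp,
      Subsingleton.elim p (closedPoint k)]
    exact hU
  · have e : (t ⁻¹ᵁ U).ι ≫ u.left = ((t ∣_ U) ≫ (U.ι ≫ u.left)) ≫ (transl G (g ^ n)).left := by
      conv_lhs => rw [hu, Over.comp_left, Over.comp_left]
      rw [Category.assoc, Category.assoc, morphismRestrict_ι_assoc]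
    rw [e]
    haveI : Etale (U.ι ≫ u.left) := hE
    infer_instance

/-- On a commutative algebraic group the power map is etale. -/
theorem etale_of_isCommMonObj [IsCommMonObj G] (hn : (n : k) ≠ 0) : Etale ((𝟙 G : G ⟶ G) ^ n).left := by
  let K := AlgebraicClosure k
  let f : Spec (CommRingCat.of K) ⟶ Spec (CommRingCat.of k) := Spec.map (CommRingCat.ofHom (algebraMap k K))
  let G' : Over (Spec (CommRingCat.of K)) := Red.bc f G
  haveI : LocallyOfFiniteType G'.hom := MorphismProperty.pullback_snd G.hom f inferInstance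
  haveI : JacobsonSpace G'.left := LocallyOfFiniteType.jacobsonSpace G'.hom
  have hn' : (n : K) ≠ 0 := fun h => hn ((algebraMap k K).injective (by rw [map_natCast, map_zero]; exact h))
  let u' : G' ⟶ G' := (𝟙 G' : G' ⟶ G') ^ n
  haveI := AlgGrpLib.ExactSeqBasics.locallyOfFinitePresentation_left u'
  have hcomm : ∀ {X : Over (Spec (CommRingCat.of K))} (a b : X ⟶ G'), Commute a b := fun {X} a b => by
    obtain ⟨a, rfl⟩ := (SGA3cLib.BCPoints.pt f G X).surjective a
    obtain ⟨b, rfl⟩ := (SGA3cLib.BCPoints.pt f G X).surjective b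
    show _ * _ = _ * _
    rw [← SGA3cLib.BCPoints.pt_mul, ← SGA3cLib.BCPoints.pt_mul, mul_comm a b]
  have hloc : ∀ z : G'.left, ∃ U : G'.left.Opens, z ∈ U ∧ Etale (U.ι ≫ u'.left) := by
    by_contra hne
    push Not at hne
    let O : Set G'.left := {z | ∃ U : G'.left.Opens, z ∈ U ∧ Etale (U.ι ≫ u'.left)}
    have hO : IsOpen O := isOpen_iff_forall_mem_open.2 fun z ⟨U, hz, hE⟩ => ⟨U, fun w hw => ⟨U, hw, hE⟩, U.2, hz⟩
    obtain ⟨z₀, hz₀⟩ := hne
    obtain ⟨z, hz, hzc⟩ := nonempty_inter_closedPoints (Z := Oᶜ)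
      ⟨z₀, fun ⟨U, h1, h2⟩ => hz₀ U h1 h2⟩ hO.isClosed_compl.isLocallyClosed
    let g : 𝟙_ (Over (Spec (CommRingCat.of K))) ⟶ G' :=
      Over.homMk (pointOfClosedPoint G'.hom z hzc) (pointOfClosedPoint_comp _ _ _)
    obtain ⟨U, hU, hE⟩ := etale_nhd_central G' hn' g (hcomm _ _)
    exact hz ⟨U, hU ⟨closedPoint K, pointOfClosedPoint_apply _ _ _ _⟩, hE⟩
  haveI hE' : Etale u'.left := by
    choose U hU hE using hloc
    exact IsZariskiLocalAtSource.of_iSup_eq_top U
      (TopologicalSpace.Opens.ext (Set.eq_univ_of_forall fun z => by simpa using ⟨z, hU z⟩)) hE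
  let F := Over.pullback f
  have hmap : F.map ((𝟙 G : G ⟶ G) ^ n) = u' := by
    rw [show F.map ((𝟙 G : G ⟶ G) ^ n) = (F.map (𝟙 G)) ^ n from map_pow F.homMonoidHom _ n, F.map_id]
  have sq : IsPullback (F.map ((𝟙 G : G ⟶ G) ^ n)).left (pullback.fst G.hom f) (pullback.fst G.hom f)
      ((𝟙 G : G ⟶ G) ^ n).left := by
    refine IsPullback.of_right (h₁₂ := pullback.snd G.hom f) (v₁₃ := f) (h₂₂ := G.hom) ?_
      (pullback.lift_fst _ _ _) (IsPullback.of_hasPullback G.hom f).flip
    rw [show (F.map ((𝟙 G : G ⟶ G) ^ n)).left ≫ pullback.snd G.hom f = pullback.snd G.hom f from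
      pullback.lift_snd _ _ _, Over.w]
    exact (IsPullback.of_hasPullback G.hom f).flip
  rw [hmap] at sq
  refine MorphismProperty.of_isPullback_of_descendsAlong (P := @Etale)
    (Q := @Surjective ⊓ @Flat ⊓ @QuasiCompact) sq ?_ hE'
  refine ⟨⟨?_, ?_⟩, ?_⟩ <;> refine MorphismProperty.pullback_fst G.hom f ?_ <;> infer_instance

end Groth.Agent.SGA3Power26
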