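import Groth.Agent.SGA3Power26.PowerCentral
import Groth.Agent.SGA3Homog26.Fibrewise
import Groth.Agent.FlatMor12.FibreFlat
import Groth.Agent.AlgSpLib.DeformIso
import Groth.Agent.FEtLib.EqLocus
import Groth.Agent.SGA3cLib.BCPoints
import Groth.Agent.S2806

/-! The power map is etale near central sections, also over thickenings; lifting through etale maps. -/

set_option autoImplicit false
set_option backward.isDefEq.respectTransparency.types false
set_option linter.style.haveILetI false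

universe u

open CategoryTheory CategoryTheory.Limits MonoidalCategory CartesianMonoidalCategory MonObj AlgebraicGeometry

noncomputable section

namespace Groth.Agent.SGA3Power26

/-- Morphisms etale over the base lift uniquely along surjective closed immersions. -/
theorem exists_lift_of_etale {U S Z Z₀ : Scheme.{u}} (p : U ⟶ S) [Etale p] (i : Z₀ ⟶ Z) [IsClosedImmersion i]
    [Surjective i] (m : Z₀ ⟶ U) (β : Z ⟶ S) (w : m ≫ p = i ≫ β) : ∃ l : Z ⟶ U, l ≫ p = β ∧ i ≫ l = m := by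
  let pr := pullback.snd p β
  let fstI := pullback.fst pr i
  let pr₀ := pullback.snd pr i
  let s₀ : Z₀ ⟶ pullback pr i := pullback.lift (pullback.lift m i w) (𝟙 Z₀)
    (by rw [pullback.lift_snd, Category.id_comp])
  have hs : s₀ ≫ pr₀ = 𝟙 Z₀ := pullback.lift_snd _ _ _
  haveI : Etale pr₀ := inferInstance
  haveI : Mono s₀ := (SplitMono.mk pr₀ hs).mono
  haveI : Etale (s₀ ≫ pr₀) := by rw [hs]; infer_instance
  haveI : Etale s₀ := Etale.of_comp s₀ pr₀
  haveI : IsOpenImmersion s₀ := IsOpenImmersion.of_flat_of_mono s₀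
  haveI : IsClosedImmersion fstI := inferInstance
  obtain ⟨W₀, hW₀, hWe⟩ := fstI.isClosedEmbedding.isInducing.isOpen_iff.1 s₀.opensRange.2
  let W : (pullback p β).Opens := ⟨W₀, hW₀⟩
  have hW : fstI ⁻¹ᵁ W = s₀.opensRange := TopologicalSpace.Opens.ext hWe
  have sq : IsPullback (fstI ∣_ W) ((fstI ⁻¹ᵁ W).ι ≫ pr₀) (W.ι ≫ pr) i :=
    (isPullback_morphismRestrict fstI W).paste_vert (IsPullback.of_hasPullback pr i)
  let h₀ := (fstI ⁻¹ᵁ W).ι ≫ pr₀
  let s' : Z₀ ⟶ (fstI ⁻¹ᵁ W : Scheme) := IsOpenImmersion.lift (fstI ⁻¹ᵁ W).ι s₀ (by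
    rw [Scheme.Opens.range_ι, hW]; exact le_rfl)
  have hs' : s' ≫ (fstI ⁻¹ᵁ W).ι = s₀ := IsOpenImmersion.lift_fac _ _ _
  have hsh : s' ≫ h₀ = 𝟙 Z₀ := by rw [← Category.assoc, hs', hs]
  haveI : IsOpenImmersion s' := by
    haveI : IsOpenImmersion (s' ≫ (fstI ⁻¹ᵁ W).ι) := by rw [hs']; infer_instance
    exact IsOpenImmersion.of_comp s' (fstI ⁻¹ᵁ W).ι
  haveI : Surjective s' := ⟨fun x => by
    have hx : x.1 ∈ s₀.opensRange := hW ▸ x.2
    obtain ⟨z, hz⟩ := hx
    refine ⟨z, Subtype.ext ?_⟩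
    rw [← hz, ← hs']
    rfl⟩
  haveI : IsIso s' := (isIso_iff_isOpenImmersion_and_epi_base _).2
    ⟨inferInstance, (TopCat.epi_iff_surjective _).2 s'.surjective⟩
  haveI : IsIso h₀ := by
    rw [show h₀ = inv s' by rw [IsIso.eq_inv_of_hom_inv_id hsh]]
    infer_instance
  haveI : IsIso (W.ι ≫ pr) := AlgSpLib.isIso_of_thick_etale sq
  refine ⟨inv (W.ι ≫ pr) ≫ W.ι ≫ pullback.fst p β, ?_, ?_⟩
  · rw [Category.assoc, Category.assoc, pullback.condition, ← Category.assoc W.ι, IsIso.inv_hom_id_assoc]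
  · have h1 : i = s' ≫ (fstI ∣_ W) ≫ W.ι ≫ pr := by
      rw [sq.w, ← Category.assoc, hsh, Category.id_comp]
    conv_lhs => rw [h1]
    rw [Category.assoc, Category.assoc, Category.assoc, ← Category.assoc W.ι pr,
      IsIso.hom_inv_id_assoc, morphismRestrict_ι_assoc, reassoc_of% hs', pullback.lift_fst_assoc,
      pullback.lift_fst]

/-- Etaleness near a point is read on a neighbourhood in the fibre. -/
theorem etale_nhd_of_fibre {X Y S : Scheme.{u}} (f : X ⟶ Y) (g : Y ⟶ S) [LocallyOfFinitePresentation g]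
    [LocallyOfFinitePresentation (f ≫ g)] [Flat (f ≫ g)] (x : X) (U : X.Opens) (hx : x ∈ U)
    (h : Etale (pullback.snd (U.ι ≫ f) (g.fiberι (g (f x))))) :
    ∃ W : X.Opens, x ∈ W ∧ Etale (W.ι ≫ f) := by
  let f' := U.ι ≫ f
  haveI : LocallyOfFinitePresentation (f' ≫ g) := by rw [Category.assoc]; infer_instance
  haveI : Flat (f' ≫ g) := by rw [Category.assoc]; infer_instance
  haveI := FlatMor12.lfp_of_comp f' g
  let x' : (U : Scheme) := ⟨x, hx⟩
  have hfl : (f'.stalkMap x').hom.Flat :=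
    (FlatMor12.flat_stalkMap_of_fibre f' g x' (Flat.stalkMap _ x') (haveI : Etale (pullback.snd f' (g.fiberι (g (f' x')))) := h; inferInstance)).1
  let y := f x
  let j : Spec (Y.residueField y) ⟶ g.fiber (g y) :=
    pullback.lift (Y.fromSpecResidueField y) (Spec.map (g.residueFieldMap y)) (by simp)
  have hj : j ≫ g.fiberι (g y) = Y.fromSpecResidueField y := pullback.lift_fst _ _ _
  have h1 : FormallyUnramified (pullback.snd f' (j ≫ g.fiberι (g y))) := by
    haveI := h
    rw [← pullbackLeftPullbackSndIso_inv_snd_snd f' (g.fiberι (g y)) j]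
    exact MorphismProperty.RespectsIso.precomp @FormallyUnramified _ _
      (MorphismProperty.pullback_snd _ _ inferInstance)
  rw [hj] at h1
  have hun : (f'.stalkMap x').hom.FormallyUnramified :=
    SGA3UnitSec.formallyUnramified_stalkMap_of_fibre f' x' h1
  obtain ⟨W', hW', hE⟩ := (FlatLocal.etale_nhd_iff f' x').2 ⟨hfl, hun⟩
  refine ⟨U.ι ''ᵁ W', ⟨x', hW', rfl⟩, ?_⟩
  have e : (U.ι ''ᵁ W').ι = (U.ι.isoImage W').inv ≫ W'.ι ≫ U.ι := by
    rw [← Scheme.Hom.isoImage_hom_ι U.ι W', Iso.inv_hom_id_assoc]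
  rw [e, Category.assoc, Category.assoc]
  haveI : Etale (W'.ι ≫ U.ι ≫ f) := hE
  infer_instance

/-- The power map commutes with base change. -/
theorem map_pow {S S' : Scheme.{u}} (f : S' ⟶ S) (G : Over S) [GrpObj G] (n : ℕ) :
    (Over.pullback f).map ((𝟙 G : G ⟶ G) ^ n) = (𝟙 ((Over.pullback f).obj G) : _ ⟶ _) ^ n := by
  rw [show (Over.pullback f).map ((𝟙 G : G ⟶ G) ^ n) = ((Over.pullback f).map (𝟙 G)) ^ n from
    _root_.map_pow (Over.pullback f).homMonoidHom _ n, CategoryTheory.Functor.map_id]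

section Section

variable {S : Scheme.{u}} (G : Over S) [GrpObj G] [Flat G.hom] [LocallyOfFinitePresentation G.hom] {n : ℕ}

/-- The power map is etale near a central section. -/
theorem etale_nhd_section (σ : 𝟙_ (Over S) ⟶ G) (hσ : Commute (toUnit G ≫ σ) (𝟙 G)) (s : S)
    (hn : (n : S.residueField s) ≠ 0) :
    ∃ W : G.left.Opens, σ.left s ∈ W ∧ Etale (W.ι ≫ ((𝟙 G : G ⟶ G) ^ n).left) := by
  let iS := S.fromSpecResidueField s
  let F := Over.pullback iS
  let Gs := F.obj G
  haveI : LocallyOfFiniteType Gs.hom := MorphismProperty.pullback_snd G.hom iS inferInstance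
  let gs : 𝟙_ (Over (Spec (S.residueField s))) ⟶ Gs := Functor.LaxMonoidal.ε F ≫ F.map σ
  have hgs : toUnit Gs ≫ gs = F.map (toUnit G ≫ σ) := by
    rw [F.map_comp, ← Category.assoc]
    congr 1
    rw [← cancel_mono (Functor.OplaxMonoidal.η F)]
    exact toUnit_unique _ _
  have hcomm : Commute (toUnit Gs ≫ gs) (𝟙 Gs) := by
    have h := hσ.map F.homMonoidHom
    rw [hgs, ← F.map_id]
    exact h
  obtain ⟨U', hU', hE⟩ := etale_nhd_central (k := S.residueField s) Gs hn gs hcomm
  let fst := pullback.fst G.hom iS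
  obtain ⟨U₀, hU₀, hUe⟩ := fst.isEmbedding.isInducing.isOpen_iff.1 U'.2
  let U : G.left.Opens := ⟨U₀, hU₀⟩
  obtain rfl : fst ⁻¹ᵁ U = U' := TopologicalSpace.Opens.ext hUe
  have hx : σ.left s ∈ U := by
    have hz := hU' ⟨IsLocalRing.closedPoint _, rfl⟩
    change fst.base (gs.left.base (IsLocalRing.closedPoint _)) ∈ U at hz
    convert hz using 1
    let q := (Functor.LaxMonoidal.ε F).left.base (IsLocalRing.closedPoint _)
    show σ.left.base s = fst.base ((F.map σ).left.base q)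
    have h1 : (F.map σ).left ≫ fst = pullback.fst (𝟙_ (Over S)).hom iS ≫ σ.left := pullback.lift_fst _ _ _
    rw [← Scheme.Hom.comp_apply, h1, Scheme.Hom.comp_apply]
    congr 1
    have h3 : pullback.fst (𝟙_ (Over S)).hom iS = pullback.snd (𝟙_ (Over S)).hom iS ≫ iS :=
      (Category.comp_id _).symm.trans pullback.condition
    rw [h3, Scheme.Hom.comp_apply]
    exact (Scheme.fromSpecResidueField_apply _ _).symm
  let pw := ((𝟙 G : G ⟶ G) ^ n)
  haveI : LocallyOfFinitePresentation (pw.left ≫ G.hom) := by rw [Over.w]; infer_instance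
  haveI : Flat (pw.left ≫ G.hom) := by rw [Over.w]; infer_instance
  refine etale_nhd_of_fibre pw.left G.hom (σ.left s) U hx ?_
  have hs : G.hom (pw.left (σ.left s)) = s := by
    rw [← Scheme.Hom.comp_apply, ← Scheme.Hom.comp_apply, Over.w, Over.w]
    rfl
  rw [hs]
  have H := (isPullback_morphismRestrict fst U).paste_vert (SGA3Homog26.isPullback_onFibre pw s)
  suffices h : Etale (pullback.snd (U.ι ≫ pw.left) (pullback.fst G.hom (S.fromSpecResidueField s))) from h
  rw [← H.isoPullback_inv_snd]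
  refine MorphismProperty.RespectsIso.precomp @Etale _ _ ?_
  show Etale ((fst ⁻¹ᵁ U).ι ≫ (F.map pw).left)
  rw [map_pow]
  exact hE

end Section

end Groth.Agent.SGA3Power26
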