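import Groth.Agent.SGA3Power26.HomLiftMult
import Mathlib.RingTheory.FiniteType

/-! Finite type along nilpotent ideals. -/

set_option autoImplicit false
set_option linter.style.haveILetI false
universe u

open CategoryTheory AlgebraicGeometry
open scoped TensorProduct

noncomputable section

namespace Groth.Agent.SGA3Power26.NilFT

/-- An algebra which is of finite type modulo a nilpotent ideal of the base is of finite type. -/
theorem finiteType_of_quotient {R A : Type u} [CommRing R] [CommRing A] [Algebra R A] (J : Ideal R)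
    (hJ : IsNilpotent J) (h : Algebra.FiniteType (R ⧸ J) ((R ⧸ J) ⊗[R] A)) : Algebra.FiniteType R A := by
  classical
  haveI : Algebra.FiniteType R (R ⧸ J) := .of_surjective (Ideal.Quotient.mkₐ R J) Ideal.Quotient.mk_surjective
  haveI := Algebra.FiniteType.trans (inferInstance : Algebra.FiniteType R (R ⧸ J)) h
  obtain ⟨s, hs⟩ := (inferInstance : Algebra.FiniteType R ((R ⧸ J) ⊗[R] A)).out
  let π : A →ₐ[R] (R ⧸ J) ⊗[R] A := Algebra.TensorProduct.includeRight
  have hπ : Function.Surjective π := TensorProduct.mk_surjective R A (R ⧸ J) Ideal.Quotient.mk_surjective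
  choose g hg using hπ
  refine ⟨⟨s.image g, ?_⟩⟩
  let S := Algebra.adjoin R (↑(s.image g) : Set A)
  have hS : S.map π = ⊤ := by
    rw [AlgHom.map_adjoin, ← hs]
    congr 1
    ext x
    simp [hg]
  have h1 : (⊤ : Submodule R A) ≤ Subalgebra.toSubmodule S ⊔ J • ⊤ := fun a _ => by
    obtain ⟨b, hb, hab⟩ : π a ∈ S.map π := hS ▸ Algebra.mem_top
    rw [← add_sub_cancel b a]
    refine Submodule.add_mem_sup hb ?_
    have h0 : (TensorProduct.quotTensorEquivQuotSMul A J) (π (a - b)) = 0 := by
      rw [map_sub π, show π b = π a from hab, sub_self, map_zero]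
    rw [show π (a - b) = (1 : R ⧸ J) ⊗ₜ[R] (a - b) from rfl,
      show (1 : R ⧸ J) = Ideal.Quotient.mk J 1 from rfl,
      TensorProduct.quotTensorEquivQuotSMul_mk_tmul, one_smul] at h0
    exact (Submodule.Quotient.mk_eq_zero _).mp h0
  have h2 : ∀ k : ℕ, (⊤ : Submodule R A) ≤ Subalgebra.toSubmodule S ⊔ J ^ k • ⊤ := by
    intro k
    induction k with
    | zero => rw [pow_zero, Ideal.one_eq_top, Submodule.top_smul]; exact le_sup_right
    | succ k ih =>
      refine ih.trans (sup_le le_sup_left ?_)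
      calc J ^ k • (⊤ : Submodule R A) ≤ J ^ k • (Subalgebra.toSubmodule S ⊔ J • ⊤) := smul_mono_right _ h1
        _ = J ^ k • Subalgebra.toSubmodule S ⊔ J ^ (k + 1) • ⊤ := by
          rw [Submodule.smul_sup, pow_succ, Submodule.mul_smul]
        _ ≤ _ := sup_le (Submodule.smul_le_right.trans le_sup_left) le_sup_right
  obtain ⟨n, hn⟩ := hJ
  have h3 := h2 n
  rw [hn, Ideal.zero_eq_bot, Submodule.bot_smul, sup_bot_eq] at h3
  exact eq_top_iff.mpr fun a _ => h3 (Submodule.mem_top (x := a))

end Groth.Agent.SGA3Power26.NilFT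

namespace Groth.Agent.SGA3Power26.HomLiftMult

/-- groups of multiplicative type and finite type are of multiplicative type -/
theorem isMT_of_multTypeFT {S : Scheme.{u}} {H : Over S} [GrpObj H] (h : SGA3x.IsMultTypeFT H) : IsMT H := by
  obtain ⟨S', f, hfl, hsu, hq, hU⟩ := h
  refine ⟨S', f, hfl, hsu, hq, fun s => ?_⟩
  obtain ⟨U, hs, M, hMag, -, hi⟩ := hU s
  exact ⟨U, hs, M, hMag, hi⟩

end Groth.Agent.SGA3Power26.HomLiftMult
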