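import Groth.Agent.SGA3Power26.NilFT
import Groth.Agent.S2973
import Groth.Agent.S2979
import Groth.Agent.SGA3cLib.HomGroup
import Groth.Agent.SGA3cLib.SubgroupConj
import Groth.Agent.IsoTriv.QuasiBC
import Groth.Agent.IsoTriv.MultTypeComm
import Groth.Agent.AlgSpLib.ThickGlobal
import Groth.Agent.CAlgH.FlatQuotient

/-! Subgroups of multiplicative type of smooth groups lift along nilpotent ideals. -/

set_option autoImplicit false
set_option linter.style.haveILetI false
set_option linter.unusedVariables false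
set_option linter.unusedSectionVars false
set_option backward.isDefEq.respectTransparency.types false
set_option maxHeartbeats 400000
universe u

open CategoryTheory CategoryTheory.Limits MonoidalCategory CartesianMonoidalCategory MonObj AlgebraicGeometry CoactBr
open Groth.Agent.SGA3cLib
open scoped TensorProduct

noncomputable section

namespace Groth.Agent.SGA3Power26.MultSubLift

open HomLiftMult

variable {R : Type u} [CommRing R]

/-- groups of multiplicative type locally of finite type are of finite type -/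
theorem multTypeFT_of_isMT (H : Over (Spec (CommRingCat.of R))) [GrpObj H] (hH : IsMT H)
    [LocallyOfFiniteType H.hom] : SGA3x.IsMultTypeFT H := by
  haveI := isAffineHom_of_isMT H hH
  haveI : IsAffine H.left := isAffine_of_isAffineHom H.hom
  obtain ⟨A, _, _, ⟨e⟩⟩ := IsoTriv.SchemeSpec.exists_spec H
  let i : H ≅ sp R A := (Grp.forget _).mapIso e
  have hft : Algebra.FiniteType R A := by
    have h1 : LocallyOfFiniteType (sp R A).hom := by rw [← Over.w i.inv]; infer_instance
    have h2 : LocallyOfFiniteType (Spec.map (CommRingCat.ofHom (algebraMap R A))) := h1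
    rw [HasRingHomProperty.Spec_iff (P := @LocallyOfFiniteType), CommRingCat.hom_ofHom,
      RingHom.finiteType_algebraMap] at h2
    exact h2
  exact IsoTriv.SchemeBridge.isMultTypeFT_of_iso e.symm
    (IsoTriv.SchemeBridge.multTypeFT_of_isMultType hft (isMultType_of_isMT (isMT_of_iso e hH)))

/-- Groups of multiplicative type and finite type lift along nilpotent ideals. -/
theorem exists_abstract_lift (J : Ideal R) (hJ : IsNilpotent J)
    (H₀ : Over (Spec (CommRingCat.of (R ⧸ J)))) [GrpObj H₀] (hH₀ : IsMT H₀) [LocallyOfFiniteType H₀.hom] :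
    ∃ (H : Over (Spec (CommRingCat.of R))) (_ : GrpObj H), SGA3x.IsMultTypeFT H ∧ LocallyOfFiniteType H.hom ∧
      ∃ φ : Red.bc (thick J) H ≅ H₀, IsMonHom φ.hom := by
  let q := HomLiftMult.thick J
  haveI := HomLiftMult.isAffineHom_of_isMT H₀ hH₀
  haveI : IsAffine H₀.left := isAffine_of_isAffineHom H₀.hom
  obtain ⟨A₀, _, _, ⟨e₀⟩⟩ := IsoTriv.SchemeSpec.exists_spec H₀
  let i₀ : H₀ ≅ sp (R ⧸ J) A₀ := (Grp.forget _).mapIso e₀
  have hft : Algebra.FiniteType (R ⧸ J) A₀ := by
    have h1 : LocallyOfFiniteType (sp (R ⧸ J) A₀).hom := by rw [← Over.w i₀.inv]; infer_instance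
    have h2 : LocallyOfFiniteType (Spec.map (CommRingCat.ofHom (algebraMap (R ⧸ J) A₀))) := h1
    rw [HasRingHomProperty.Spec_iff (P := @LocallyOfFiniteType), CommRingCat.hom_ofHom,
      RingHom.finiteType_algebraMap] at h2
    exact h2
  have hJ' : ∀ x ∈ J, IsNilpotent x := fun x hx => by
    obtain ⟨n, hn⟩ := hJ
    exact ⟨n, by simpa [hn] using Ideal.pow_mem_pow hx n⟩
  have hmt := HomLiftMult.isMultType_of_isMT (HomLiftMult.isMT_of_iso e₀ hH₀)
  obtain ⟨A, _, _, hq, ⟨ε⟩⟩ := S2979.result R J hJ' A₀ (S2973.result _ A₀ hft hmt)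
  haveI hftA : Algebra.FiniteType R A := NilFT.finiteType_of_quotient J hJ
    (hft.equiv ε.symm.toAlgEquiv)
  have hH := IsoTriv.SchemeBridge.multTypeFT_of_isMultType hftA (IsoTriv.isMultType_of_isQuasiIsotrivial hq)
  obtain ⟨b⟩ := IsoTriv.SchemeSpec.nonempty_bc_spec (R := R) (R ⧸ J) A
  obtain ⟨i⟩ := IsoTriv.SchemeSpec.nonempty_grpIso ε
  let E := b ≪≫ i ≪≫ e₀.symm
  let φ : Red.bc q (sp R A) ≅ H₀ := (Grp.forget _).mapIso E
  haveI : IsMonHom φ.hom := inferInstanceAs (IsMonHom E.hom.hom.hom)
  refine ⟨sp R A, inferInstance, hH, ?_, φ, inferInstance⟩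
  show LocallyOfFiniteType (Spec.map (CommRingCat.ofHom (algebraMap R A)))
  rw [HasRingHomProperty.Spec_iff (P := @LocallyOfFiniteType), CommRingCat.hom_ofHom,
    RingHom.finiteType_algebraMap]
  exact hftA

/-- A map which is an immersion modulo a nilpotent ideal is an immersion. -/
theorem isImmersion_of_map (J : Ideal R) (hJ : IsNilpotent J) {H G : Over (Spec (CommRingCat.of R))} (j : H ⟶ G)
    [LocallyOfFiniteType H.hom] [IsImmersion ((Over.pullback (thick J)).map j).left] : IsImmersion j.left := by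
  let q := HomLiftMult.thick J
  have hJ' : ∀ x ∈ J, IsNilpotent x := fun x hx => by
    obtain ⟨n, hn⟩ := hJ
    exact ⟨n, by simpa [hn] using Ideal.pow_mem_pow hx n⟩
  haveI : IsClosedImmersion q := IsClosedImmersion.spec_of_surjective _ Ideal.Quotient.mk_surjective
  haveI : Surjective q := ⟨fun p => ⟨⟨(p : PrimeSpectrum R).asIdeal.map (Ideal.Quotient.mk J),
    Ideal.map_isPrime_of_surjective Ideal.Quotient.mk_surjective (by
      rw [Ideal.mk_ker]; exact fun x hx => nilradical_le_prime _ (hJ' x hx))⟩,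
    PrimeSpectrum.ext (by
      show (Ideal.map _ _).comap (Ideal.Quotient.mk J) = _
      rw [Ideal.comap_map_of_surjective _ Ideal.Quotient.mk_surjective, sup_eq_left,
        ← RingHom.ker_eq_comap_bot, Ideal.mk_ker]
      exact fun x hx => nilradical_le_prime _ (hJ' x hx))⟩⟩
  haveI : IsClosedImmersion (pullback.fst G.hom q) := MorphismProperty.pullback_fst G.hom q inferInstance
  haveI : Surjective (pullback.fst G.hom q) := MorphismProperty.pullback_fst G.hom q inferInstance
  haveI : LocallyOfFiniteType j.left := by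
    have : LocallyOfFiniteType (j.left ≫ G.hom) := by rw [Over.w j]; infer_instance
    exact locallyOfFiniteType_of_comp j.left G.hom
  refine AlgSpLib.isImmersion_of_thick (jU := pullback.fst H.hom q)
    (h₀ := ((Over.pullback q).map j).left) (jV := pullback.fst G.hom q)
    (IsPullback.of_bot (v₂₁ := pullback.snd G.hom q) (v₂₂ := G.hom) (h₃₁ := q) ?_ ?_
      (IsPullback.of_hasPullback G.hom q))
  · have e1 : ((Over.pullback q).map j).left ≫ pullback.snd G.hom q = pullback.snd H.hom q :=
      pullback.lift_snd _ _ _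
    rw [e1, Over.w j]
    exact IsPullback.of_hasPullback H.hom q
  · exact (pullback.lift_fst _ _ _).symm

/-- Subgroups of multiplicative type of smooth groups lift along nilpotent ideals. -/
theorem exists_subgroup_lift (J : Ideal R) (hJ : IsNilpotent J)
    (G : Over (Spec (CommRingCat.of R))) [GrpObj G] [Smooth G.hom]
    (H₀ : Over (Spec (CommRingCat.of (R ⧸ J)))) [GrpObj H₀] (hH₀ : IsMT H₀)
    (j₀ : H₀ ⟶ Red.bc (thick J) G) [IsMonHom j₀] [IsImmersion j₀.left] :
    ∃ (H : Over (Spec (CommRingCat.of R))) (_ : GrpObj H) (j : H ⟶ G), IsMonHom j ∧ IsImmersion j.left ∧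
      SGA3x.IsMultTypeFT H ∧
      ∃ φ : Red.bc (thick J) H ≅ H₀, IsMonHom φ.hom ∧ φ.hom ≫ j₀ = (Over.pullback (thick J)).map j := by
  haveI : Smooth (Red.bc (thick J) G).hom := inferInstanceAs (Smooth (pullback.snd G.hom (thick J)))
  haveI : LocallyOfFiniteType H₀.hom := by rw [← Over.w j₀]; infer_instance
  obtain ⟨H, _, hH, hlft, φ, hφ⟩ := exists_abstract_lift J hJ H₀ hH₀
  obtain ⟨j, hj, hj'⟩ := HomLiftMult.exists_lift (φ.hom ≫ j₀) hJ (HomLiftMult.isMT_of_multTypeFT hH)
  haveI : IsImmersion ((Over.pullback (thick J)).map j).left := by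
    rw [hj', Over.comp_left]; infer_instance
  exact ⟨H, inferInstance, j, hj, isImmersion_of_map J hJ j, hH, φ, hφ, hj'.symm⟩

variable (J : Ideal R)

/-- the quotient as an object over the base -/
abbrev PQ : Over (Spec (CommRingCat.of R)) := Over.mk (thick J)

variable {J} {X : Over (Spec (CommRingCat.of R))}

/-- an object above the thickened subscheme comes from it -/
def above (p : X ⟶ PQ J) : (Over.map (thick J)).obj (Over.mk p.left) ≅ X :=
  Over.isoMk (Iso.refl _) ((Category.id_comp _).trans (Over.w p).symm)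

/-- points above the thickened subscheme as points of the base change -/
def ptA (p : X ⟶ PQ J) {A : Over (Spec (CommRingCat.of R))} (h : X ⟶ A) :
    Over.mk p.left ⟶ Red.bc (thick J) A :=
  BCPoints.pt (thick J) A _ ((above p).hom ≫ h)

theorem ptA_comp (p : X ⟶ PQ J) {A B : Over (Spec (CommRingCat.of R))} (h : X ⟶ A) (a : A ⟶ B) :
    ptA p (h ≫ a) = ptA p h ≫ (Over.pullback (thick J)).map a := by
  rw [ptA, ptA, ← Category.assoc, BCPoints.pt_comp]

theorem ptA_mul (p : X ⟶ PQ J) {A : Over (Spec (CommRingCat.of R))} [GrpObj A] (h h' : X ⟶ A) :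
    ptA p (h * h') = ptA p h * ptA p h' := by
  rw [ptA, MonObj.comp_mul, BCPoints.pt_mul]
  rfl

theorem ptA_one (p : X ⟶ PQ J) {A : Over (Spec (CommRingCat.of R))} [GrpObj A] :
    ptA p (1 : X ⟶ A) = 1 := by
  rw [ptA, MonObj.comp_one, SubgroupConj.pt_one]

theorem ptA_pow (p : X ⟶ PQ J) {A : Over (Spec (CommRingCat.of R))} [GrpObj A] (h : X ⟶ A) (n : ℕ) :
    ptA p (h ^ n) = ptA p h ^ n :=
  _root_.map_pow (MonoidHom.mk' (ptA p (A := A)) (ptA_mul p)) h n

theorem ptA_bijective (p : X ⟶ PQ J) (A : Over (Spec (CommRingCat.of R))) :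
    Function.Bijective (ptA p (A := A)) :=
  (BCPoints.pt (thick J) A _).bijective.comp
    ⟨fun a b h => (cancel_epi (above p).hom).1 h, fun y => ⟨(above p).inv ≫ y, Iso.hom_inv_id_assoc _ _⟩⟩

/-- maps with the same base change agree above the thickened subscheme -/
theorem comp_eq_of_map_eq {A B : Over (Spec (CommRingCat.of R))} {a b : A ⟶ B}
    (h : (Over.pullback (thick J)).map a = (Over.pullback (thick J)).map b) (p : X ⟶ PQ J) (x : X ⟶ A) :
    x ≫ a = x ≫ b :=
  (ptA_bijective p B).injective (by rw [ptA_comp, ptA_comp, h])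

/-- base changes of maps are determined above the thickened subscheme -/
theorem map_eq_of_forall {A B : Over (Spec (CommRingCat.of R))} {a b : A ⟶ B}
    (h : ∀ (X : Over (Spec (CommRingCat.of R))) (p : X ⟶ PQ J) (x : X ⟶ A), x ≫ a = x ≫ b) :
    (Over.pullback (thick J)).map a = (Over.pullback (thick J)).map b := by
  let Y := (Over.map (thick J)).obj (Red.bc (thick J) A)
  let p : Y ⟶ PQ J := Over.homMk (Red.bc (thick J) A).hom rfl
  let x : Y ⟶ A := (BCPoints.pt (thick J) A _).symm (𝟙 _)
  have h1 := congrArg (BCPoints.pt (thick J) B _) (h Y p x)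
  rwa [BCPoints.pt_comp, BCPoints.pt_comp, Equiv.apply_symm_apply, Category.id_comp, Category.id_comp] at h1

set_option maxHeartbeats 1000000 in
/-- A closed immersion with flat source which is surjective on points above a nilpotent thickening is an isomorphism. -/
theorem isIso_of_factor (hJ : IsNilpotent J) {L T : Over (Spec (CommRingCat.of R))} [IsAffine L.left]
    [IsAffine T.left] (m : L ⟶ T) [IsClosedImmersion m.left] [Flat L.hom]
    (h : ∀ (X : Over (Spec (CommRingCat.of R))) (_ : X ⟶ PQ J) (t : X ⟶ T), ∃ y : X ⟶ L, y ≫ m = t) :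
    IsIso m := by
  let O : Type u := Γ(T.left, ⊤)
  let C : Type u := Γ(L.left, ⊤)
  let ψ : O →+* C := m.left.appTop.hom
  let α := Spec.preimage (T.left.isoSpec.inv ≫ T.hom)
  letI : Algebra R O := α.hom.toAlgebra
  letI : Algebra R C := (ψ.comp (algebraMap R O)).toAlgebra
  have hO : T.left.isoSpec.inv ≫ T.hom = Spec.map (CommRingCat.ofHom (algebraMap R O)) :=
    (Spec.map_preimage _).symm
  have hC : L.left.isoSpec.inv ≫ L.hom = Spec.map (CommRingCat.ofHom (algebraMap R C)) := by
    rw [show CommRingCat.ofHom (algebraMap R C) = CommRingCat.ofHom (algebraMap R O) ≫ m.left.appTop from rfl,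
      Spec.map_comp, ← hO, ← Category.assoc, Scheme.isoSpec_inv_naturality, Category.assoc, Over.w m]
  haveI : Module.Flat R C := by
    have h1 : Flat (Spec.map (CommRingCat.ofHom (algebraMap R C))) := by rw [← hC]; infer_instance
    rwa [HasRingHomProperty.Spec_iff (P := @Flat), CommRingCat.hom_ofHom, RingHom.flat_algebraMap_iff] at h1
  have hψ : Function.Surjective ψ := (IsClosedImmersion.isAffine_surjective_of_isAffine m.left).2
  have hK : ∀ x, ψ x = 0 → x ∈ J.map (algebraMap R O) := fun x hx => by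
    let D : Type u := O ⧸ J.map (algebraMap R O)
    have hD : ∀ r ∈ J, algebraMap R D r = 0 := fun r hr =>
      Ideal.Quotient.eq_zero_iff_mem.2 (Ideal.mem_map_of_mem _ hr)
    let X : Over (Spec (CommRingCat.of R)) := sp R D
    let p : X ⟶ PQ J := Over.homMk (Spec.map (CommRingCat.ofHom (Ideal.Quotient.lift J (algebraMap R D) hD))) (by
      show Spec.map _ ≫ Spec.map _ = Spec.map _
      rw [← Spec.map_comp, ← CommRingCat.ofHom_comp, Ideal.Quotient.lift_comp_mk])
    let μD : CommRingCat.of O ⟶ CommRingCat.of D := CommRingCat.ofHom (Ideal.Quotient.mk _)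
    let t : X ⟶ T := Over.homMk (Spec.map μD ≫ T.left.isoSpec.inv) (by
      rw [Category.assoc, hO]
      exact (Spec.map_comp _ _).symm)
    obtain ⟨y, hy⟩ := h X p t
    obtain ⟨χ, hχ⟩ := Spec.map_surjective (y.left ≫ L.left.isoSpec.hom)
    have e : Spec.map (m.left.appTop ≫ χ) = Spec.map μD := by
      rw [Spec.map_comp, hχ, Category.assoc, Scheme.isoSpec_hom_naturality, ← Category.assoc]
      refine (congrArg (· ≫ T.left.isoSpec.hom)
        (show y.left ≫ m.left = Spec.map μD ≫ T.left.isoSpec.inv from congrArg Over.Hom.left hy)).trans ?_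
      exact (Category.assoc _ _ _).trans ((congrArg (_ ≫ ·) T.left.isoSpec.inv_hom_id).trans (Category.comp_id _))
    rw [← Ideal.Quotient.eq_zero_iff_mem]
    show μD.hom x = 0
    rw [← congr($(Spec.map_injective e) x)]
    show χ.hom (ψ x) = 0
    rw [hx, map_zero]
  let f : O →ₐ[R] C := { ψ with commutes' := fun _ => rfl }
  let K : Submodule R O := LinearMap.ker f.toLinearMap
  have : Module.Flat R (O ⧸ K) := Module.Flat.of_linearEquiv (f.toLinearMap.quotKerEquivOfSurjective hψ)
  have hle : K ≤ J • K := fun x hx =>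
    CAlgH.inf_smul_top_le_of_flat_quotient K J ⟨hx, by rw [Ideal.smul_top_eq_map]; exact hK x hx⟩
  have hpow : ∀ k : ℕ, K ≤ J ^ k • K := by
    intro k
    induction k with
    | zero => rw [pow_zero, Ideal.one_eq_top, Submodule.top_smul]
    | succ k ih =>
      rw [pow_succ, Submodule.mul_smul]
      exact ih.trans (smul_mono_right _ hle)
  obtain ⟨k, hk⟩ := hJ
  have hbij : Function.Bijective ψ := ⟨(injective_iff_map_eq_zero ψ).2 fun x hx => by
    have := hpow k (show x ∈ K from hx)
    rwa [hk, Ideal.zero_eq_bot, Submodule.bot_smul, Submodule.mem_bot] at this, hψ⟩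
  haveI : IsIso m.left.appTop := (ConcreteCategory.isIso_iff_bijective _).2 hbij
  haveI : IsIso m.left := by
    rw [show m.left = L.left.isoSpec.hom ≫ Spec.map m.left.appTop ≫ T.left.isoSpec.inv by
      rw [← Category.assoc, Scheme.isoSpec_hom_naturality, Category.assoc, Iso.hom_inv_id, Category.comp_id]]
    infer_instance
  haveI : IsIso ((Over.forget _).map m) := ‹IsIso m.left›
  exact isIso_of_reflects_iso m (Over.forget _)

end Groth.Agent.SGA3Power26.MultSubLift
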