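import Groth.Agent.SGA3Power26.PowerCentral
import Groth.Agent.SGA3cLib.DSChar
import Groth.Agent.SGA3cLib.HomDSBC
import Groth.Agent.SGA3cLib.GrpBC
import Groth.Agent.AlgSpLib.EtaleAscend
import Groth.Agent.FlatLocal.StalkCrit
import Groth.Agent.FEtLib.EqLocus
import Groth.Agent.S13423
import Groth.Prelude.Def_SGA3x

/-! Finite etale groups of multiplicative type are killed by an invertible integer. -/

set_option autoImplicit false
set_option backward.isDefEq.respectTransparency.types false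
set_option linter.style.haveILetI false

universe u

open CategoryTheory CategoryTheory.Limits MonoidalCategory CartesianMonoidalCategory MonObj AlgebraicGeometry
open Groth.Agent.SGA3cLib

noncomputable section

namespace Groth.Agent.SGA3Power26

/-- Smooth finite morphisms are etale. -/
theorem etale_of_smooth_of_finite {X S : Scheme.{u}} (f : X ⟶ S) [Smooth f] [IsFinite f] : Etale f := by
  haveI := S13423.formallyUnramified_of_smooth_quasiFinite f
  exact (FlatLocal.etale_iff_stalkMap f).2 fun x => ⟨Flat.stalkMap f x, FormallyUnramified.stalkMap f x⟩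

/-- An etale diagonalisable group over a field is killed by its order, which is invertible. -/
theorem pow_card_DS (k : Type u) [Field k] (M : Type) [AddCommGroup M] [Finite M]
    [Etale (Red.DS (Spec (CommRingCat.of k)) M).hom] :
    (Nat.card M : k) ≠ 0 ∧
      (𝟙 (Red.DS (Spec (CommRingCat.of k)) M) : _ ⟶ _) ^ Nat.card M = 1 := by
  let U := Spec (CommRingCat.of k)
  let D := Red.DS U M
  have hpow : ∀ (n : ℕ) (m : Multiplicative M), dsFn ((𝟙 D : D ⟶ D) ^ n) m = dsFn (𝟙 D) (m ^ n) := by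
    intro n m
    rw [_root_.map_pow]
    induction n with
    | zero => rw [pow_zero, pow_zero, dsFn_one]
    | succ k ih => rw [pow_succ, pow_succ, dsFn_mul, ih]
  refine ⟨fun h0 => ?_, dsFn_injective (MonoidHom.ext fun m => ?_)⟩
  · obtain ⟨p, hp⟩ := CharP.exists k
    have hdvd : p ∣ Nat.card M := (CharP.cast_eq_zero_iff k p _).1 h0
    rcases CharP.char_is_prime_or_zero k p with hpp | rfl
    · haveI := Fact.mk hpp
      haveI : ExpChar k p := ExpChar.prime hpp
      obtain ⟨m, hm⟩ := exists_prime_orderOf_dvd_card' (G := Multiplicative M) p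
        (by rwa [Nat.card_congr (Multiplicative.toAdd (α := M))])
      haveI : IsReduced D.left := AlgSpLib.isReduced_of_etale' D.hom
      letI : Algebra k Γ(D.left, ⊤) :=
        ((Scheme.ΓSpecIso (CommRingCat.of k)).inv ≫ D.hom.appTop).hom.toAlgebra
      have h1 : dsFn (𝟙 D) m = 1 := by
        have hnp : dsFn (𝟙 D) m ^ p = 1 := by rw [← _root_.map_pow, ← hm, pow_orderOf_eq_one, map_one]
        have hsub : (dsFn (𝟙 D) m - 1) ^ p = 0 := by
          rcases subsingleton_or_nontrivial Γ(D.left, ⊤) with hs | hs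
          · exact Subsingleton.elim _ _
          · haveI : CharP Γ(D.left, ⊤) p := charP_of_injective_algebraMap (algebraMap k _).injective p
            haveI : ExpChar Γ(D.left, ⊤) p := ExpChar.prime hpp
            rw [sub_pow_expChar, hnp, one_pow, sub_self]
        exact sub_eq_zero.1 (IsReduced.eq_zero _ ⟨p, hsub⟩)
      let B := MonoidAlgebra k (Multiplicative M)
      let W : Over U := Over.mk (Spec.map (CommRingCat.ofHom (algebraMap k B)))
      let φ : Multiplicative M →* Γ(W.left, ⊤) :=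
        (Scheme.ΓSpecIso (CommRingCat.of B)).inv.hom.toMonoidHom.comp (MonoidAlgebra.of k (Multiplicative M))
      obtain ⟨w, hw⟩ := exists_dsPt (U := U) (W := W) φ
      have h2 : φ m = 1 := by
        rw [← hw, ← Category.comp_id w, dsFn_comp, h1, map_one]
      have h3 : MonoidAlgebra.of k (Multiplicative M) m = 1 := by
        have := congrArg (Scheme.ΓSpecIso (CommRingCat.of B)).hom.hom h2
        rw [map_one] at this
        rw [← this]
        exact (Iso.inv_hom_id_apply (Scheme.ΓSpecIso (CommRingCat.of B)) _).symm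
      have h4 : m = 1 := MonoidAlgebra.of_injective (h3.trans (map_one _).symm)
      rw [h4, orderOf_one] at hm
      exact hpp.one_lt.ne hm
    · exact (Nat.card_pos (α := M)).ne' (zero_dvd_iff.1 hdvd)
  · rw [hpow, dsFn_one, ← Nat.card_congr (Multiplicative.toAdd (α := M)), pow_card_eq_one', map_one]

variable {S : Scheme.{u}}

/-- The morphism `a` is killed by `n` above the open set `V`. -/
def Killed {X G : Over S} [GrpObj G] (a : X ⟶ G) (n : ℕ) (V : S.Opens) : Prop :=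
  ((Over.homMk (U := Over.mk ((X.hom ⁻¹ᵁ V).ι ≫ X.hom)) (X.hom ⁻¹ᵁ V).ι rfl) ≫ a) ^ n = 1

theorem Killed.mono {X G : Over S} [GrpObj G] {a : X ⟶ G} {n N : ℕ} {V W : S.Opens} (h : Killed a n V)
    (hd : n ∣ N) (hV : W ≤ V) : Killed a N W := by
  obtain ⟨c, rfl⟩ := hd
  have hle : X.hom ⁻¹ᵁ W ≤ X.hom ⁻¹ᵁ V := fun x hx => hV hx
  let k : Over.mk ((X.hom ⁻¹ᵁ W).ι ≫ X.hom) ⟶ Over.mk ((X.hom ⁻¹ᵁ V).ι ≫ X.hom) :=
    Over.homMk (X.left.homOfLE hle) (by simp)
  have hk : k ≫ Over.homMk (X.hom ⁻¹ᵁ V).ι rfl = Over.homMk (V := X) (X.hom ⁻¹ᵁ W).ι rfl := by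
    ext1; exact X.left.homOfLE_ι hle
  show _ ^ (n * c) = 1
  rw [← hk, Category.assoc, pow_mul, ← MonObj.comp_pow, h, MonObj.comp_one, one_pow]

theorem Killed.comp {X Y G : Over S} [GrpObj G] {a : X ⟶ G} {n : ℕ} {V : S.Opens} (h : Killed a n V) (f : Y ⟶ X) :
    Killed (f ≫ a) n V := by
  have hle : ∀ y : Y.left, y ∈ Y.hom ⁻¹ᵁ V → f.left y ∈ X.hom ⁻¹ᵁ V := fun y hy => by
    show X.hom (f.left y) ∈ V
    rw [← Scheme.Hom.comp_apply, Over.w]
    exact hy
  let k : Over.mk ((Y.hom ⁻¹ᵁ V).ι ≫ Y.hom) ⟶ Over.mk ((X.hom ⁻¹ᵁ V).ι ≫ X.hom) :=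
    Over.homMk (IsOpenImmersion.lift (X.hom ⁻¹ᵁ V).ι ((Y.hom ⁻¹ᵁ V).ι ≫ f.left) (by
      rw [Scheme.Opens.range_ι]; rintro _ ⟨y, rfl⟩; exact hle _ y.2)) (by
      show _ ≫ _ ≫ X.hom = _
      rw [IsOpenImmersion.lift_fac_assoc, Category.assoc, Over.w]
      rfl)
  have hk : k ≫ Over.homMk (X.hom ⁻¹ᵁ V).ι rfl = Over.homMk (V := Y) (Y.hom ⁻¹ᵁ V).ι rfl ≫ f := by
    ext1; exact IsOpenImmersion.lift_fac _ _ _
  show _ ^ n = 1
  rw [← Category.assoc, ← hk, Category.assoc, ← MonObj.comp_pow, h, MonObj.comp_one]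

/-- Near each point, an etale finite group of multiplicative type is killed by an invertible integer. -/
theorem exists_killedOn (H : Over S) [GrpObj H] [Smooth H.hom] [IsFinite H.hom]
    (hH : SGA3x.IsMultTypeFT H) (s : S) :
    ∃ (n : ℕ) (V : S.Opens), s ∈ V ∧ (∀ t ∈ V, (n : S.residueField t) ≠ 0) ∧ Killed (𝟙 H) n V := by
  haveI := etale_of_smooth_of_finite H.hom
  obtain ⟨S', f, -, hsurj, -, hU⟩ := hH
  obtain ⟨s', rfl⟩ := f.surjective s
  obtain ⟨U, hs'U, M, _, hMfg, ⟨e⟩⟩ := hU s'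
  let k := S'.residueField s'
  let fk := S'.fromSpecResidueField s'
  let kU : Spec k ⟶ (U : Scheme) := IsOpenImmersion.lift U.ι fk (by
    rw [S'.range_fromSpecResidueField, Scheme.Opens.range_ι]
    exact Set.singleton_subset_iff.2 hs'U)
  have hkU : kU ≫ U.ι = fk := IsOpenImmersion.lift_fac _ _ _
  let g : Spec k ⟶ S := fk ≫ f
  obtain ⟨σ, hσ, -⟩ := GrpBC.nonempty_iso_restrict (U.ι ≫ f) kU g (by rw [reassoc_of% hkU]) H e
  haveI := hσ
  haveI : Etale (Red.bc g H).hom := MorphismProperty.pullback_snd H.hom g inferInstance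
  haveI : IsFinite (Red.bc g H).hom := MorphismProperty.pullback_snd H.hom g inferInstance
  haveI : IsFinite (Red.DS (Spec k) M).hom := by
    rw [← Over.w σ.inv]; infer_instance
  haveI : Etale (Red.DS (Spec k) M).hom := by
    rw [← Over.w σ.inv]; infer_instance
  haveI : Nonempty (Spec k) := inferInstanceAs (Nonempty (PrimeSpectrum k))
  haveI : Finite M := HomDSBC.finite_of_isFinite_DS (U := Spec k) M inferInstance
  obtain ⟨hn, hpw⟩ := pow_card_DS k M
  set n := Nat.card M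
  have hbc : (𝟙 (Red.bc g H) : _ ⟶ _) ^ n = 1 := by
    have hpw' : (𝟙 (Red.DS (Spec k) M) : _ ⟶ _) ^ n = 1 := hpw
    have h : σ.hom ^ n = 1 := by
      rw [show σ.hom = σ.hom ≫ 𝟙 _ from (Category.comp_id _).symm, ← MonObj.comp_pow, hpw', MonObj.comp_one]
    haveI : IsMonHom σ.hom := hσ
    rw [← cancel_mono σ.hom]
    calc _ = (𝟙 _ ≫ σ.hom) ^ n := @MonObj.pow_comp _ _ _ _ _ _ _ _ (𝟙 (Red.bc g H)) n σ.hom hσ
      _ = 1 := by rw [Category.id_comp, h]
      _ = _ := (@MonObj.one_comp _ _ _ _ _ _ _ _ σ.hom hσ).symm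
  let pw := ((𝟙 H : H ⟶ H) ^ n).left
  let one := (1 : H ⟶ H).left
  have w : pw ≫ H.hom = one ≫ H.hom := by rw [Over.w, Over.w]
  let E := FEtLib.eqLocus H.hom pw one w
  have hE : ∀ x : H.left, H.hom x = f s' → x ∈ E := by
    intro x hx
    have hg : pullback.fst H.hom g ≫ pw = pullback.fst H.hom g ≫ one := by
      let x₀ : (Over.map g).obj (Red.bc g H) ⟶ H := (BCPoints.pt g H _).symm (𝟙 _)
      have hp : x₀ ^ n = 1 := (BCPoints.pt g H _).injective (by
        have h1 : BCPoints.pt g H _ (x₀ ^ n) = (BCPoints.pt g H _ x₀) ^ n :=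
          _root_.map_pow (MonoidHom.mk' (BCPoints.pt g H _) (BCPoints.pt_mul g)) _ n
        rw [h1, Equiv.apply_symm_apply, hbc]
        exact ((MonoidHom.mk' (BCPoints.pt g H (Red.bc g H)) (BCPoints.pt_mul g)).map_one).symm)
      have h2 : x₀ ≫ (𝟙 H : H ⟶ H) ^ n = x₀ ≫ (1 : H ⟶ H) := by
        rw [MonObj.comp_pow, Category.comp_id, hp, MonObj.comp_one]
      have h3 : x₀.left = pullback.fst H.hom g := by
        simp [x₀, BCPoints.pt, Adjunction.homEquiv_counit]
      have h4 := congrArg (fun t => t.left) h2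
      simp only [Over.comp_left, h3] at h4
      exact h4
    obtain ⟨z, hz, -⟩ := Scheme.Pullback.exists_preimage_pullback (f := H.hom) (g := g) x
      (IsLocalRing.closedPoint _) (by
        show H.hom x = (fk ≫ f) _
        rw [Scheme.Hom.comp_apply, hx, Scheme.fromSpecResidueField_apply])
    rw [← hz]
    exact FEtLib.mem_of_comp_eq H.hom pw one w _ hg z
  let V₁ : S.Opens := ⟨(H.hom '' (E : Set H.left)ᶜ)ᶜ, (H.hom.isClosedMap _ E.2.isClosed_compl).isOpen_compl⟩
  have hV₁ : f s' ∈ V₁ := fun ⟨x, hx, hxs⟩ => hx (hE x hxs)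
  let V₂ : S.Opens := S.basicOpen (n : Γ(S, ⊤))
  have hmem : ∀ t : S, t ∈ V₂ ↔ (n : S.residueField t) ≠ 0 := fun t => by
    have hh := S.evaluation_ne_zero_iff_mem_basicOpen (U := ⊤) t trivial (n : Γ(S, ⊤))
    rw [map_natCast] at hh
    exact hh.symm
  have hV₂ : f s' ∈ V₂ := (hmem _).2 fun h => hn (by
    have h2 := congrArg (f.residueFieldMap s').hom h
    rw [map_natCast, map_zero] at h2
    exact h2)
  refine ⟨n, V₁ ⊓ V₂, ⟨hV₁, hV₂⟩, fun t ht => (hmem t).1 ht.2, ?_⟩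
  · have hle : H.hom ⁻¹ᵁ (V₁ ⊓ V₂) ≤ E := fun x hx => by
      by_contra hxE
      exact hx.1 ⟨x, hxE, rfl⟩
    have h : (H.hom ⁻¹ᵁ (V₁ ⊓ V₂)).ι ≫ pw = (H.hom ⁻¹ᵁ (V₁ ⊓ V₂)).ι ≫ one := by
      rw [← H.left.homOfLE_ι hle, Category.assoc, Category.assoc, FEtLib.ι_comp_eq]
    show _ ^ n = 1
    let r : Over.mk ((H.hom ⁻¹ᵁ (V₁ ⊓ V₂)).ι ≫ H.hom) ⟶ H := Over.homMk (H.hom ⁻¹ᵁ (V₁ ⊓ V₂)).ι rfl
    show (r ≫ 𝟙 H) ^ n = 1
    rw [← MonObj.comp_pow, ← MonObj.comp_one (f := r)]
    exact Over.OverMorphism.ext h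

end Groth.Agent.SGA3Power26
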