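import Groth.Agent.SGA3Power26.CentralEtale
import Groth.Agent.SGA3Power26.KilledByOrder
import Groth.Agent.Dense26.PowerKernel

/-! Central homomorphisms from finite etale groups of multiplicative type lift uniquely along thickenings. -/

set_option autoImplicit false
set_option backward.isDefEq.respectTransparency.types false
set_option linter.style.haveILetI false

universe u

open CategoryTheory CategoryTheory.Limits MonoidalCategory CartesianMonoidalCategory MonObj AlgebraicGeometry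
open Groth.Agent.Dense26 (powKer powKerι powKerHom powKerHom_pow fst_eq exists_lift)
open Groth.Agent.SGA3cLib

noncomputable section

namespace Groth.Agent.SGA3Power26

variable {S : Scheme.{u}} {G : Over S} [GrpObj G]

/-- The projection of a point of a base change. -/
theorem pt_left_fst {S' : Scheme.{u}} (f : S' ⟶ S) {G : Over S} {X' : Over S'} (a : (Over.map f).obj X' ⟶ G) :
    (BCPoints.pt f G X' a).left ≫ pullback.fst G.hom f = a.left := by
  simp only [BCPoints.pt, Adjunction.homEquiv_unit]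
  show (pullback.lift (𝟙 X'.left) X'.hom _ ≫ pullback.lift (pullback.fst _ f ≫ a.left) (pullback.snd _ f) _) ≫ _ = _
  rw [Category.assoc, pullback.lift_fst, pullback.lift_fst_assoc, Category.id_comp]

/-- All power maps of invertible exponent are etale near `y`. -/
def GoodPt (G : Over S) [GrpObj G] (y : G.left) : Prop :=
  ∀ n : ℕ, (n : S.residueField (G.hom y)) ≠ 0 →
    ∃ W : G.left.Opens, y ∈ W ∧ Etale (W.ι ≫ ((𝟙 G : G ⟶ G) ^ n).left)

/-- The part of the kernel of a power map over an open where this map is etale is etale over the base. -/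
theorem etale_powKer_restrict (n : ℕ) (W : G.left.Opens) [Etale (W.ι ≫ ((𝟙 G : G ⟶ G) ^ n).left)] :
    Etale ((powKerι G n ⁻¹ᵁ W).ι ≫ powKerι G n ≫ G.hom) := by
  have sq := (isPullback_morphismRestrict (powKerι G n) W).paste_vert
    (IsPullback.of_hasPullback η[G].left ((𝟙 G : G ⟶ G) ^ n).left).flip
  rw [← fst_eq]
  exact MorphismProperty.of_isPullback (P := @Etale) sq inferInstance

/-- The power map is etale on an open containing all the points near which it is. -/
theorem exists_etale_open (n : ℕ) :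
    ∃ W : G.left.Opens, Etale (W.ι ≫ ((𝟙 G : G ⟶ G) ^ n).left) ∧
      ∀ (y : G.left) (W' : G.left.Opens), y ∈ W' → Etale (W'.ι ≫ ((𝟙 G : G ⟶ G) ^ n).left) → y ∈ W := by
  let f := ((𝟙 G : G ⟶ G) ^ n).left
  let I := {W' : G.left.Opens // Etale (W'.ι ≫ f)}
  let W : G.left.Opens := ⨆ W' : I, W'.1
  refine ⟨W, ?_, fun y W' hy hE => TopologicalSpace.Opens.mem_iSup.2 ⟨⟨W', hE⟩, hy⟩⟩
  refine IsZariskiLocalAtSource.of_iSup_eq_top (P := @Etale) (fun W' : I => W.ι ⁻¹ᵁ W'.1) ?_ fun W' => ?_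
  · refine TopologicalSpace.Opens.ext (Set.eq_univ_of_forall fun x => ?_)
    obtain ⟨W', hW'⟩ := TopologicalSpace.Opens.mem_iSup.1 x.2
    exact TopologicalSpace.Opens.mem_iSup.2 ⟨W', hW'⟩
  · haveI := W'.2
    have hr : Set.range ((W.ι ⁻¹ᵁ W'.1).ι ≫ W.ι) ⊆ Set.range W'.1.ι := by
      rw [Scheme.Opens.range_ι]
      rintro _ ⟨x, rfl⟩
      exact x.2
    rw [← Category.assoc, ← IsOpenImmersion.lift_fac W'.1.ι _ hr, Category.assoc]
    haveI : IsOpenImmersion (IsOpenImmersion.lift W'.1.ι ((W.ι ⁻¹ᵁ W'.1).ι ≫ W.ι) hr) := by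
      haveI : IsOpenImmersion (IsOpenImmersion.lift W'.1.ι ((W.ι ⁻¹ᵁ W'.1).ι ≫ W.ι) hr ≫ W'.1.ι) := by
        rw [IsOpenImmersion.lift_fac]; infer_instance
      exact IsOpenImmersion.of_comp _ W'.1.ι
    infer_instance

/-- Killed morphisms into the good locus are determined by their restriction to a surjective subscheme. -/
theorem eq_of_killed {X : Over S} (a b : X ⟶ G) {X₀ : Scheme.{u}} (i : X₀ ⟶ X.left) [Surjective i]
    (h0 : i ≫ a.left = i ≫ b.left) (hgood : ∀ x, GoodPt G (a.left x))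
    (hk : ∀ x : X.left, ∃ (V : S.Opens) (n : ℕ), X.hom x ∈ V ∧ (∀ t ∈ V, (n : S.residueField t) ≠ 0) ∧
      Killed a n V ∧ Killed b n V) : a = b := by
  refine Over.OverMorphism.ext (Scheme.hom_ext_of_forall _ _ fun x => ?_)
  obtain ⟨V, n, hxV, hn, ha, hb⟩ := hk x
  have hax : G.hom (a.left x) = X.hom x := by rw [← Scheme.Hom.comp_apply, Over.w]
  obtain ⟨W, hxW, hW⟩ := hgood x n (by rw [hax]; exact hn _ hxV)
  let O : X.left.Opens := a.left ⁻¹ᵁ W ⊓ X.hom ⁻¹ᵁ V
  refine ⟨O, ⟨hxW, hxV⟩, ?_⟩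
  let k : Over.mk (O.ι ≫ X.hom) ⟶ Over.mk ((X.hom ⁻¹ᵁ V).ι ≫ X.hom) :=
    Over.homMk (X.left.homOfLE inf_le_right) (by simp [O])
  let r : Over.mk (O.ι ≫ X.hom) ⟶ X := Over.homMk O.ι rfl
  have hr : ∀ c : X ⟶ G, Killed c n V → (r ≫ c) ^ n = 1 := fun c hc => by
    have hk : k ≫ Over.homMk (X.hom ⁻¹ᵁ V).ι rfl = r := by ext1; exact X.left.homOfLE_ι inf_le_right
    rw [← hk, Category.assoc, ← MonObj.comp_pow]
    exact (congrArg (k ≫ ·) hc).trans (MonObj.comp_one _)
  obtain ⟨za, hza⟩ := exists_lift _ (hr a ha)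
  obtain ⟨zb, hzb⟩ := exists_lift _ (hr b hb)
  change za ≫ powKerι G n = O.ι ≫ a.left at hza
  change zb ≫ powKerι G n = O.ι ≫ b.left at hzb
  haveI := hW
  haveI := etale_powKer_restrict n W
  let U := powKerι G n ⁻¹ᵁ W
  have hab : ∀ y, b.left y = a.left y := fun y => by
    obtain ⟨z, rfl⟩ := i.surjective y
    rw [← Scheme.Hom.comp_apply, ← Scheme.Hom.comp_apply, h0]
  have hra : Set.range za ⊆ Set.range U.ι := by
    rw [Scheme.Opens.range_ι]
    rintro _ ⟨y, rfl⟩
    show powKerι G n (za y) ∈ W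
    rw [← Scheme.Hom.comp_apply, hza]
    exact y.2.1
  have hrb : Set.range zb ⊆ Set.range U.ι := by
    rw [Scheme.Opens.range_ι]
    rintro _ ⟨y, rfl⟩
    show powKerι G n (zb y) ∈ W
    rw [← Scheme.Hom.comp_apply, hzb, Scheme.Hom.comp_apply, hab]
    exact y.2.1
  let la := IsOpenImmersion.lift U.ι za hra
  let lb := IsOpenImmersion.lift U.ι zb hrb
  have hla : la ≫ U.ι ≫ powKerι G n = O.ι ≫ a.left := by rw [IsOpenImmersion.lift_fac_assoc, hza]
  have hlb : lb ≫ U.ι ≫ powKerι G n = O.ι ≫ b.left := by rw [IsOpenImmersion.lift_fac_assoc, hzb]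
  suffices h : la = lb by rw [← hla, h, hlb]
  haveI : Surjective (i ∣_ O) := IsZariskiLocalAtTarget.restrict (P := @Surjective) inferInstance O
  refine FEtLib.eq_of_surjective (U.ι ≫ powKerι G n ≫ G.hom) la lb (i ∣_ O) ?_ ?_
  · haveI : Mono (U.ι ≫ powKerι G n) := by
      haveI : Mono η[G].left := (SplitMono.mk G.hom (Over.w η[G])).mono
      infer_instance
    rw [← cancel_mono (U.ι ≫ powKerι G n), Category.assoc, Category.assoc, hla, hlb, morphismRestrict_ι_assoc,
      morphismRestrict_ι_assoc, h0]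
  · rw [reassoc_of% hla, reassoc_of% hlb, Over.w, Over.w]

section Thickening

variable {S₀ : Scheme.{u}} (q : S₀ ⟶ S) [IsClosedImmersion q] [Surjective q]
  [Flat G.hom] [LocallyOfFinitePresentation G.hom]

omit [Surjective q] in
/-- The points of a central finite etale subgroup of a thickened group are good. -/
theorem goodPt_central {H₀ : Over S₀} [Etale H₀.hom] (u₀ : H₀ ⟶ Red.bc q G)
    (hc₀ : ∀ (X : Over S₀) (x : X ⟶ H₀) (g : X ⟶ Red.bc q G), (x ≫ u₀) * g = g * (x ≫ u₀)) (h : H₀.left) :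
    GoodPt G ((u₀.left ≫ pullback.fst G.hom q) h) := by
  intro n hn
  let G₀ : Over S₀ := Red.bc q G
  haveI : Flat G₀.hom := MorphismProperty.pullback_snd G.hom q inferInstance
  haveI : LocallyOfFinitePresentation G₀.hom := MorphismProperty.pullback_snd G.hom q inferInstance
  let T := H₀.left
  let GT : Over T := Red.bc H₀.hom G₀
  haveI : Flat GT.hom := MorphismProperty.pullback_snd G₀.hom H₀.hom inferInstance
  haveI : LocallyOfFinitePresentation GT.hom := MorphismProperty.pullback_snd G₀.hom H₀.hom inferInstance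
  let c : (Over.map H₀.hom).obj (𝟙_ (Over T)) ⟶ H₀ := Over.homMk (𝟙 T) rfl
  let σ : 𝟙_ (Over T) ⟶ GT := BCPoints.pt H₀.hom G₀ _ (c ≫ u₀)
  have hσ : Commute (toUnit GT ≫ σ) (𝟙 GT) := by
    show toUnit GT ≫ σ * 𝟙 GT = 𝟙 GT * (toUnit GT ≫ σ)
    obtain ⟨g, hg⟩ := (BCPoints.pt H₀.hom G₀ GT).surjective (𝟙 GT)
    rw [← hg, ← BCPoints.pt_map_comp, ← BCPoints.pt_mul, ← BCPoints.pt_mul, ← Category.assoc, hc₀]
  have hσfst : σ.left ≫ pullback.fst G₀.hom H₀.hom = u₀.left :=
    (pt_left_fst H₀.hom (c ≫ u₀)).trans (Category.id_comp _)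
  set x₀ := u₀.left h with hx₀
  have hw : (u₀.left ≫ pullback.fst G.hom q) ≫ G.hom = H₀.hom ≫ q :=
    (Category.assoc _ _ _).trans ((congrArg (u₀.left ≫ ·) pullback.condition).trans
      ((Category.assoc _ _ _).symm.trans (congrArg (· ≫ q) (Over.w u₀))))
  have hs : G.hom (pullback.fst G.hom q x₀) = (H₀.hom ≫ q) h := by
    rw [← hw]
    rfl
  obtain ⟨WT, hxWT, hWT⟩ := etale_nhd_section (n := n) GT σ hσ h (by
    intro h0
    refine hn ?_
    have : (n : S.residueField ((H₀.hom ≫ q) h)) = 0 := ((H₀.hom ≫ q).residueFieldMap h).hom.injective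
      (by rw [map_natCast, map_zero]; exact h0)
    rw [show G.hom ((u₀.left ≫ pullback.fst G.hom q) h) = (H₀.hom ≫ q) h from hs]
    exact this)
  let pr := pullback.fst G₀.hom H₀.hom
  let pw₀ := ((𝟙 G₀ : G₀ ⟶ G₀) ^ n)
  let pw := ((𝟙 G : G ⟶ G) ^ n)
  have hsq : ((𝟙 GT : GT ⟶ GT) ^ n).left ≫ pr = pr ≫ pw₀.left := by
    rw [← map_pow H₀.hom G₀]
    exact pullback.lift_fst _ _ _
  haveI : Etale pr := MorphismProperty.pullback_fst G₀.hom H₀.hom inferInstance
  haveI := SGA3Homog26.lfp_left pw₀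
  haveI := hWT
  haveI : LocallyOfFinitePresentation (pr ≫ pw₀.left) := inferInstance
  obtain ⟨W₀, hxW₀, hW₀⟩ := S2806.result pw₀.left (pr ≫ pw₀.left) pr rfl (σ.left h) (Flat.stalkMap _ _)
    ⟨WT, hxWT, by rw [← hsq, ← Category.assoc]; infer_instance⟩
  have hx : pr (σ.left h) = x₀ := by rw [← Scheme.Hom.comp_apply, hσfst]
  replace hxW₀ : x₀ ∈ W₀ := hx ▸ hxW₀
  let fq := pullback.fst G.hom q
  obtain ⟨W', hW', hWe⟩ := fq.isClosedEmbedding.isInducing.isOpen_iff.1 W₀.2
  let W : G.left.Opens := ⟨W', hW'⟩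
  obtain rfl : fq ⁻¹ᵁ W = W₀ := TopologicalSpace.Opens.ext hWe
  haveI : LocallyOfFinitePresentation (pw.left ≫ G.hom) := by rw [Over.w]; infer_instance
  haveI : Flat (pw.left ≫ G.hom) := by rw [Over.w]; infer_instance
  refine etale_nhd_of_fibre pw.left G.hom (fq x₀) W hxW₀ ?_
  have hs' : G.hom (pw.left (fq x₀)) = q (H₀.hom h) := by
    rw [← Scheme.Hom.comp_apply, ← Scheme.Hom.comp_apply, Over.w pw]
    exact hs
  rw [hs']
  let s₀ := H₀.hom h
  let iS := S.fromSpecResidueField (q s₀)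
  haveI : IsIso (q.residueFieldMap s₀) := (ConcreteCategory.isIso_iff_bijective _).2
    ⟨(q.residueFieldMap s₀).hom.injective, fun a => by
      obtain ⟨a₀, rfl⟩ := IsLocalRing.residue_surjective a
      obtain ⟨b₀, rfl⟩ := Scheme.Hom.stalkMap_surjective q s₀ a₀
      exact ⟨IsLocalRing.residue _ b₀, rfl⟩⟩
  let j : Spec (S.residueField (q s₀)) ⟶ S₀ := Spec.map (inv (q.residueFieldMap s₀)) ≫ S₀.fromSpecResidueField s₀
  have hj : j ≫ q = iS := by
    rw [Category.assoc, ← Scheme.Hom.SpecMap_residueFieldMap_fromSpecResidueField, ← Spec.map_comp_assoc,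
      IsIso.hom_inv_id, Spec.map_id, Category.id_comp]
  let l : G.hom.fiber (q s₀) ⟶ G₀.left := pullback.lift (pullback.fst G.hom iS) (pullback.snd G.hom iS ≫ j)
    (by rw [Category.assoc, hj]; exact pullback.condition)
  have hl : l ≫ fq = G.hom.fiberι (q s₀) := pullback.lift_fst _ _ _
  have hpb : IsPullback fq pw₀.left pw.left fq := by
    have := SGA3UnitSec.isPullback_map_left q pw
    rw [show (Over.pullback q).map pw = pw₀ from map_pow q G n] at this
    exact this
  have H := (isPullback_morphismRestrict fq W).paste_vert hpb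
  have h1 : Etale (pullback.snd (W.ι ≫ pw.left) fq) := by
    rw [← H.isoPullback_inv_snd]
    exact MorphismProperty.RespectsIso.precomp @Etale _ _ hW₀
  rw [← hl, ← pullbackLeftPullbackSndIso_inv_snd_snd (W.ι ≫ pw.left) fq l]
  exact MorphismProperty.RespectsIso.precomp @Etale _ _ (MorphismProperty.pullback_snd _ _ h1)

/-- Central homomorphisms from finite etale groups of multiplicative type lift uniquely. -/
theorem existsUnique_central_lift (H : Over S) [GrpObj H] [Smooth H.hom] [IsFinite H.hom]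
    (hH : SGA3x.IsMultTypeFT H) (u₀ : Red.bc q H ⟶ Red.bc q G) [IsMonHom u₀]
    (hc₀ : ∀ (X : Over S₀) (x : X ⟶ Red.bc q H) (g : X ⟶ Red.bc q G), (x ≫ u₀) * g = g * (x ≫ u₀)) :
    ∃ u : H ⟶ G, IsMonHom u ∧ (Over.pullback q).map u = u₀ ∧
      (∀ (X : Over S) (x : X ⟶ H) (g : X ⟶ G), (x ≫ u) * g = g * (x ≫ u)) ∧
      ∀ u' : H ⟶ G, IsMonHom u' → (Over.pullback q).map u' = u₀ → u' = u := by
  classical
  haveI := etale_of_smooth_of_finite H.hom
  let H₀ : Over S₀ := Red.bc q H
  haveI : Etale H₀.hom := MorphismProperty.pullback_snd H.hom q inferInstance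
  let F := Over.pullback q
  let i : H₀.left ⟶ H.left := pullback.fst H.hom q
  haveI : IsClosedImmersion i := MorphismProperty.pullback_fst H.hom q inferInstance
  haveI : Surjective i := MorphismProperty.pullback_fst H.hom q inferInstance
  let x₀ : H₀.left ⟶ G.left := u₀.left ≫ pullback.fst G.hom q
  have hgood : ∀ h, GoodPt G (x₀ h) := goodPt_central q u₀ hc₀
  have hx₀ : x₀ ≫ G.hom = i ≫ H.hom := by
    rw [Category.assoc, pullback.condition, ← Category.assoc,
      show u₀.left ≫ pullback.snd G.hom q = pullback.snd H.hom q from Over.w u₀]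
    exact pullback.condition.symm
  choose n V hsV hn hk using exists_killedOn H hH
  -- the restriction of `u₀` is killed
  let b₀ : (Over.map q).obj H₀ ⟶ H := (BCPoints.pt q H H₀).symm (𝟙 _)
  let a₀ : (Over.map q).obj H₀ ⟶ G := (BCPoints.pt q G H₀).symm u₀
  have hb₀l : b₀.left = i := by simp [b₀, BCPoints.pt, Adjunction.homEquiv_counit, i]
  have ha₀l : a₀.left = x₀ := by simp [a₀, BCPoints.pt, Adjunction.homEquiv_counit, x₀]
  have ha₀ : ∀ s, Killed a₀ (n s) (V s) := by
    intro s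
    have hb : Killed b₀ (n s) (V s) := by simpa using (hk s).comp b₀
    let O₀ := ((Over.map q).obj H₀).hom ⁻¹ᵁ V s
    let X : Over S₀ := Over.mk (O₀.ι ≫ H₀.hom)
    let c' : X ⟶ H₀ := Over.homMk O₀.ι rfl
    let k : (Over.map q).obj X ⟶ Over.mk (O₀.ι ≫ ((Over.map q).obj H₀).hom) :=
      Over.homMk (𝟙 _) (by simp [X])
    let k' : Over.mk (O₀.ι ≫ ((Over.map q).obj H₀).hom) ⟶ (Over.map q).obj X :=
      Over.homMk (𝟙 _) (by simp [X])
    let r : Over.mk (O₀.ι ≫ ((Over.map q).obj H₀).hom) ⟶ (Over.map q).obj H₀ := Over.homMk O₀.ι rfl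
    have hkr : k ≫ r = (Over.map q).map c' := by ext1; exact Category.id_comp _
    have hkr' : k' ≫ (Over.map q).map c' = r := by ext1; exact Category.id_comp _
    have h1 : c' ^ n s = 1 := by
      have h2 : ((Over.map q).map c' ≫ b₀) ^ n s = 1 := by
        rw [← hkr, Category.assoc, ← MonObj.comp_pow]
        exact (congrArg (k ≫ ·) hb).trans (MonObj.comp_one _)
      have h3 := congrArg (MonoidHom.mk' (BCPoints.pt q H X) (BCPoints.pt_mul q)) h2
      rw [_root_.map_pow, _root_.map_one] at h3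
      change (BCPoints.pt q H X ((Over.map q).map c' ≫ b₀)) ^ n s = 1 at h3
      rwa [BCPoints.pt_map_comp, Equiv.apply_symm_apply, Category.comp_id] at h3
    show (r ≫ a₀) ^ n s = 1
    rw [← hkr', Category.assoc, ← MonObj.comp_pow]
    have h4 : ((Over.map q).map c' ≫ a₀) ^ n s = 1 := by
      apply (BCPoints.pt q G X).injective
      have h5 := _root_.map_pow (MonoidHom.mk' (BCPoints.pt q G X) (BCPoints.pt_mul q)) ((Over.map q).map c' ≫ a₀) (n s)
      have h6 := _root_.map_one (MonoidHom.mk' (BCPoints.pt q G X) (BCPoints.pt_mul q))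
      simp only [MonoidHom.mk'_apply] at h5 h6
      rw [h5, h6, BCPoints.pt_map_comp, Equiv.apply_symm_apply, ← MonObj.pow_comp, h1, MonObj.one_comp]
    rw [h4, MonObj.comp_one]
  -- local lifts
  let O : S → H.left.Opens := fun s => H.hom ⁻¹ᵁ V s
  have hloc : ∀ s, ∃ v : Over.mk ((O s).ι ≫ H.hom) ⟶ G,
      (i ∣_ O s) ≫ v.left = (i ⁻¹ᵁ O s).ι ≫ x₀ ∧ v ^ n s = 1 := by
    intro s
    obtain ⟨W, hW, hWmem⟩ := exists_etale_open (G := G) (n s)
    haveI := hW
    haveI := etale_powKer_restrict (n s) W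
    let U := powKerι G (n s) ⁻¹ᵁ W
    let O₀ := i ⁻¹ᵁ O s
    have hmem : ∀ y : H₀.left, y ∈ O₀ → y ∈ ((Over.map q).obj H₀).hom ⁻¹ᵁ V s := fun y hy => by
      show (pullback.snd H.hom q ≫ q) y ∈ V s
      rw [← pullback.condition]
      exact hy
    obtain ⟨z, hz⟩ := exists_lift _ (ha₀ s)
    let j : (O₀ : Scheme) ⟶ (((Over.map q).obj H₀).hom ⁻¹ᵁ V s : Scheme) := H₀.left.homOfLE hmem
    have hz' : (j ≫ z) ≫ powKerι G (n s) = O₀.ι ≫ x₀ := by
      rw [Category.assoc, hz, ← ha₀l]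
      show j ≫ (((Over.map q).obj H₀).hom ⁻¹ᵁ V s).ι ≫ a₀.left = _
      rw [← Category.assoc]
      exact congrArg (· ≫ a₀.left) (H₀.left.homOfLE_ι hmem)
    have hrange : Set.range (j ≫ z) ⊆ Set.range U.ι := by
      rw [Scheme.Opens.range_ι]
      rintro _ ⟨y, rfl⟩
      show powKerι G (n s) ((j ≫ z) y) ∈ W
      rw [← Scheme.Hom.comp_apply, hz', Scheme.Hom.comp_apply]
      have hsy : (n s : S.residueField (G.hom (x₀ y.1))) ≠ 0 := by
        rw [← Scheme.Hom.comp_apply, hx₀]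
        exact hn s _ y.2
      obtain ⟨W', h1, h2⟩ := hgood y.1 (n s) hsy
      exact hWmem _ W' h1 h2
    haveI : Surjective (i ∣_ O s) := IsZariskiLocalAtTarget.restrict (P := @Surjective) inferInstance (O s)
    obtain ⟨l, hl, hil⟩ := exists_lift_of_etale (U.ι ≫ powKerι G (n s) ≫ G.hom) (i ∣_ O s)
      (IsOpenImmersion.lift U.ι (j ≫ z) hrange) ((O s).ι ≫ H.hom) (by
        rw [IsOpenImmersion.lift_fac_assoc, ← Category.assoc (j ≫ z), hz', Category.assoc, hx₀, morphismRestrict_ι_assoc])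
    let v : Over.mk ((O s).ι ≫ H.hom) ⟶ G :=
      Over.homMk (l ≫ U.ι ≫ powKerι G (n s)) (by simpa using hl)
    refine ⟨v, ?_, ?_⟩
    · show (i ∣_ O s) ≫ l ≫ U.ι ≫ powKerι G (n s) = _
      rw [reassoc_of% hil, IsOpenImmersion.lift_fac_assoc, hz']
    · have hv : v = (Over.homMk (l ≫ U.ι) (by simpa using hl) : _ ⟶ Dense26.powKerOver G (n s)) ≫ powKerHom G (n s) := by
        ext1; simp [v]
      rw [hv, ← MonObj.comp_pow, powKerHom_pow, MonObj.comp_one]
  choose v hv hvn using hloc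
  let 𝒰 : H.left.OpenCover := H.left.openCoverOfIsOpenCover O (TopologicalSpace.IsOpenCover.mk
    (top_le_iff.1 fun x _ => TopologicalSpace.Opens.mem_iSup.2 ⟨H.hom x, hsV _⟩))
  have hglue : ∀ s t, pullback.fst (O s).ι (O t).ι ≫ (v s).left = pullback.snd (O s).ι (O t).ι ≫ (v t).left := by
    intro s t
    let P : Over S := Over.mk (pullback.fst (O s).ι (O t).ι ≫ (O s).ι ≫ H.hom)
    let ps : P ⟶ Over.mk ((O s).ι ≫ H.hom) := Over.homMk (pullback.fst _ _) rfl
    let pt' : P ⟶ Over.mk ((O t).ι ≫ H.hom) := Over.homMk (pullback.snd _ _) (by simp [P, pullback.condition_assoc])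
    let iP := pullback.fst (pullback.fst (O s).ι (O t).ι ≫ (O s).ι) i
    haveI : Surjective iP := MorphismProperty.pullback_fst _ i inferInstance
    suffices h : ps ≫ v s = pt' ≫ v t from congrArg CommaMorphism.left h
    have hiP : ∀ (r : S) (p : pullback (O s).ι (O t).ι ⟶ (O r : Scheme)),
        p ≫ (O r).ι = pullback.fst (O s).ι (O t).ι ≫ (O s).ι →
        iP ≫ p ≫ (v r).left = pullback.snd (pullback.fst (O s).ι (O t).ι ≫ (O s).ι) i ≫ x₀ := by
      intro r p hp
      let m := IsOpenImmersion.lift (i ⁻¹ᵁ O r).ι (pullback.snd (pullback.fst (O s).ι (O t).ι ≫ (O s).ι) i) (by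
        rw [Scheme.Opens.range_ι]
        rintro _ ⟨z, rfl⟩
        show (pullback.snd (pullback.fst (O s).ι (O t).ι ≫ (O s).ι) i ≫ i) z ∈ O r
        have e : pullback.snd (pullback.fst (O s).ι (O t).ι ≫ (O s).ι) i ≫ i = (iP ≫ p) ≫ (O r).ι := by
          rw [Category.assoc, hp]
          exact pullback.condition.symm
        rw [e]
        exact ((iP ≫ p) z).2)
      have hm : m ≫ (i ∣_ O r) = iP ≫ p := by
        rw [← cancel_mono (O r).ι, Category.assoc, morphismRestrict_ι, IsOpenImmersion.lift_fac_assoc,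
          ← pullback.condition, Category.assoc, hp]
      rw [← Category.assoc, ← hm, Category.assoc, hv r, IsOpenImmersion.lift_fac_assoc]
    refine eq_of_killed _ _ iP ?_ ?_ fun x => ⟨V s ⊓ V t, n s * n t, ⟨?_, ?_⟩, fun t' ht' => ?_, ?_, ?_⟩
    · exact (hiP s _ rfl).trans (hiP t _ pullback.condition.symm).symm
    · intro x
      obtain ⟨z, rfl⟩ := iP.surjective x
      rw [← Scheme.Hom.comp_apply, show iP ≫ (ps ≫ v s).left = _ from hiP s _ rfl, Scheme.Hom.comp_apply]
      exact hgood _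
    · exact (pullback.fst (O s).ι (O t).ι x).2
    · show (pullback.fst (O s).ι (O t).ι ≫ (O s).ι ≫ H.hom) x ∈ V t
      rw [pullback.condition_assoc]
      exact (pullback.snd (O s).ι (O t).ι x).2
    · rw [Nat.cast_mul]
      exact mul_ne_zero (hn s _ ht'.1) (hn t _ ht'.2)
    · show _ ^ _ = 1
      rw [pow_mul, ← MonObj.comp_pow, ← MonObj.comp_pow, ← MonObj.comp_pow, hvn s, MonObj.comp_one, one_pow, MonObj.comp_one]
    · show _ ^ _ = 1
      rw [mul_comm, pow_mul, ← MonObj.comp_pow, ← MonObj.comp_pow, ← MonObj.comp_pow, hvn t, MonObj.comp_one, one_pow, MonObj.comp_one]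
  let ul := 𝒰.glueMorphisms (fun s => (v s).left) hglue
  have hul : ∀ s, (O s).ι ≫ ul = (v s).left := fun s => 𝒰.ι_glueMorphisms _ hglue s
  let u : H ⟶ G := Over.homMk ul (𝒰.hom_ext _ _ fun s => by
    show (O s).ι ≫ ul ≫ G.hom = (O s).ι ≫ H.hom
    rw [← Category.assoc, hul]
    exact Over.w (v s))
  have hku : ∀ s, Killed u (n s) (V s) := fun s => by
    show _ ^ n s = 1
    rw [show Over.homMk (U := Over.mk ((H.hom ⁻¹ᵁ V s).ι ≫ H.hom)) (H.hom ⁻¹ᵁ V s).ι rfl ≫ u = v s from
      Over.OverMorphism.ext (hul s), hvn s]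
  have hiu : i ≫ u.left = x₀ := by
    refine Scheme.hom_ext_of_forall _ _ fun y => ⟨i ⁻¹ᵁ O (H.hom (i y)), hsV _, ?_⟩
    rw [← hv, ← hul, morphismRestrict_ι_assoc]
    rfl
  have hu₀ : F.map u = u₀ := by
    refine Over.OverMorphism.ext (pullback.hom_ext ?_ ?_)
    · exact (pullback.lift_fst _ _ _).trans hiu
    · exact (pullback.lift_snd _ _ _).trans (Over.w u₀).symm
  have hug : ∀ y, GoodPt G (u.left y) := fun y => by
    obtain ⟨z, rfl⟩ := i.surjective y
    rw [← Scheme.Hom.comp_apply, hiu]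
    exact hgood z
  have hext : ∀ {X : Over S} (a b : X ⟶ G), F.map a = F.map b →
      pullback.fst X.hom q ≫ a.left = pullback.fst X.hom q ≫ b.left := by
    intro X a b h
    have h1 := congrArg (fun t => t.left ≫ pullback.fst G.hom q) h
    exact ((pullback.lift_fst _ _ _).symm.trans h1).trans (pullback.lift_fst _ _ _)
  have hcent : ∀ (X : Over S) (x : X ⟶ H) (g : X ⟶ G), (x ≫ u) * g = g * (x ≫ u) := by
    intro X x g
    let a := x ≫ u
    haveI : Surjective (pullback.fst X.hom q) := MorphismProperty.pullback_fst X.hom q inferInstance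
    have h : a = g * a * g⁻¹ := by
      refine eq_of_killed a (g * a * g⁻¹) (pullback.fst X.hom q) (hext _ _ ?_) (fun y => hug _) fun y =>
        ⟨V (X.hom y), n (X.hom y), hsV _, hn _, (hku _).comp x, ?_⟩
      · have e : F.homMonoidHom (g * a * g⁻¹) = F.map a := by
          rw [map_mul, map_mul, map_inv]
          have e1 : F.homMonoidHom a = F.map x ≫ u₀ := by
            show F.map a = _
            rw [F.map_comp, hu₀]
          rw [e1, ← hc₀ _ (F.map x) (F.homMonoidHom g), mul_inv_cancel_right, ← e1]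
          rfl
        exact e.symm
      · show _ ^ _ = 1
        rw [MonObj.comp_mul, MonObj.comp_mul, GrpObj.comp_inv, conj_pow, (hku _).comp x, _root_.mul_one, mul_inv_cancel]
    exact eq_mul_inv_iff_mul_eq.1 h
  have hmon : IsMonHom u := by
    refine BCPoints.isMonHom_of_mul u fun X x y => ?_
    haveI : Surjective (pullback.fst X.hom q) := MorphismProperty.pullback_fst X.hom q inferInstance
    refine eq_of_killed _ _ (pullback.fst X.hom q) (hext _ _ ?_) (fun z => ?_) fun z =>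
      ⟨V (X.hom z), n (X.hom z), hsV _, hn _, (hku _).comp (x * y), ?_⟩
    · show F.map ((x * y) ≫ u) = F.homMonoidHom ((x ≫ u) * (y ≫ u))
      rw [map_mul, F.map_comp, hu₀]
      show F.homMonoidHom (x * y) ≫ u₀ = F.map (x ≫ u) * F.map (y ≫ u)
      rw [map_mul, MonObj.mul_comp, F.map_comp, F.map_comp, hu₀]
      rfl
    · exact hug _
    · show _ ^ _ = 1
      have hc : Commute (x ≫ u) (y ≫ u) := hcent X x (y ≫ u)
      rw [MonObj.comp_mul]
      refine (Commute.mul_pow ?_ _).trans (by rw [(hku _).comp x, (hku _).comp y, _root_.one_mul])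
      show _ * _ = _ * _
      rw [← MonObj.comp_mul, ← MonObj.comp_mul, hc.eq]
  refine ⟨u, hmon, hu₀, hcent, fun u' hu' hu'₀ => ?_⟩
  haveI : Surjective (pullback.fst H.hom q) := ‹Surjective i›
  refine (eq_of_killed u u' (pullback.fst H.hom q) (hext _ _ (hu₀.trans hu'₀.symm)) hug fun y =>
    ⟨V (H.hom y), n (H.hom y), hsV _, hn _, hku _, ?_⟩).symm
  show _ ^ _ = 1
  rw [← MonObj.pow_comp]
  have h1 := hk (H.hom y)
  unfold Killed at h1
  rw [Category.comp_id] at h1
  rw [h1, MonObj.one_comp]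

end Thickening

end Groth.Agent.SGA3Power26
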