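import Groth.Agent.SGA3Power26.AvgHomNil
import Groth.Agent.IsoTriv.SchemeBridge
import Groth.Agent.IsoTriv.SmoothNil
import Groth.Agent.SGA3Power26.CentralLift

/-!
# Lifting homomorphisms from groups of multiplicative type into smooth groups
-/

set_option autoImplicit false
set_option linter.style.haveILetI false
set_option linter.unusedSectionVars false
set_option linter.unusedTactic false
set_option linter.unreachableTactic false
set_option linter.unusedVariables false
set_option backward.isDefEq.respectTransparency.types false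
universe u

open CategoryTheory CategoryTheory.Limits MonoidalCategory CartesianMonoidalCategory MonObj AlgebraicGeometry CoactBr
open scoped TensorProduct
open Groth.Agent.HopfLib.SpPoints Groth.Agent.IsoTriv Groth.Agent.SGA3bLib
open Groth.Agent.SGA3cLib

noncomputable section

namespace Groth.Agent.SGA3Power26.HomLiftMult

open AvgPoints

/-- multiplicative type for the fpqc topology, any type -/
abbrev IsMT {S : Scheme.{u}} (H : Over S) [GrpObj H] : Prop :=
  TwC.Locally S TwC.Topology.fpqc (fun S' f => ∃ (M : Type) (_ : AddCommGroup M),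
    Nonempty (Grp.mk (Red.bc f H) ≅ Grp.mk (Red.DS S' M)))

theorem isMT_of_iso {S : Scheme.{u}} {H H' : Over S} [GrpObj H] [GrpObj H'] (e : Grp.mk H ≅ Grp.mk H')
    (hH : IsMT H) : IsMT H' := by
  obtain ⟨S', f, hfl, hsu, hq, hU⟩ := hH
  refine ⟨S', f, hfl, hsu, hq, fun s => ?_⟩
  obtain ⟨U, hs, M, hMag, ⟨i⟩⟩ := hU s
  obtain ⟨j⟩ := SchemeSpec.nonempty_bc_congr (U.ι ≫ f) e
  exact ⟨U, hs, M, hMag, ⟨j.symm ≪≫ i⟩⟩

theorem isAffineHom_of_isMT {S : Scheme.{u}} (H : Over S) [GrpObj H] (hH : IsMT H) : IsAffineHom H.hom := by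
  obtain ⟨S', f, hfl, -, hq, hU⟩ := hH
  choose U hmem M hMag e using hU
  haveI := hfl
  have hcov : TopologicalSpace.IsOpenCover U :=
    TopologicalSpace.IsOpenCover.mk (eq_top_iff.2 fun s _ => TopologicalSpace.Opens.mem_iSup.2 ⟨s, hmem s⟩)
  haveI := Et18.descends_isAffineHom.{u}
  refine (IsFpqcCov.of_forall f hq).descend @IsAffineHom H.hom ?_
  refine IsZariskiLocalAtTarget.of_openCover (P := @IsAffineHom) (S'.openCoverOfIsOpenCover U hcov) fun s => ?_
  have h1 : IsAffineHom (Red.DS (U s : Scheme.{u}) (M s)).hom := by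
    refine MorphismProperty.pullback_snd (P := @IsAffineHom) _ _ ?_
    exact isAffineHom_of_isAffine (X := Spec (CommRingCat.of (MonoidAlgebra (ULift.{u} ℤ) (Multiplicative (M s))))) _
  let i : Red.bc ((U s).ι ≫ f) H ≅ Red.DS (U s : Scheme.{u}) (M s) := (Grp.forget _).mapIso (e s).some
  change IsAffineHom (pullback.snd (pullback.snd H.hom f) (U s).ι)
  rw [← pullbackLeftPullbackSndIso_hom_snd,
    MorphismProperty.cancel_left_of_respectsIso @IsAffineHom]
  show IsAffineHom (Red.bc ((U s).ι ≫ f) H).hom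
  rw [← Over.w i.hom]
  infer_instance

variable {R : Type u} [CommRing R]

theorem isMultType_of_isMT {A : Type u} [CommRing A] [HopfAlgebra R A] (h : IsMT (sp R A)) :
    SGA3b.IsMultType R A := by
  classical
  obtain ⟨S', f, hfl, -, hq, hU⟩ := h
  haveI := hfl
  choose U hmem M hMag e using hU
  obtain ⟨W, hWc, hWs⟩ := hq ⊤ (isAffineOpen_top _)
  have hB : ∀ s : S', ∃ B : S'.Opens, IsAffineOpen B ∧ s ∈ B ∧ B ≤ U s := fun s => by
    obtain ⟨B, hB, hs, hle⟩ := exists_isAffineOpen_mem_and_subset (hmem s)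
    exact ⟨B, hB, hs, hle⟩
  choose B hBa hBmem hBU using hB
  obtain ⟨F, hF⟩ := hWc.elim_finite_subcover (fun s => (B s : Set S')) (fun s => (B s).2)
    fun x _ => Set.mem_iUnion.mpr ⟨x, hBmem x⟩
  let T : {s // s ∈ F} → Type u := fun s => Γ(S', B s.1)
  let g : ∀ s : {s // s ∈ F}, Spec (CommRingCat.of (T s)) ⟶ Spec (CommRingCat.of R) :=
    fun s => (hBa s.1).fromSpec ≫ f
  let : ∀ s, Algebra R (T s) := fun s => (Spec.preimage (g s)).hom.toAlgebra
  have hg : ∀ s, str R (T s) = g s := fun s => Spec.map_preimage (g s)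
  refine isMultType_of_hasCover ⟨{s // s ∈ F}, inferInstance, T, inferInstance, inferInstance, fun s => ?_,
    fun p => ?_, fun s => ?_⟩
  · have h1 : Flat (str R (T s)) := by rw [hg]; infer_instance
    rw [HasRingHomProperty.Spec_iff (P := @Flat), CommRingCat.hom_ofHom, RingHom.flat_algebraMap_iff] at h1
    exact h1
  · have hp : (p : Spec (CommRingCat.of R)) ∈ f.base '' (W : Set S') := by rw [hWs]; trivial
    obtain ⟨w, hw, hwp⟩ := hp
    obtain ⟨s, hs⟩ := Set.mem_iUnion.mp (hF hw)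
    obtain ⟨hsF, hws⟩ := Set.mem_iUnion.mp hs
    obtain ⟨q, hq'⟩ : w ∈ Set.range (hBa s).fromSpec.base := by rw [(hBa s).range_fromSpec]; exact hws
    refine ⟨⟨s, hsF⟩, q, ?_⟩
    show (str R (T ⟨s, hsF⟩)).base q = p
    rw [hg]
    show f.base ((hBa s).fromSpec.base q) = p
    rw [hq', hwp]
  · let c : Spec (CommRingCat.of (T s)) ⟶ (U s.1 : Scheme.{u}) :=
      (hBa s.1).isoSpec.inv ≫ S'.homOfLE (hBU s.1)
    obtain ⟨E⟩ := SchemeSpec.nonempty_triv_of_restrict A ((U s.1).ι ≫ f) (e s.1).some (T s) c (by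
      rw [hg, Category.assoc, ← Category.assoc (S'.homOfLE _), Scheme.homOfLE_ι, ← Category.assoc,
        (hBa s.1).isoSpec_inv_ι])
    exact ⟨ULift.{u} (Multiplicative (M s.1)), inferInstance,
      ⟨E.trans (MonoidAlgebra.domCongrBialgEquiv (R := T s) (A := T s) MulEquiv.ulift.symm)⟩⟩

variable (J : Ideal R)

/-- the thickening -/
abbrev thick : Spec (CommRingCat.of (R ⧸ J)) ⟶ Spec (CommRingCat.of R) :=
  Spec.map (CommRingCat.ofHom (Ideal.Quotient.mk J))

/-- an algebra killed by `J` as a scheme over `R ⧸ J` -/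
def over₀ (D : Type u) [CommRing D] [Algebra R D] (hD : J ≤ RingHom.ker (algebraMap R D)) :
    Over (Spec (CommRingCat.of (R ⧸ J))) :=
  Over.mk (Spec.map (CommRingCat.ofHom (Ideal.Quotient.lift J (algebraMap R D) hD)))

def over₀Iso (D : Type u) [CommRing D] [Algebra R D] (hD : J ≤ RingHom.ker (algebraMap R D)) :
    (Over.map (thick J)).obj (over₀ J D hD) ≅ sp R D :=
  Over.isoMk (Iso.refl _) (by
    show 𝟙 _ ≫ Spec.map _ = Spec.map _ ≫ Spec.map _
    rw [Category.id_comp, ← Spec.map_comp, ← CommRingCat.ofHom_comp, Ideal.Quotient.lift_comp_mk])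

variable {J} {H G : Over (Spec (CommRingCat.of R))} [GrpObj H] [GrpObj G]
variable (u₀ : Red.bc (thick J) H ⟶ Red.bc (thick J) G)

/-- the map induced on points above `R ⧸ J` -/
def onPts (X' : Over (Spec (CommRingCat.of (R ⧸ J)))) (h : (Over.map (thick J)).obj X' ⟶ H) : (Over.map (thick J)).obj X' ⟶ G :=
  (BCPoints.pt (thick J) G X').symm (BCPoints.pt (thick J) H X' h ≫ u₀)

theorem onPts_comp {X' Y' : Over (Spec (CommRingCat.of (R ⧸ J)))} (m : Y' ⟶ X') (h : (Over.map (thick J)).obj X' ⟶ H) :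
    onPts u₀ Y' ((Over.map (thick J)).map m ≫ h) = (Over.map (thick J)).map m ≫ onPts u₀ X' h := by
  apply (BCPoints.pt (thick J) G Y').injective
  simp only [onPts, Equiv.apply_symm_apply, BCPoints.pt_map_comp, Category.assoc]

theorem onPts_mul [IsMonHom u₀] {X' : Over (Spec (CommRingCat.of (R ⧸ J)))} (x y : (Over.map (thick J)).obj X' ⟶ H) :
    onPts u₀ X' (x * y) = onPts u₀ X' x * onPts u₀ X' y := by
  apply (BCPoints.pt (thick J) G X').injective
  simp only [onPts, Equiv.apply_symm_apply, BCPoints.pt_mul, MonObj.mul_comp]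

/-- the map induced on algebra points killed by `J` -/
def onAlg (D : Type u) [CommRing D] [Algebra R D] (hD : J ≤ RingHom.ker (algebraMap R D)) (h : sp R D ⟶ H) :
    sp R D ⟶ G :=
  (over₀Iso J D hD).inv ≫ onPts u₀ (over₀ J D hD) ((over₀Iso J D hD).hom ≫ h)

theorem onAlg_mul [IsMonHom u₀] {D : Type u} [CommRing D] [Algebra R D] (hD : J ≤ RingHom.ker (algebraMap R D))
    (x y : sp R D ⟶ H) : onAlg u₀ D hD (x * y) = onAlg u₀ D hD x * onAlg u₀ D hD y := by
  simp only [onAlg, MonObj.comp_mul, onPts_mul]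

theorem onAlg_comp {D D' : Type u} [CommRing D] [Algebra R D] [CommRing D'] [Algebra R D']
    (hD : J ≤ RingHom.ker (algebraMap R D)) (hD' : J ≤ RingHom.ker (algebraMap R D')) (χ : D' →ₐ[R] D)
    (h : sp R D' ⟶ H) : onAlg u₀ D hD (pt χ ≫ h) = pt χ ≫ onAlg u₀ D' hD' h := by
  let m : over₀ J D hD ⟶ over₀ J D' hD' := Over.homMk (pt χ).left (by
    show Spec.map (CommRingCat.ofHom χ.toRingHom) ≫ Spec.map _ = Spec.map _
    rw [← Spec.map_comp, ← CommRingCat.ofHom_comp]
    congr 2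
    exact Ideal.Quotient.ringHom_ext (RingHom.ext fun r => by simp))
  have hm : (Over.map (thick J)).map m ≫ (over₀Iso J D' hD').hom = (over₀Iso J D hD).hom ≫ pt χ := by
    apply Over.OverMorphism.ext
    exact (Category.comp_id (pt χ).left).trans (Category.id_comp (pt χ).left).symm
  have hm' : (over₀Iso J D hD).inv ≫ (Over.map (thick J)).map m = pt χ ≫ (over₀Iso J D' hD').inv := by
    rw [Iso.inv_comp_eq, ← Category.assoc, ← hm, Category.assoc, Iso.hom_inv_id, Category.comp_id]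
  simp only [onAlg]
  rw [← reassoc_of% hm', ← onPts_comp, reassoc_of% hm]

/-- induced points factor through the map -/
theorem exists_left_onAlg (D : Type u) [CommRing D] [Algebra R D] (hD : J ≤ RingHom.ker (algebraMap R D)) (h : sp R D ⟶ H) :
    ∃ y, y ≫ u₀.left ≫ pullback.fst G.hom (thick J) = (onAlg u₀ D hD h).left := by
  let z := BCPoints.pt (thick J) H (over₀ J D hD) ((over₀Iso J D hD).hom ≫ h)
  refine ⟨z.left, ?_⟩
  show z.left ≫ u₀.left ≫ pullback.fst G.hom (thick J) =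
    𝟙 _ ≫ (onPts u₀ (over₀ J D hD) ((over₀Iso J D hD).hom ≫ h)).left
  rw [Category.id_comp, ← pt_left_fst (thick J) (onPts u₀ (over₀ J D hD) ((over₀Iso J D hD).hom ≫ h)), onPts,
    Equiv.apply_symm_apply, Over.comp_left, Category.assoc]

set_option maxHeartbeats 1000000 in
/-- Lifting homomorphisms out of a group of multiplicative type, from liftings of points and corrections. -/
theorem exists_lift_of (hH : IsMT H) [IsMonHom u₀]
    (hlift : ∀ (B : Type u) [CommRing B] [HopfAlgebra R B] (_ : H ≅ sp R B) (a : sp R (B ⧸ JJ J B) ⟶ G),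
      (∃ y, y ≫ u₀.left ≫ pullback.fst G.hom (thick J) = a.left) →
      ∃ w : sp R B ⟶ G, pt (Ideal.Quotient.mkₐ R (JJ J B)) ≫ w = a)
    (hfix : ∀ (B : Type u) [CommRing B] [HopfAlgebra R B] [Coalgebra.IsCocomm R B] (_ : H ≅ sp R B)
      (P : B →ₗ[R] R) (_ : P 1 = 1) (_ : ∀ b : B, avgLin P B (Bialgebra.comulAlgHom R B b) = algebraMap R B (P b))
      (w : sp R B ⟶ G), MulMod J w → ∃ u : sp R B ⟶ G, IsMonHom u ∧ ∀ (D : Type u) [CommRing D] [Algebra R D],
        J ≤ RingHom.ker (algebraMap R D) → ∀ x : sp R D ⟶ sp R B, x ≫ u = x ≫ w) :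
    ∃ u : H ⟶ G, IsMonHom u ∧ (Over.pullback (thick J)).map u = u₀ := by
  haveI := isAffineHom_of_isMT H hH
  haveI : IsAffine H.left := isAffine_of_isAffineHom H.hom
  obtain ⟨B, _, _, ⟨eG⟩⟩ := SchemeSpec.exists_spec H
  have hB := isMultType_of_isMT (isMT_of_iso eG hH)
  haveI := isCocomm_of_isMultType hB
  obtain ⟨P, hP, hPinv⟩ := exists_integral_of_cover (hasCover_of_isMultType hB)
  let e : H ≅ sp R B := (Grp.forget _).mapIso eG
  haveI : IsMonHom e.hom := eG.hom.hom.isMonHom_hom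
  haveI : IsMonHom e.inv := eG.inv.hom.isMonHom_hom
  -- the lift of the universal point
  let B₀ : Type u := B ⧸ JJ J B
  have hB₀ : J ≤ RingHom.ker (algebraMap R B₀) := fun r hr => by
    show algebraMap R (B ⧸ JJ J B) r = 0
    rw [← Ideal.Quotient.mk_algebraMap, Ideal.Quotient.eq_zero_iff_mem]
    exact Ideal.mem_map_of_mem _ hr
  obtain ⟨w, hw₀⟩ := hlift B e (onAlg u₀ B₀ hB₀ (pt (Ideal.Quotient.mkₐ R (JJ J B)) ≫ e.inv))
    (exists_left_onAlg u₀ B₀ hB₀ _)
  have hwD : ∀ (D : Type u) [CommRing D] [Algebra R D] (hD : J ≤ RingHom.ker (algebraMap R D))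
      (x : sp R D ⟶ sp R B), x ≫ w = onAlg u₀ D hD (x ≫ e.inv) := fun D _ _ hD x => by
    let χ : B₀ →ₐ[R] D := Ideal.Quotient.liftₐ _ (algOf x) fun b hb => by
      have h0 := mem_JJ_map J (algOf x) hb
      rwa [show JJ J D = ⊥ from (Ideal.map_eq_bot_iff_le_ker _).2 hD, Ideal.mem_bot] at h0
    have hx : x = pt χ ≫ pt (Ideal.Quotient.mkₐ R (JJ J B)) := by
      rw [← pt_comp, show χ.comp (Ideal.Quotient.mkₐ R (JJ J B)) = algOf x from AlgHom.ext fun _ => rfl, pt_algOf]
    calc x ≫ w = pt χ ≫ pt (Ideal.Quotient.mkₐ R (JJ J B)) ≫ w := by rw [← Category.assoc, ← hx]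
      _ = pt χ ≫ onAlg u₀ B₀ hB₀ (pt (Ideal.Quotient.mkₐ R (JJ J B)) ≫ e.inv) := congrArg (pt χ ≫ ·) hw₀
      _ = onAlg u₀ D hD (pt χ ≫ pt (Ideal.Quotient.mkₐ R (JJ J B)) ≫ e.inv) := (onAlg_comp u₀ hD hB₀ χ _).symm
      _ = onAlg u₀ D hD (x ≫ e.inv) := congrArg (onAlg u₀ D hD) (by rw [← Category.assoc, ← hx])
  obtain ⟨u, hu, hu'⟩ := hfix B e P hP hPinv w (fun D _ _ hD x y => by
    rw [hwD D hD, hwD D hD, hwD D hD, MonObj.mul_comp, onAlg_mul])
  haveI := hu
  refine ⟨e.hom ≫ u, inferInstance, ?_⟩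
  -- compare at the universal point
  let X₀ : Over (Spec (CommRingCat.of (R ⧸ J))) := Red.bc (thick J) H
  haveI : IsAffineHom X₀.hom := inferInstanceAs (IsAffineHom (pullback.snd H.hom (thick J)))
  haveI : IsAffine X₀.left := isAffine_of_isAffineHom X₀.hom
  let X := (Over.map (thick J)).obj X₀
  haveI : IsAffine X.left := ‹IsAffine X₀.left›
  let D : Type u := Γ(X.left, ⊤)
  letI : Algebra R D := (Spec.preimage (X.left.isoSpec.inv ≫ X.hom)).hom.toAlgebra
  have hDw : X.left.isoSpec.inv ≫ X.hom = Spec.map (CommRingCat.ofHom (algebraMap R D)) := (Spec.map_preimage _).symm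
  have hD : J ≤ RingHom.ker (algebraMap R D) := by
    obtain ⟨ψ, hψ⟩ := Spec.map_surjective (R := CommRingCat.of (R ⧸ J)) (S := CommRingCat.of D)
      (X.left.isoSpec.inv ≫ X₀.hom)
    have e1 : Spec.map (CommRingCat.ofHom (Ideal.Quotient.mk J) ≫ ψ) =
        Spec.map (CommRingCat.ofHom (algebraMap R D)) := by
      rw [Spec.map_comp, hψ, ← hDw, Category.assoc]
      rfl
    intro r hr
    rw [RingHom.mem_ker, ← show ψ.hom (Ideal.Quotient.mk J r) = algebraMap R D r from
      congr($(Spec.map_injective e1) r), Ideal.Quotient.eq_zero_iff_mem.2 hr, map_zero]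
  let θD : X ≅ sp R D := Over.isoMk X.left.isoSpec (by
    show _ ≫ Spec.map _ = _
    rw [← hDw, Iso.hom_inv_id_assoc])
  let m : X₀ ⟶ over₀ J D hD := Over.homMk X.left.isoSpec.hom (by
    haveI : IsClosedImmersion (thick J) := IsClosedImmersion.spec_of_surjective _ Ideal.Quotient.mk_surjective
    rw [← cancel_mono (thick J)]
    exact (Category.assoc _ _ _).trans ((congrArg (_ ≫ ·)
      (show Spec.map _ ≫ Spec.map _ = Spec.map (CommRingCat.ofHom (algebraMap R D)) by
        rw [← Spec.map_comp, ← CommRingCat.ofHom_comp, Ideal.Quotient.lift_comp_mk])).trans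
      (by rw [← hDw, Iso.hom_inv_id_assoc]; rfl)))
  have hm : (Over.map (thick J)).map m ≫ (over₀Iso J D hD).hom = θD.hom := Over.OverMorphism.ext (Category.comp_id _)
  let h₀ : X ⟶ H := (BCPoints.pt (thick J) H X₀).symm (𝟙 _)
  have key : h₀ ≫ e.hom ≫ u = onPts u₀ X₀ h₀ := by
    have h1 : (θD.inv ≫ h₀ ≫ e.hom) ≫ u = onAlg u₀ D hD ((θD.inv ≫ h₀ ≫ e.hom) ≫ e.inv) := by
      rw [hu' D hD, hwD D hD]
    have h2 : h₀ ≫ e.hom ≫ u = θD.hom ≫ onAlg u₀ D hD (θD.inv ≫ h₀) := by
      rw [show θD.inv ≫ h₀ = (θD.inv ≫ h₀ ≫ e.hom) ≫ e.inv by simp, ← h1]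
      simp
    rw [h2, ← hm]
    simp only [onAlg, Category.assoc, Iso.hom_inv_id_assoc]
    rw [← onPts_comp, reassoc_of% hm, Iso.hom_inv_id_assoc]
  apply_fun (BCPoints.pt (thick J) G X₀) at key
  rw [BCPoints.pt_comp, Equiv.apply_symm_apply, onPts, Equiv.apply_symm_apply, Equiv.apply_symm_apply,
    Category.id_comp, Category.id_comp] at key
  exact key

/-- Homomorphisms from a group of multiplicative type into a smooth group lift along nilpotent ideals. -/
theorem exists_lift (hJ : IsNilpotent J) (hH : IsMT H) [Smooth G.hom] [IsMonHom u₀] :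
    ∃ u : H ⟶ G, IsMonHom u ∧ (Over.pullback (thick J)).map u = u₀ := by
  refine exists_lift_of u₀ hH (fun B _ _ _ a _ => ?_) (fun B _ _ _ _ P hP hPinv w hw => exists_hom_nil P hP hPinv J hJ w hw)
  obtain ⟨l, hl, hl'⟩ := AvgPoints.exists_lift_nil G.hom (JJ J B)
    (by obtain ⟨n, hn⟩ := hJ; exact ⟨n, by rw [← Ideal.map_pow, hn, Ideal.zero_eq_bot, Ideal.map_bot]; rfl⟩)
    (B ⧸ JJ J B) (Ideal.Quotient.mkₐ R (JJ J B)).toRingHom Ideal.Quotient.mk_surjective (Ideal.Quotient.mkₐ_ker R _)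
    a.left (Spec.map (CommRingCat.ofHom (algebraMap R B)))
    ((Over.w (pt (Ideal.Quotient.mkₐ R (JJ J B)))).trans (Over.w a).symm)
  exact ⟨Over.homMk l hl', Over.OverMorphism.ext hl⟩

end Groth.Agent.SGA3Power26.HomLiftMult
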