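import Groth.Agent.SGA3Power26.MultSubLift
import Groth.Agent.VarietyLib.FiniteClosedCover

/-! Morphisms of flat schemes which are bijective on points above a nilpotent thickening. -/

set_option autoImplicit false
set_option linter.style.haveILetI false
set_option linter.unusedVariables false
set_option backward.isDefEq.respectTransparency.types false
universe u

open CategoryTheory CategoryTheory.Limits MonoidalCategory CartesianMonoidalCategory MonObj AlgebraicGeometry CoactBr
open Groth.Agent.SGA3Power26

noncomputable section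

namespace Groth.Agent.SGA3Power26.FlatThickIso

open MultSubLift

variable {R : Type u} [CommRing R] {J : Ideal R}

/-- bijective on points above the thickening -/
def BijPts (J : Ideal R) {L T : Over (Spec (CommRingCat.of R))} (m : L ⟶ T) : Prop :=
  ∀ (X : Over (Spec (CommRingCat.of R))) (_ : X ⟶ PQ J), Function.Bijective fun y : X ⟶ L => y ≫ m

theorem isIso_map_of_bijPts {L T : Over (Spec (CommRingCat.of R))} (m : L ⟶ T) (h : BijPts J m) :
    IsIso ((Over.pullback (HomLiftMult.thick J)).map m) := by
  refine isIso_of_yoneda_map_bijective _ fun X' => ?_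
  let X := (Over.map (HomLiftMult.thick J)).obj X'
  let p : X ⟶ PQ J := Over.homMk X'.hom rfl
  have hb := h X p
  constructor
  · intro a b hab
    obtain ⟨a, rfl⟩ := (SGA3cLib.BCPoints.pt (HomLiftMult.thick J) L X').surjective a
    obtain ⟨b, rfl⟩ := (SGA3cLib.BCPoints.pt (HomLiftMult.thick J) L X').surjective b
    simp only [← SGA3cLib.BCPoints.pt_comp] at hab
    rw [hb.1 ((SGA3cLib.BCPoints.pt (HomLiftMult.thick J) T X').injective hab)]
  · intro c
    obtain ⟨c, rfl⟩ := (SGA3cLib.BCPoints.pt (HomLiftMult.thick J) T X').surjective c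
    obtain ⟨y, rfl⟩ := hb.2 c
    exact ⟨_, (SGA3cLib.BCPoints.pt_comp _ _ _).symm⟩

set_option maxHeartbeats 1000000 in
/-- affine target -/
theorem isIso_of_bijPts_affine (hJ : IsNilpotent J) {L T : Over (Spec (CommRingCat.of R))}
    [IsAffine T.left] (m : L ⟶ T) [Flat L.hom] (h : BijPts J m) : IsIso m := by
  let q := HomLiftMult.thick J
  haveI : IsClosedImmersion q := IsClosedImmersion.spec_of_surjective _ Ideal.Quotient.mk_surjective
  haveI : Surjective q := ⟨fun x => by
    obtain ⟨k, hk⟩ := hJ
    have : (x : PrimeSpectrum R) ∈ Set.range (PrimeSpectrum.comap (Ideal.Quotient.mk J)) := by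
      rw [range_comap_of_surjective _ _ Ideal.Quotient.mk_surjective, Ideal.mk_ker]
      exact fun r hr => nilradical_le_prime _ (⟨k, by simpa [hk] using Ideal.pow_mem_pow hr k⟩ : IsNilpotent r)
    exact this⟩
  haveI : IsAffine L.left := by
    haveI := isIso_map_of_bijPts m h
    haveI : IsAffine ((Over.pullback q).obj L).left := by
      haveI : IsAffine ((Over.pullback q).obj T).left := inferInstanceAs (IsAffine (pullback T.hom q))
      haveI : IsIso ((Over.pullback q).map m) := isIso_map_of_bijPts m h
      haveI : IsIso ((Over.pullback q).map m).left := @Functor.map_isIso _ _ _ _ _ _ (Over.forget _) _ ‹IsIso ((Over.pullback q).map m)›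
      exact IsAffine.of_isIso ((Over.pullback q).map m).left
    haveI : IsAffine (pullback L.hom q) := ‹IsAffine ((Over.pullback q).obj L).left›
    haveI : IsClosedImmersion (pullback.fst L.hom q) := MorphismProperty.pullback_fst L.hom q inferInstance
    haveI : Surjective (pullback.fst L.hom q) := MorphismProperty.pullback_fst L.hom q inferInstance
    exact VarietyLib.isAffine_of_surjective_closedImmersion (pullback.fst L.hom q) (pullback.fst L.hom q).surjective
  let O : Type u := Γ(T.left, ⊤)
  let C : Type u := Γ(L.left, ⊤)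
  let ψ : O →+* C := m.left.appTop.hom
  let α := Spec.preimage (T.left.isoSpec.inv ≫ T.hom)
  letI : Algebra R O := α.hom.toAlgebra
  letI : Algebra R C := (ψ.comp (algebraMap R O)).toAlgebra
  have hO : T.left.isoSpec.inv ≫ T.hom = Spec.map (CommRingCat.ofHom (algebraMap R O)) :=
    (Spec.map_preimage _).symm
  have hC : L.left.isoSpec.inv ≫ L.hom = Spec.map (CommRingCat.ofHom (algebraMap R C)) := by
    rw [show CommRingCat.ofHom (algebraMap R C) = CommRingCat.ofHom (algebraMap R O) ≫ m.left.appTop from rfl,
      Spec.map_comp, ← hO, ← Category.assoc, Scheme.isoSpec_inv_naturality, Category.assoc, Over.w m]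
  haveI : Module.Flat R C := by
    have h1 : Flat (Spec.map (CommRingCat.ofHom (algebraMap R C))) := by rw [← hC]; infer_instance
    rwa [HasRingHomProperty.Spec_iff (P := @Flat), CommRingCat.hom_ofHom, RingHom.flat_algebraMap_iff] at h1
  -- points of an algebra killed by `J`
  let f : O →ₐ[R] C := { ψ with commutes' := fun _ => rfl }
  have hpts : ∀ (D : Type u) [CommRing D] [Algebra R D], (∀ r ∈ J, algebraMap R D r = 0) →
      Function.Bijective fun χ : C →ₐ[R] D => χ.comp f := by
    intro D _ _ hD
    let p : sp R D ⟶ PQ J := Over.homMk (Spec.map (CommRingCat.ofHom (Ideal.Quotient.lift J (algebraMap R D) hD))) (by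
      show Spec.map _ ≫ Spec.map _ = Spec.map _
      rw [← Spec.map_comp, ← CommRingCat.ofHom_comp, Ideal.Quotient.lift_comp_mk])
    let iL : L ≅ sp R C := Over.isoMk L.left.isoSpec (by
      show _ ≫ Spec.map _ = _
      rw [← hC, Iso.hom_inv_id_assoc])
    let iT : T ≅ sp R O := Over.isoMk T.left.isoSpec (by
      show _ ≫ Spec.map _ = _
      rw [← hO, Iso.hom_inv_id_assoc])
    have hm : m ≫ iT.hom = iL.hom ≫ CoactBr.pt f :=
      Over.OverMorphism.ext (Scheme.isoSpec_hom_naturality m.left).symm
    have hb := h (sp R D) p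
    constructor
    · intro χ χ' e
      have e1 : (CoactBr.pt χ ≫ iL.inv) ≫ m = (CoactBr.pt χ' ≫ iL.inv) ≫ m := by
        rw [← cancel_mono iT.hom]
        simp only [Category.assoc, hm, Iso.inv_hom_id_assoc, ← CoactBr.pt_comp]
        exact congrArg _ e
      have e2 : CoactBr.pt χ = CoactBr.pt χ' := (cancel_mono iL.inv).1 (hb.1 e1)
      rw [← HopfLib.SpPoints.algOf_pt χ, e2, HopfLib.SpPoints.algOf_pt]
    · intro c
      obtain ⟨y, hy⟩ := hb.2 (CoactBr.pt c ≫ iT.inv)
      refine ⟨HopfLib.SpPoints.algOf (y ≫ iL.hom), ?_⟩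
      have e : CoactBr.pt ((HopfLib.SpPoints.algOf (y ≫ iL.hom)).comp f) = CoactBr.pt c := by
        rw [CoactBr.pt_comp, HopfLib.SpPoints.pt_algOf, Category.assoc, ← hm, ← Category.assoc,
          show y ≫ m = _ from hy, Category.assoc, Iso.inv_hom_id, Category.comp_id]
      show (HopfLib.SpPoints.algOf (y ≫ iL.hom)).comp f = c
      rw [← HopfLib.SpPoints.algOf_pt ((HopfLib.SpPoints.algOf (y ≫ iL.hom)).comp f), e, HopfLib.SpPoints.algOf_pt]
  have hkill : ∀ (E : Type u) [CommRing E] [Algebra R E], ∀ r ∈ J, algebraMap R (E ⧸ J.map (algebraMap R E)) r = 0 :=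
    fun E _ _ r hr => Ideal.Quotient.eq_zero_iff_mem.2 (Ideal.mem_map_of_mem _ hr)
  obtain ⟨χ, hχ⟩ := (hpts _ (hkill O)).2 (Ideal.Quotient.mkₐ R (J.map (algebraMap R O)))
  -- surjectivity modulo `J`
  have hC' : ∀ c : C, ∃ o : O, c - f o ∈ J.map (algebraMap R C) := fun c => by
    obtain ⟨o, ho⟩ := Ideal.Quotient.mk_surjective (χ c)
    let fb : (O ⧸ J.map (algebraMap R O)) →ₐ[R] C ⧸ J.map (algebraMap R C) :=
      Ideal.Quotient.liftₐ _ ((Ideal.Quotient.mkₐ R _).comp f) fun a ha =>
        Ideal.Quotient.eq_zero_iff_mem.2 (by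
          have := Ideal.mem_map_of_mem f.toRingHom ha
          rw [Ideal.map_map, AlgHom.toRingHom_eq_coe, AlgHom.comp_algebraMap] at this
          exact this)
    have e : fb.comp χ = Ideal.Quotient.mkₐ R (J.map (algebraMap R C)) :=
      (hpts _ (hkill C)).1 (by
        show (fb.comp χ).comp f = _
        rw [AlgHom.comp_assoc, show χ.comp f = _ from hχ]
        exact AlgHom.ext fun _ => rfl)
    refine ⟨o, ?_⟩
    rw [← Ideal.Quotient.eq]
    have := DFunLike.congr_fun e c
    rw [AlgHom.comp_apply, ← ho] at this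
    exact this.symm
  have hK : ∀ x, f x = 0 → x ∈ J.map (algebraMap R O) := fun x hx => by
    rw [← Ideal.Quotient.eq_zero_iff_mem]
    have := DFunLike.congr_fun hχ x
    change χ (f x) = Ideal.Quotient.mk _ x at this
    rw [← this, hx, map_zero]
  obtain ⟨n, hn⟩ := hJ
  have hsurj : Function.Surjective f := by
    have h1 : (⊤ : Submodule R C) ≤ LinearMap.range f.toLinearMap ⊔ J • ⊤ := fun c _ => by
      obtain ⟨o, ho⟩ := hC' c
      rw [← add_sub_cancel (f o) c]
      refine Submodule.add_mem_sup ⟨o, rfl⟩ ?_
      rw [Ideal.smul_top_eq_map]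
      exact ho
    have h2 : ∀ k : ℕ, (⊤ : Submodule R C) ≤ LinearMap.range f.toLinearMap ⊔ J ^ k • ⊤ := by
      intro k
      induction k with
      | zero => rw [pow_zero, Ideal.one_eq_top, Submodule.top_smul]; exact le_sup_right
      | succ k ih =>
        refine ih.trans (sup_le le_sup_left ?_)
        calc J ^ k • (⊤ : Submodule R C) ≤ J ^ k • (LinearMap.range f.toLinearMap ⊔ J • ⊤) := smul_mono_right _ h1
          _ = J ^ k • LinearMap.range f.toLinearMap ⊔ J ^ (k + 1) • ⊤ := by
            rw [Submodule.smul_sup, pow_succ, Submodule.mul_smul]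
          _ ≤ _ := sup_le (Submodule.smul_le_right.trans le_sup_left) le_sup_right
    have h3 := h2 n
    rw [hn, Ideal.zero_eq_bot, Submodule.bot_smul, sup_bot_eq] at h3
    exact fun c => h3 (Submodule.mem_top (x := c))
  let K : Submodule R O := LinearMap.ker f.toLinearMap
  have : Module.Flat R (O ⧸ K) := Module.Flat.of_linearEquiv (f.toLinearMap.quotKerEquivOfSurjective hsurj)
  have hle : K ≤ J • K := fun x hx =>
    CAlgH.inf_smul_top_le_of_flat_quotient K J ⟨hx, by rw [Ideal.smul_top_eq_map]; exact hK x hx⟩
  have hpow : ∀ k : ℕ, K ≤ J ^ k • K := by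
    intro k
    induction k with
    | zero => rw [pow_zero, Ideal.one_eq_top, Submodule.top_smul]
    | succ k ih =>
      rw [pow_succ, Submodule.mul_smul]
      exact ih.trans (smul_mono_right _ hle)
  have hbij : Function.Bijective f := ⟨(injective_iff_map_eq_zero f).2 fun x hx => by
    have := hpow n (show x ∈ K from hx)
    rwa [hn, Ideal.zero_eq_bot, Submodule.bot_smul, Submodule.mem_bot] at this, hsurj⟩
  haveI : IsIso m.left.appTop := (ConcreteCategory.isIso_iff_bijective _).2 hbij
  haveI : IsIso m.left := by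
    rw [show m.left = L.left.isoSpec.hom ≫ Spec.map m.left.appTop ≫ T.left.isoSpec.inv by
      rw [← Category.assoc, Scheme.isoSpec_hom_naturality, Category.assoc, Iso.hom_inv_id, Category.comp_id]]
    infer_instance
  haveI : IsIso ((Over.forget _).map m) := ‹IsIso m.left›
  exact isIso_of_reflects_iso m (Over.forget _)

/-- A morphism with flat source which is bijective on points above a nilpotent thickening is an isomorphism. -/
theorem isIso_of_bijPts (hJ : IsNilpotent J) {L T : Over (Spec (CommRingCat.of R))} (m : L ⟶ T) [Flat L.hom]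
    (h : BijPts J m) : IsIso m := by
  haveI : IsIso m.left := by
    refine (MorphismProperty.isomorphisms.iff _).1 (IsZariskiLocalAtTarget.of_openCover
      (P := MorphismProperty.isomorphisms Scheme.{u}) T.left.affineCover fun i => ?_)
    rw [MorphismProperty.isomorphisms.iff]
    let W : Over (Spec (CommRingCat.of R)) := Over.mk (T.left.affineCover.f i ≫ T.hom)
    let jW : W ⟶ T := Over.homMk (T.left.affineCover.f i) rfl
    haveI : IsOpenImmersion jW.left := inferInstanceAs (IsOpenImmersion (T.left.affineCover.f i))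
    haveI : IsAffine W.left := inferInstanceAs (IsAffine (T.left.affineCover.X i))
    let U : Over (Spec (CommRingCat.of R)) := Over.mk (pullback.fst m.left (T.left.affineCover.f i) ≫ L.hom)
    let mU : U ⟶ W := Over.homMk (pullback.snd m.left (T.left.affineCover.f i)) (by
      show _ ≫ _ ≫ T.hom = _ ≫ L.hom
      rw [← pullback.condition_assoc, Over.w m])
    let κ : U ⟶ L := Over.homMk (pullback.fst m.left (T.left.affineCover.f i)) rfl
    haveI : Flat U.hom := inferInstanceAs (Flat (pullback.fst m.left (T.left.affineCover.f i) ≫ L.hom))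
    have hsq : IsPullback κ mU m jW := IsPullback.of_map (Over.forget _) (Over.OverMorphism.ext pullback.condition)
      (IsPullback.of_hasPullback m.left (T.left.affineCover.f i))
    have hb : BijPts J mU := fun X p => by
      refine ⟨fun y y' e => hsq.hom_ext ?_ e, fun t => ?_⟩
      · refine (h X p).1 ?_
        show (y ≫ κ) ≫ m = (y' ≫ κ) ≫ m
        rw [Category.assoc, Category.assoc, hsq.w, ← Category.assoc, ← Category.assoc,
          show y ≫ mU = y' ≫ mU from e]
      · obtain ⟨y, hy⟩ := (h X p).2 (t ≫ jW)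
        exact ⟨hsq.lift y t hy, hsq.lift_snd _ _ _⟩
    haveI := isIso_of_bijPts_affine hJ mU hb
    exact inferInstanceAs (IsIso ((Over.forget _).map mU))
  haveI : IsIso ((Over.forget _).map m) := ‹IsIso m.left›
  exact isIso_of_reflects_iso m (Over.forget _)

end Groth.Agent.SGA3Power26.FlatThickIso
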