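import Groth.Agent.SGA3Power26.CentralLift
import Groth.Agent.S2973
import Groth.Agent.S2979
import Groth.Agent.IsoTriv.SchemeBridge
import Groth.Agent.IsoTriv.QuasiBC
import Groth.Agent.SGA3cLib.HomGroup
import Mathlib.RingTheory.Localization.Finiteness

/-! Finite etale groups of multiplicative type lift along nil immersions, central ones as subgroups. -/

set_option autoImplicit false
set_option backward.isDefEq.respectTransparency.types false
set_option linter.style.haveILetI false

universe u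

open CategoryTheory CategoryTheory.Limits MonoidalCategory CartesianMonoidalCategory MonObj AlgebraicGeometry
open Groth.Agent.SGA3cLib
open scoped TensorProduct

noncomputable section

namespace Groth.Agent.SGA3Power26

section Finite

open Groth.Agent.IsoTriv Groth.Agent.SGA3bLib

variable {R : Type u} [CommRing R] (I : Ideal R) {A : Type u} [CommRing A] [HopfAlgebra R A]

theorem moduleFinite_of_quotient (hI : ∀ x ∈ I, IsNilpotent x) (h : SGA3b.IsQuasiIsotrivial R A)
    [Module.Finite (R ⧸ I) ((R ⧸ I) ⊗[R] A)] : Module.Finite R A := by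
  obtain ⟨s, hs, hloc⟩ := h
  refine Module.Finite.of_localizationSpan' s hs (Rₚ := fun g : s => Localization.Away g.1)
    (fun g : s => TensorProduct.mk R (Localization.Away g.1) A 1) fun g => ?_
  obtain ⟨R', _, _, -, hff, N, _, ⟨e⟩⟩ := hloc g.1 g.2
  haveI := hff
  let L := Localization.Away g.1
  rcases subsingleton_or_nontrivial R' with hs' | hs'
  · haveI : Module.Finite R' (R' ⊗[L] (L ⊗[R] A)) := by
      haveI := Module.subsingleton R' (R' ⊗[L] (L ⊗[R] A))
      infer_instance
    exact Module.Finite.of_finite_tensorProduct_of_faithfullyFlat R'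
  obtain ⟨m, hm⟩ := Ideal.exists_maximal R'
  haveI := hm
  let k := R' ⧸ m
  letI : Field k := Ideal.Quotient.field m
  letI : Algebra R R' := ((algebraMap L R').comp (algebraMap R L)).toAlgebra
  haveI : IsScalarTower R L R' := .of_algebraMap_eq fun _ => rfl
  have hk : ∀ r ∈ I, algebraMap R k r = 0 := fun r hr => ((hI r hr).map (algebraMap R k)).eq_zero
  letI : Algebra (R ⧸ I) k := (Ideal.Quotient.lift I (algebraMap R k) hk).toAlgebra
  haveI : IsScalarTower R (R ⧸ I) k := .of_algebraMap_eq fun _ => rfl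
  haveI : Module.Finite k (k ⊗[R] A) :=
    Module.Finite.equiv (cancelBC (R := R) (R ⧸ I) k A).toAlgEquiv.toLinearEquiv
  let e' : R' ⊗[R] A ≃ₐc[R'] MonoidAlgebra R' N := (cancelBC (R := R) L R' A).symm.trans e
  let ek : k ⊗[R] A ≃ₐc[k] MonoidAlgebra k N := bcTriv e'
  haveI : Module.Finite k (MonoidAlgebra k N) := Module.Finite.equiv ek.toAlgEquiv.toLinearEquiv
  haveI : Finite N := Module.Finite.finite_basis (MonoidAlgebra.basis N k)
  haveI : Module.Finite R' (MonoidAlgebra R' N) := Module.Finite.of_basis (MonoidAlgebra.basis N R')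
  haveI : Module.Finite R' (R' ⊗[L] (L ⊗[R] A)) := Module.Finite.equiv e.symm.toAlgEquiv.toLinearEquiv
  exact Module.Finite.of_finite_tensorProduct_of_faithfullyFlat R'

end Finite

section Lift

open Groth.Agent.IsoTriv SchemeBridge SchemeSpec CoactBr HopfLib.SpPoints

variable {R : Type u} [CommRing R] (I : Ideal R)

/-- Finite etale groups of multiplicative type lift along nil immersions. -/
theorem exists_mult_lift (hI : ∀ x ∈ I, IsNilpotent x)
    (H₀ : Over (Spec (CommRingCat.of (R ⧸ I)))) [GrpObj H₀] [Smooth H₀.hom] [IsFinite H₀.hom]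
    (h₀ : SGA3x.IsMultTypeFT H₀) :
    ∃ (H : Over (Spec (CommRingCat.of R))) (_ : GrpObj H), SGA3x.IsMultTypeFT H ∧ IsFinite H.hom ∧
      ∃ e : Red.bc (Spec.map (CommRingCat.ofHom (Ideal.Quotient.mk I))) H ≅ H₀, IsMonHom e.hom := by
  obtain ⟨A₀, _, _, hft, hmt, ⟨e₀⟩⟩ := exists_hopf H₀ h₀
  obtain ⟨A, _, _, hq, ⟨ε⟩⟩ := S2979.result R I hI A₀ (S2973.result _ A₀ hft hmt)
  haveI : Module.Finite (R ⧸ I) A₀ := by
    let i : H₀ ≅ sp (R ⧸ I) A₀ := (Grp.forget _).mapIso e₀
    have h1 : IsFinite (sp (R ⧸ I) A₀).hom := by rw [← Over.w i.inv]; infer_instance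
    have h2 : IsFinite (Spec.map (CommRingCat.ofHom (algebraMap (R ⧸ I) A₀))) := h1
    rw [IsFinite.SpecMap_iff] at h2
    exact RingHom.finite_algebraMap.1 h2
  haveI : Module.Finite (R ⧸ I) ((R ⧸ I) ⊗[R] A) := Module.Finite.equiv ε.symm.toAlgEquiv.toLinearEquiv
  haveI := moduleFinite_of_quotient I hI hq
  refine ⟨sp R A, inferInstance, multTypeFT_of_isMultType inferInstance (isMultType_of_isQuasiIsotrivial hq), ?_, ?_⟩
  · show IsFinite (Spec.map (CommRingCat.ofHom (algebraMap R A)))
    rw [IsFinite.SpecMap_iff]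
    exact RingHom.finite_algebraMap.2 inferInstance
  obtain ⟨b⟩ := nonempty_bc_spec (R := R) (R ⧸ I) A
  obtain ⟨i⟩ := nonempty_grpIso ε
  let E := b ≪≫ i ≪≫ e₀.symm
  exact ⟨(Grp.forget _).mapIso E, inferInstanceAs (IsMonHom E.hom.hom.hom)⟩

end Lift

variable {S S₀ : Scheme.{u}} (q : S₀ ⟶ S) [IsClosedImmersion q] [Surjective q]

omit [IsClosedImmersion q] in
/-- Maps into an etale group are determined over a thickening. -/
theorem hom_eq_of_map_eq {X H : Over S} [FormallyUnramified H.hom] [LocallyOfFiniteType H.hom] (a b : X ⟶ H)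
    (h : (Over.pullback q).map a = (Over.pullback q).map b) : a = b := by
  haveI : Surjective (pullback.fst X.hom q) := MorphismProperty.pullback_fst X.hom q inferInstance
  refine Over.OverMorphism.ext (FEtLib.eq_of_surjective H.hom a.left b.left (pullback.fst X.hom q) ?_
    ((Over.w a).trans (Over.w b).symm))
  exact ((pullback.lift_fst _ _ _).symm.trans (congrArg (fun t => t.left ≫ pullback.fst H.hom q) h)).trans
    (pullback.lift_fst _ _ _)

/-- Maps into an etale group lift over a thickening. -/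
theorem exists_map_eq {X H : Over S} [Etale H.hom] (a₀ : Red.bc q X ⟶ Red.bc q H) :
    ∃ a : X ⟶ H, (Over.pullback q).map a = a₀ := by
  haveI : Surjective (pullback.fst X.hom q) := MorphismProperty.pullback_fst X.hom q inferInstance
  haveI : IsClosedImmersion (pullback.fst X.hom q) := MorphismProperty.pullback_fst X.hom q inferInstance
  obtain ⟨l, hl, hl'⟩ := exists_lift_of_etale H.hom (pullback.fst X.hom q) (a₀.left ≫ pullback.fst H.hom q) X.hom (by
    refine (Category.assoc _ _ _).trans ((congrArg (a₀.left ≫ ·) pullback.condition).trans ?_)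
    refine ((Category.assoc _ _ _).symm.trans (congrArg (· ≫ q) (Over.w a₀))).trans ?_
    exact pullback.condition.symm)
  refine ⟨Over.homMk l hl, Over.OverMorphism.ext (pullback.hom_ext ?_ ?_)⟩
  · exact (pullback.lift_fst _ _ _).trans hl'
  · exact (pullback.lift_snd _ _ _).trans (Over.w a₀).symm

theorem isMonHom_of_map {X H : Over S} [GrpObj X] [GrpObj H] [FormallyUnramified H.hom] [LocallyOfFiniteType H.hom]
    (a : X ⟶ H) [IsMonHom ((Over.pullback q).map a)] : IsMonHom a := by
  refine BCPoints.isMonHom_of_mul a fun Y x y => hom_eq_of_map_eq q _ _ ?_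
  let F := Over.pullback q
  show F.map ((x * y) ≫ a) = F.homMonoidHom ((x ≫ a) * (y ≫ a))
  rw [map_mul, F.map_comp]
  show F.homMonoidHom (x * y) ≫ F.map a = F.map (x ≫ a) * F.map (y ≫ a)
  rw [map_mul, MonObj.mul_comp, F.map_comp, F.map_comp]
  rfl

/-- A group of multiplicative type which is etale over a thickened subscheme is etale. -/
theorem etale_of_thickened (H : Over S) [GrpObj H] (hH : SGA3x.IsMultTypeFT H) [Etale (Red.bc q H).hom] :
    Etale H.hom := by
  haveI := TrivLocus.locallyOfFinitePresentation_of_multTypeFT H hH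
  haveI := HomGroup.flat_of_multTypeFT H hH
  haveI : Etale (pullback.snd H.hom q) := ‹Etale (Red.bc q H).hom›
  haveI : FormallyUnramified H.hom := AlgSpLib.unramified_of_thick (IsPullback.of_hasPullback H.hom q)
  exact (FlatLocal.etale_iff_stalkMap H.hom).2 fun x => ⟨Flat.stalkMap _ x, FormallyUnramified.stalkMap _ x⟩

/-- A central finite etale subgroup of multiplicative type lifts uniquely along a nil immersion. -/
theorem existsUnique_central_subgroup_lift {G : Over S} [GrpObj G] [Flat G.hom] [LocallyOfFinitePresentation G.hom]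
    {H₀ : Over S₀} [GrpObj H₀] [Smooth H₀.hom] [IsFinite H₀.hom] (j₀ : H₀ ⟶ Red.bc q G) [IsMonHom j₀] [Mono j₀]
    (hc₀ : ∀ (X : Over S₀) (x : X ⟶ H₀) (g : X ⟶ Red.bc q G), (x ≫ j₀) * g = g * (x ≫ j₀))
    (H : Over S) [GrpObj H] [IsFinite H.hom] (hH : SGA3x.IsMultTypeFT H) (e : Red.bc q H ≅ H₀) [IsMonHom e.hom] :
    ∃ j : H ⟶ G, IsMonHom j ∧ Mono j ∧ e.hom ≫ j₀ = (Over.pullback q).map j ∧
      (∀ (X : Over S) (x : X ⟶ H) (g : X ⟶ G), (x ≫ j) * g = g * (x ≫ j)) ∧
      ∀ (H' : Over S) [GrpObj H'] (j' : H' ⟶ G) [IsMonHom j'], SGA3x.IsMultTypeFT H' →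
        (∃ e' : Red.bc q H' ≅ H₀, e'.hom ≫ j₀ = (Over.pullback q).map j') → ∃ φ : H' ≅ H, φ.hom ≫ j = j' := by
  haveI := etale_of_smooth_of_finite H₀.hom
  haveI : Etale (Red.bc q H).hom := by rw [← Over.w e.hom]; infer_instance
  haveI := etale_of_thickened q H hH
  haveI : Smooth H.hom := inferInstance
  obtain ⟨j, hj, hj0, hjc, huniq⟩ := existsUnique_central_lift q H hH (e.hom ≫ j₀) fun X x g => by
    have := hc₀ X (x ≫ e.hom) g
    simpa only [Category.assoc] using this
  haveI := hj
  refine ⟨j, hj, ⟨fun a b hab => hom_eq_of_map_eq q a b ?_⟩, hj0.symm, hjc, fun H' _ j' hj' hH' he' => ?_⟩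
  · rw [← cancel_mono (e.hom ≫ j₀), ← hj0, ← Functor.map_comp, ← Functor.map_comp, hab]
  obtain ⟨e', he'⟩ := he'
  haveI : Etale (Red.bc q H').hom := by rw [← Over.w e'.hom]; infer_instance
  haveI := etale_of_thickened q H' hH'
  haveI hm' : IsMonHom e'.hom := by
    refine BCPoints.isMonHom_of_mul e'.hom fun X x y => (cancel_mono j₀).1 ?_
    rw [Category.assoc, he', MonObj.mul_comp, MonObj.mul_comp, Category.assoc, Category.assoc, he']
  obtain ⟨a, ha⟩ := exists_map_eq q (e'.hom ≫ e.inv)
  obtain ⟨b, hb⟩ := exists_map_eq q (e.hom ≫ e'.inv)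
  let φ : H' ≅ H :=
    { hom := a
      inv := b
      hom_inv_id := hom_eq_of_map_eq q _ _ (by simp [ha, hb])
      inv_hom_id := hom_eq_of_map_eq q _ _ (by simp [ha, hb]) }
  haveI : IsMonHom e.inv := inferInstance
  haveI : IsMonHom e'.inv := inferInstance
  haveI : IsMonHom ((Over.pullback q).map b) := by rw [hb]; infer_instance
  haveI : IsMonHom b := isMonHom_of_map q b
  refine ⟨φ, ?_⟩
  have h : b ≫ j' = j := huniq (b ≫ j') inferInstance (by
    rw [Functor.map_comp, hb, ← he', Category.assoc, Iso.inv_hom_id_assoc])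
  show a ≫ j = j'
  rw [← h, ← Category.assoc]
  exact (congrArg (· ≫ j') φ.hom_inv_id).trans (Category.id_comp _)

end Groth.Agent.SGA3Power26
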