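import Groth.Agent.SGA3Power26.AvgHomNil
import Groth.Agent.SGA3cLib.FiniteComplete

/-!
# Homomorphisms from finite groups of multiplicative type into smooth groups over complete local rings
-/

set_option autoImplicit false
set_option linter.style.haveILetI false
set_option linter.unusedSectionVars false
set_option linter.unusedVariables false
set_option backward.isDefEq.respectTransparency.types false
universe u

open CategoryTheory MonoidalCategory CartesianMonoidalCategory MonObj AlgebraicGeometry CoactBr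
open scoped TensorProduct
open Groth.Agent.HopfLib.SpPoints Groth.Agent.SGA3cLib

noncomputable section

namespace Groth.Agent.SGA3Power26.AvgPoints

variable {A : Type u} [CommRing A]

/-- algebras killed by an ideal receive points factor through the quotient -/
theorem exists_factor (I : Ideal A) {C D : Type u} [CommRing C] [Algebra A C] [CommRing D] [Algebra A D]
    (hD : I ≤ RingHom.ker (algebraMap A D)) (x : sp A D ⟶ sp A C) :
    ∃ χ : (C ⧸ JJ I C) →ₐ[A] D, x = pt χ ≫ pt (Ideal.Quotient.mkₐ A (JJ I C)) := by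
  refine ⟨Ideal.Quotient.liftₐ _ (algOf x) fun b hb => ?_, ?_⟩
  · have h0 := mem_JJ_map I (algOf x) hb
    rwa [show JJ I D = ⊥ from (Ideal.map_eq_bot_iff_le_ker _).2 hD, Ideal.mem_bot] at h0
  · rw [← pt_comp, show (Ideal.Quotient.liftₐ _ (algOf x) _).comp (Ideal.Quotient.mkₐ A (JJ I C)) = algOf x from
      AlgHom.ext fun _ => rfl, pt_algOf]

variable {X : Over (Spec (CommRingCat.of A))}

theorem killed (I : Ideal A) (C : Type u) [CommRing C] [Algebra A C] :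
    I ≤ RingHom.ker (algebraMap A (C ⧸ JJ I C)) := fun r hr => by
  rw [RingHom.mem_ker, ← Ideal.Quotient.mk_algebraMap, Ideal.Quotient.eq_zero_iff_mem]
  exact Ideal.mem_map_of_mem _ hr

/-- maps agreeing at the universal killed point agree at killed points -/
theorem comp_eq_of_level (I : Ideal A) {C : Type u} [CommRing C] [Algebra A C] {w w' : sp A C ⟶ X}
    (h : pt (Ideal.Quotient.mkₐ A (JJ I C)) ≫ w = pt (Ideal.Quotient.mkₐ A (JJ I C)) ≫ w')
    (D : Type u) [CommRing D] [Algebra A D] (hD : I ≤ RingHom.ker (algebraMap A D)) (x : sp A D ⟶ sp A C) :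
    x ≫ w = x ≫ w' := by
  obtain ⟨χ, rfl⟩ := exists_factor I hD x
  rw [Category.assoc, h, ← Category.assoc]

section Conj

variable {B : Type u} [CommRing B] [HopfAlgebra A B]
variable (P : B →ₗ[A] A) (hP : P 1 = 1)
variable (hPinv : ∀ b : B, avgLin P B (Bialgebra.comulAlgHom A B b) = algebraMap A B (P b))
variable {G : Over (Spec (CommRingCat.of A))} [GrpObj G]

set_option maxHeartbeats 2000000 in
include hP hPinv in
/-- Homomorphisms agreeing modulo `I` are conjugate modulo the square. -/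
theorem exists_conj_step (I : Ideal A)
    (hlift : ∀ a : sp A (A ⧸ I ^ 2) ⟶ G, ∃ g : 𝟙_ (Over (Spec (CommRingCat.of A))) ⟶ G, toUnit _ ≫ g = a)
    (u v : sp A B ⟶ G) [IsMonHom u] [IsMonHom v]
    (h : ∀ (D : Type u) [CommRing D] [Algebra A D], I ≤ RingHom.ker (algebraMap A D) →
      ∀ x : sp A D ⟶ sp A B, x ≫ u = x ≫ v) :
    ∃ g : 𝟙_ (Over (Spec (CommRingCat.of A))) ⟶ G,
      (∀ (D : Type u) [CommRing D] [Algebra A D], I ≤ RingHom.ker (algebraMap A D) → toUnit (sp A D) ≫ g = 1) ∧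
      ∀ (D : Type u) [CommRing D] [Algebra A D], I ^ 2 ≤ RingHom.ker (algebraMap A D) →
        ∀ x : sp A D ⟶ sp A B, x ≫ v = (toUnit _ ≫ g) * (x ≫ u) * (toUnit _ ≫ g)⁻¹ := by
  have hsq : ∀ (D : Type u) [CommRing D] [Algebra A D], I ^ 2 ≤ RingHom.ker (algebraMap A D) → SqZero I D :=
    fun D _ _ h => ⟨by
      rw [← Ideal.map_mul, ← pow_two]
      exact (Ideal.map_eq_bot_iff_le_ker _).2 h⟩
  let Q : Type u := A ⧸ I ^ 2
  have hQ : I ^ 2 ≤ RingHom.ker (algebraMap A Q) := fun r hr => Ideal.Quotient.eq_zero_iff_mem.2 hr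
  haveI : SqZero I Q := hsq Q hQ
  have hcong : ∀ {E : Type u} [CommRing E] [Algebra A E] (x : sp A E ⟶ sp A B), Cong I ((x ≫ v) * (x ≫ u)⁻¹) := by
    intro E _ _ x
    show _ ≫ _ = _
    rw [MonObj.comp_mul, GrpObj.comp_inv, ← Category.assoc, ← Category.assoc, h _ (killed I E), mul_inv_cancel]
  obtain ⟨c, hc⟩ := exists_isAvg I P hP (A := Q) _ (hcong (var (B := B) Q))
  obtain ⟨g, hg⟩ := hlift c
  have key : ∀ (D : Type u) [CommRing D] [Algebra A D] (hD : I ^ 2 ≤ RingHom.ker (algebraMap A D)),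
      haveI := hsq D hD
      IsAvg I P hP ((var (B := B) D ≫ v) * (var (B := B) D ≫ u)⁻¹) (toUnit (sp A D) ≫ g) := by
    intro D _ _ hD
    haveI := hsq D hD
    let χ : Q →ₐ[A] D := Ideal.Quotient.liftₐ _ (Algebra.ofId A D) fun a ha => hD ha
    let T : Q ⊗[A] B →ₐ[A] D ⊗[A] B := Algebra.TensorProduct.map χ (AlgHom.id A B)
    have h1 := IsAvg.map I P hP hc χ T (fun a => by simp [T]) (fun e => by
      induction e using TensorProduct.induction_on with
      | zero => simp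
      | tmul a b => simp [T]
      | add a b ha hb => simp only [map_add, ha, hb])
    have e2 : pt T ≫ var (B := B) Q = var (B := B) D := by
      rw [← pt_comp]
      congr 1
      exact AlgHom.ext fun a => by simp [T]
    rw [MonObj.comp_mul, GrpObj.comp_inv, ← Category.assoc, ← Category.assoc, e2] at h1
    rw [← hg, ← Category.assoc, comp_toUnit] at h1
    exact h1
  refine ⟨g, fun D _ _ hD => ?_, fun D _ _ hD x => ?_⟩
  · have hD' : I ^ 2 ≤ RingHom.ker (algebraMap A D) := (Ideal.pow_le_self two_ne_zero).trans hD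
    haveI := hsq D hD'
    exact eq_one_of_cong hD (IsAvg.cong I P hP (key D hD'))
  · haveI := hsq D hD
    set gD := toUnit (sp A D) ≫ g
    have hk := key D hD
    obtain ⟨χ, hχ⟩ : ∃ χ : B →ₐ[A] D, pt χ = x := ⟨algOf x, pt_algOf x⟩
    obtain ⟨φ, hφdef⟩ : ∃ φ : B →ₐ[A] D ⊗[A] B, φ = (Algebra.TensorProduct.lift
      ((Algebra.TensorProduct.includeLeft : D →ₐ[A] D ⊗[A] B).comp χ) Algebra.TensorProduct.includeRight
        fun _ _ => .all _ _).comp (Bialgebra.comulAlgHom A B) := ⟨_, rfl⟩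
    have hφ : pt φ = cst x * var D := by
      rw [hφdef, ← pt_mul_pt, pt_comp, hχ]
    have hsum : ∀ z : B ⊗[A] B, avgLin P D (Algebra.TensorProduct.lift
        ((Algebra.TensorProduct.includeLeft : D →ₐ[A] D ⊗[A] B).comp χ) Algebra.TensorProduct.includeRight
          (fun _ _ => .all _ _) z) = χ (avgLin P B z) := fun z => by
      induction z using TensorProduct.induction_on with
      | zero => simp
      | tmul a b => simp
      | add a b ha hb => simp only [map_add, ha, hb]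
    let T : D ⊗[A] B →ₐ[A] D ⊗[A] B := Algebra.TensorProduct.lift Algebra.TensorProduct.includeLeft φ fun _ _ => .all _ _
    have h1 := IsAvg.map I P hP hk (AlgHom.id A D) T (fun a => by simp [T]) (fun e => by
      induction e using TensorProduct.induction_on with
      | zero => simp
      | tmul a b =>
        simp only [T, Algebra.TensorProduct.lift_tmul, Algebra.TensorProduct.includeLeft_apply]
        rw [avgLin_mul, hφdef, AlgHom.comp_apply, hsum,
          hPinv, AlgHom.commutes, avgLin_tmul, AlgHom.id_apply, Algebra.smul_def, _root_.mul_comm]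
      | add a b ha hb => simp only [map_add, ha, hb])
    have e2 : pt T ≫ var D = cst x * var D := by
      rw [← hφ, ← pt_comp]
      congr 1
      exact AlgHom.ext fun b => by simp [T]
    rw [pt_id, Category.id_comp, MonObj.comp_mul, GrpObj.comp_inv, ← Category.assoc, ← Category.assoc, e2,
      MonObj.mul_comp, MonObj.mul_comp] at h1
    have hr := IsAvg.mul I P hP (IsAvg.conj I P hP hk (x ≫ v))
      (IsAvg.const I P hP ((x ≫ v) * (x ≫ u)⁻¹) (hcong x))
    have e : (pt (Algebra.TensorProduct.includeLeft : D →ₐ[A] D ⊗[A] B) ≫ x ≫ v) *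
          ((var (B := B) D ≫ v) * (var (B := B) D ≫ u)⁻¹) *
          (pt (Algebra.TensorProduct.includeLeft : D →ₐ[A] D ⊗[A] B) ≫ x ≫ v)⁻¹ *
          (pt (Algebra.TensorProduct.includeLeft : D →ₐ[A] D ⊗[A] B) ≫ ((x ≫ v) * (x ≫ u)⁻¹)) =
        (cst x ≫ v) * (var D ≫ v) * ((cst x ≫ u) * (var D ≫ u))⁻¹ := by
      simp only [cst, MonObj.comp_mul, GrpObj.comp_inv, Category.assoc]
      group
    rw [e] at hr
    have h2 : gD = (x ≫ v) * gD * (x ≫ v)⁻¹ * ((x ≫ v) * (x ≫ u)⁻¹) := IsAvg.unique I P hP h1 hr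
    calc x ≫ v = ((x ≫ v) * gD * (x ≫ v)⁻¹ * ((x ≫ v) * (x ≫ u)⁻¹)) * (x ≫ u) * gD⁻¹ := by group
      _ = gD * (x ≫ u) * gD⁻¹ := by rw [← h2]

end Conj

section Complete

variable [IsLocalRing A] [IsNoetherianRing A] [IsAdicComplete (IsLocalRing.maximalIdeal A) A]

local notation "𝔪" => IsLocalRing.maximalIdeal A

/-- uniqueness at all levels -/
theorem hom_ext_levels {C : Type u} [CommRing C] [Algebra A C] [Module.Finite A C] {f g : sp A C ⟶ X}
    (h : ∀ n : ℕ, pt (Ideal.Quotient.mkₐ A (JJ (𝔪 ^ n) C)) ≫ f = pt (Ideal.Quotient.mkₐ A (JJ (𝔪 ^ n) C)) ≫ g) :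
    f = g :=
  Over.OverMorphism.ext ((FiniteComplete.main A C X.left).1 f.left g.left fun n =>
    congrArg (fun t => t.left) (h n))

theorem factor_mk {C : Type u} [CommRing C] [Algebra A C] {n m : ℕ} (hle : n ≤ m) :
    ∃ χ : (C ⧸ JJ (𝔪 ^ m) C) →ₐ[A] (C ⧸ JJ (𝔪 ^ n) C),
      χ.comp (Ideal.Quotient.mkₐ A (JJ (𝔪 ^ m) C)) = Ideal.Quotient.mkₐ A (JJ (𝔪 ^ n) C) ∧
      (χ : (C ⧸ JJ (𝔪 ^ m) C) →+* (C ⧸ JJ (𝔪 ^ n) C)) =
        Ideal.Quotient.factor (Ideal.map_mono (f := algebraMap A C) (Ideal.pow_le_pow_right hle)) :=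
  ⟨Ideal.Quotient.factorₐ A (Ideal.map_mono (f := algebraMap A C) (Ideal.pow_le_pow_right hle)),
    AlgHom.ext fun _ => rfl, RingHom.ext fun _ => rfl⟩

/-- compatible points at all levels glue -/
theorem exists_glue {C : Type u} [CommRing C] [Algebra A C] [Module.Finite A C]
    (a : ∀ n : ℕ, sp A (C ⧸ JJ (𝔪 ^ n) C) ⟶ X)
    (ha : ∀ (n : ℕ) (χ : (C ⧸ JJ (𝔪 ^ (n + 1)) C) →ₐ[A] (C ⧸ JJ (𝔪 ^ n) C)),
      χ.comp (Ideal.Quotient.mkₐ A (JJ (𝔪 ^ (n + 1)) C)) = Ideal.Quotient.mkₐ A (JJ (𝔪 ^ n) C) →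
      pt χ ≫ a (n + 1) = a n) :
    ∃ f : sp A C ⟶ X, ∀ n, pt (Ideal.Quotient.mkₐ A (JJ (𝔪 ^ n) C)) ≫ f = a n := by
  obtain ⟨f, hf⟩ := (FiniteComplete.main A C X.left).2 (fun n => (a n).left) fun n => by
    obtain ⟨χ, h1, h2⟩ := factor_mk (A := A) (C := C) (Nat.le_succ n)
    refine Eq.trans ?_ (congrArg (fun t => t.left) (ha n χ h1))
    show Spec.map (CommRingCat.ofHom _) ≫ (a (n + 1)).left = Spec.map (CommRingCat.ofHom _) ≫ (a (n + 1)).left
    congr 3
    exact h2.symm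
  have hw : f ≫ X.hom = (sp A C).hom := (FiniteComplete.main A C _).1 _ _ fun n => by
    rw [← Category.assoc]
    refine (congrArg (· ≫ X.hom) (hf n)).trans ((Over.w (a n)).trans ?_)
    exact (Over.w (pt (Ideal.Quotient.mkₐ A (JJ (𝔪 ^ n) C)))).symm
  exact ⟨Over.homMk f hw, fun n => Over.OverMorphism.ext (hf n)⟩

/-- points of smooth schemes lift from the levels -/
theorem exists_lift_level [Smooth X.hom] {C : Type u} [CommRing C] [Algebra A C] [Module.Finite A C] (N : ℕ) (hN : N ≠ 0)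
    (a : sp A (C ⧸ JJ (𝔪 ^ N) C) ⟶ X) :
    ∃ l : sp A C ⟶ X, pt (Ideal.Quotient.mkₐ A (JJ (𝔪 ^ N) C)) ≫ l = a := by
  have step : ∀ n, N ≤ n → ∀ b : sp A (C ⧸ JJ (𝔪 ^ n) C) ⟶ X,
      ∃ b' : sp A (C ⧸ JJ (𝔪 ^ (n + 1)) C) ⟶ X, ∀ χ : (C ⧸ JJ (𝔪 ^ (n + 1)) C) →ₐ[A] (C ⧸ JJ (𝔪 ^ n) C),
        χ.comp (Ideal.Quotient.mkₐ A (JJ (𝔪 ^ (n + 1)) C)) = Ideal.Quotient.mkₐ A (JJ (𝔪 ^ n) C) →
        pt χ ≫ b' = b := by
    intro n hn b
    obtain ⟨χ, hχ, hχ'⟩ := factor_mk (A := A) (C := C) (Nat.le_succ n)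
    have hnil : IsNilpotent (RingHom.ker χ.toRingHom) := by
      rw [show χ.toRingHom = _ from hχ', Ideal.Quotient.factor_ker]
      refine ⟨n + 1, ?_⟩
      rw [← Ideal.map_pow, Ideal.zero_eq_bot, Ideal.map_eq_bot_iff_le_ker, Ideal.mk_ker, ← Ideal.map_pow, ← pow_mul]
      exact Ideal.map_mono (Ideal.pow_le_pow_right (Nat.le_mul_of_pos_left _ (by omega)))
    have hsurj : Function.Surjective χ.toRingHom := by
      rw [show χ.toRingHom = _ from hχ']
      exact Ideal.Quotient.factor_surjective _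
    obtain ⟨l, hl, hl'⟩ := exists_lift_nil X.hom (RingHom.ker χ.toRingHom) hnil _ χ.toRingHom hsurj rfl b.left
      (Spec.map (CommRingCat.ofHom (algebraMap A (C ⧸ JJ (𝔪 ^ (n + 1)) C))))
      ((Over.w (pt χ)).trans (Over.w b).symm)
    refine ⟨Over.homMk l hl', fun χ' h' => ?_⟩
    have : χ' = χ := AlgHom.ext fun z => by
      obtain ⟨z, rfl⟩ := Ideal.Quotient.mk_surjective z
      exact (DFunLike.congr_fun h' z).trans (DFunLike.congr_fun hχ z).symm
    rw [this]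
    exact Over.OverMorphism.ext hl
  choose next hnext using step
  let seq : ∀ k : ℕ, sp A (C ⧸ JJ (𝔪 ^ (N + k)) C) ⟶ X := fun k =>
    Nat.rec (motive := fun k => sp A (C ⧸ JJ (𝔪 ^ (N + k)) C) ⟶ X) a (fun k b => next (N + k) (Nat.le_add_right _ _) b) k
  have hseq : ∀ (k n : ℕ) (χ : (C ⧸ JJ (𝔪 ^ (N + k)) C) →ₐ[A] (C ⧸ JJ (𝔪 ^ n) C))
      (χ' : (C ⧸ JJ (𝔪 ^ (N + (k + 1))) C) →ₐ[A] (C ⧸ JJ (𝔪 ^ n) C)),
      χ.comp (Ideal.Quotient.mkₐ A _) = Ideal.Quotient.mkₐ A _ →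
      χ'.comp (Ideal.Quotient.mkₐ A _) = Ideal.Quotient.mkₐ A _ → pt χ ≫ seq k = pt χ' ≫ seq (k + 1) := by
    intro k n χ χ' h h'
    obtain ⟨ψ, hψ, -⟩ := factor_mk (A := A) (C := C) (Nat.le_succ (N + k))
    have : χ' = χ.comp ψ := AlgHom.ext fun z => by
      obtain ⟨z, rfl⟩ := Ideal.Quotient.mk_surjective z
      refine (DFunLike.congr_fun h' z).trans ((DFunLike.congr_fun h z).symm.trans ?_)
      exact congrArg χ (DFunLike.congr_fun hψ z).symm
    rw [this, pt_comp, Category.assoc]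
    exact congrArg (pt χ ≫ ·) (hnext (N + k) _ (seq k) ψ hψ).symm
  have hF : ∀ n, ∃ χ : (C ⧸ JJ (𝔪 ^ (N + n)) C) →ₐ[A] (C ⧸ JJ (𝔪 ^ n) C),
      χ.comp (Ideal.Quotient.mkₐ A _) = Ideal.Quotient.mkₐ A _ := fun n => by
    obtain ⟨χ, hχ, -⟩ := factor_mk (A := A) (C := C) (Nat.le_add_left n N)
    exact ⟨χ, hχ⟩
  choose F hF using hF
  obtain ⟨f, hf⟩ := exists_glue (fun n => pt (F n) ≫ seq n) fun n χ hχ => by
    obtain ⟨χ₀, hχ₀, -⟩ := factor_mk (A := A) (C := C) (n := n) (m := N + n) (Nat.le_add_left _ _)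
    have e1 : χ.comp (F (n + 1)) = χ.comp (F (n + 1)) := rfl
    rw [← Category.assoc, ← pt_comp]
    refine (hseq n n (F n) (χ.comp (F (n + 1))) (hF n) ?_).symm
    rw [AlgHom.comp_assoc, hF, hχ]
  refine ⟨f, ?_⟩
  rw [hf N]
  have h0 : ∀ (k : ℕ) (χ : (C ⧸ JJ (𝔪 ^ (N + k)) C) →ₐ[A] (C ⧸ JJ (𝔪 ^ N) C)),
      χ.comp (Ideal.Quotient.mkₐ A _) = Ideal.Quotient.mkₐ A _ → pt χ ≫ seq k = a := by
    intro k
    induction k with
    | zero =>
      intro χ hχ
      have : χ = AlgHom.id A _ := AlgHom.ext fun z => by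
        obtain ⟨z, rfl⟩ := Ideal.Quotient.mk_surjective z
        exact DFunLike.congr_fun hχ z
      rw [this, pt_id]
      exact Category.id_comp a
    | succ k ih =>
      intro χ hχ
      obtain ⟨χ₀, hχ₀, -⟩ := factor_mk (A := A) (C := C) (n := N) (m := N + k) (Nat.le_add_right _ _)
      rw [← hseq k N χ₀ χ hχ₀ hχ, ih χ₀ hχ₀]
  exact h0 N (F N) (hF N)

variable {B : Type u} [CommRing B] [HopfAlgebra A B] [Module.Finite A B]
variable (P : B →ₗ[A] A) (hP : P 1 = 1)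
variable (hPinv : ∀ b : B, avgLin P B (Bialgebra.comulAlgHom A B b) = algebraMap A B (P b))
variable {G : Over (Spec (CommRingCat.of A))} [GrpObj G] [Smooth G.hom]

theorem le_two_pow (n : ℕ) : 𝔪 ^ 2 ^ n ≤ 𝔪 ^ n := Ideal.pow_le_pow_right Nat.lt_two_pow_self.le

/-- limits of sequences stabilising at every level -/
theorem exists_limit {C : Type u} [CommRing C] [Algebra A C] [Module.Finite A C] (w : ℕ → (sp A C ⟶ X))
    (h : ∀ (k : ℕ) (D : Type u) [CommRing D] [Algebra A D], 𝔪 ^ 2 ^ k ≤ RingHom.ker (algebraMap A D) →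
      ∀ x : sp A D ⟶ sp A C, x ≫ w (k + 1) = x ≫ w k) :
    ∃ f : sp A C ⟶ X, ∀ (n : ℕ) (D : Type u) [CommRing D] [Algebra A D],
      𝔪 ^ n ≤ RingHom.ker (algebraMap A D) → ∀ x : sp A D ⟶ sp A C, x ≫ f = x ≫ w n := by
  obtain ⟨f, hf⟩ := exists_glue (fun n => pt (Ideal.Quotient.mkₐ A (JJ (𝔪 ^ n) C)) ≫ w n) fun n χ hχ => by
    rw [← Category.assoc, ← pt_comp, hχ]
    exact h n _ ((le_two_pow n).trans (killed _ _)) _
  exact ⟨f, fun n D _ _ hD x => comp_eq_of_level _ (hf n) D hD x⟩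

include hP hPinv in
/-- A map multiplicative on the closed fibre is congruent to a homomorphism. -/
theorem exists_hom_complete (w : sp A B ⟶ G) (hw : MulMod 𝔪 w) :
    ∃ u : sp A B ⟶ G, IsMonHom u ∧ ∀ (D : Type u) [CommRing D] [Algebra A D],
      𝔪 ≤ RingHom.ker (algebraMap A D) → ∀ x : sp A D ⟶ sp A B, x ≫ u = x ≫ w := by
  have step : ∀ (k : ℕ) (v : {v : sp A B ⟶ G // MulMod (𝔪 ^ 2 ^ k) v}),
      ∃ v' : {v : sp A B ⟶ G // MulMod (𝔪 ^ 2 ^ (k + 1)) v},
      ∀ (D : Type u) [CommRing D] [Algebra A D], 𝔪 ^ 2 ^ k ≤ RingHom.ker (algebraMap A D) →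
        ∀ x : sp A D ⟶ sp A B, x ≫ v'.1 = x ≫ v.1 := fun k v => by
    obtain ⟨v', h1, h2⟩ := exists_step_of_lift P hP hPinv (𝔪 ^ 2 ^ k)
      (by rw [← pow_mul]; exact fun a => exists_lift_level _ (by positivity) a) v.1 v.2
    rw [← pow_mul, ← pow_succ] at h1
    exact ⟨⟨v', h1⟩, h2⟩
  choose next hnext using step
  let seq : ∀ k : ℕ, {v : sp A B ⟶ G // MulMod (𝔪 ^ 2 ^ k) v} := fun k =>
    Nat.rec (motive := fun k => {v : sp A B ⟶ G // MulMod (𝔪 ^ 2 ^ k) v})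
      ⟨w, by rwa [pow_zero, pow_one]⟩ (fun k v => next k v) k
  obtain ⟨u, hu⟩ := exists_limit (fun k => (seq k).1) fun k => hnext k (seq k)
  refine ⟨u, BCPoints.isMonHom_of_mul u fun Y x y => ?_, fun D _ _ hD x => ?_⟩
  · have h1 : (fst (sp A B) (sp A B) * snd (sp A B) (sp A B)) ≫ u =
        (fst (sp A B) (sp A B) ≫ u) * (snd (sp A B) (sp A B) ≫ u) := by
      haveI := Misc15.AffinePoints.isIso_Q (R := A) B B
      rw [← cancel_epi (Misc15.AffinePoints.Q (R := A) B B)]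
      refine hom_ext_levels (A := A) fun n => ?_
      have hk := killed (𝔪 ^ n) (B ⊗[A] B)
      simp only [MonObj.comp_mul, ← Category.assoc]
      rw [hu n _ hk, hu n _ hk, hu n _ hk]
      exact (seq n).2 _ ((le_two_pow n).trans hk) _ _
    have h2 := congrArg (lift x y ≫ ·) h1
    simp only [← Category.assoc, MonObj.comp_mul, lift_fst, lift_snd] at h2
    exact h2
  · rw [hu 1 D (by rwa [pow_one]) x]
    exact hnext 0 (seq 0) D (by rwa [pow_zero, pow_one]) x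

include hP hPinv in
/-- Homomorphisms agreeing on the closed fibre are conjugate. -/
theorem exists_conj_complete (u v : sp A B ⟶ G) [IsMonHom u] [IsMonHom v]
    (h : ∀ (D : Type u) [CommRing D] [Algebra A D], 𝔪 ≤ RingHom.ker (algebraMap A D) →
      ∀ x : sp A D ⟶ sp A B, x ≫ u = x ≫ v) :
    ∃ g : 𝟙_ (Over (Spec (CommRingCat.of A))) ⟶ G,
      (∀ (D : Type u) [CommRing D] [Algebra A D], 𝔪 ≤ RingHom.ker (algebraMap A D) → toUnit (sp A D) ≫ g = 1) ∧
      v = (toUnit _ ≫ g) * u * (toUnit _ ≫ g)⁻¹ := by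
  let Good : ℕ → (𝟙_ (Over (Spec (CommRingCat.of A))) ⟶ G) → Prop := fun k g =>
    ∀ (D : Type u) [CommRing D] [Algebra A D], 𝔪 ^ 2 ^ k ≤ RingHom.ker (algebraMap A D) →
      ∀ x : sp A D ⟶ sp A B, x ≫ v = (toUnit _ ≫ g) * (x ≫ u) * (toUnit _ ≫ g)⁻¹
  have step : ∀ (k : ℕ) (g : {g // Good k g}), ∃ g' : {g // Good (k + 1) g},
      ∀ (D : Type u) [CommRing D] [Algebra A D], 𝔪 ^ 2 ^ k ≤ RingHom.ker (algebraMap A D) →
        toUnit (sp A D) ≫ g'.1 = toUnit (sp A D) ≫ g.1 := fun k g => by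
    let u' : sp A B ⟶ G := (toUnit _ ≫ g.1) * u * (toUnit _ ≫ g.1)⁻¹
    have hu' : ∀ {Y : Over (Spec (CommRingCat.of A))} (x : Y ⟶ sp A B),
        x ≫ u' = (toUnit Y ≫ g.1) * (x ≫ u) * (toUnit Y ≫ g.1)⁻¹ := fun x => by
      simp only [u', MonObj.comp_mul, GrpObj.comp_inv, comp_toUnit_assoc]
    haveI : IsMonHom u' := BCPoints.isMonHom_of_mul u' fun Y x y => by
      rw [hu', hu', hu', MonObj.mul_comp]; group
    obtain ⟨c, hc1, hc⟩ := exists_conj_step P hP hPinv (𝔪 ^ 2 ^ k) (by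
      rw [← pow_mul]
      intro a
      obtain ⟨l, hl⟩ := exists_lift_level (A := A) (C := A) _ (by positivity)
        (pt (Ideal.Quotient.liftₐ _ (Ideal.Quotient.mkₐ A (JJ (𝔪 ^ (2 ^ k * 2)) A))
          (fun r hr => Ideal.Quotient.eq_zero_iff_mem.2 (Ideal.mem_map_of_mem _ hr))) ≫ a)
      let χ : (A ⧸ JJ (𝔪 ^ (2 ^ k * 2)) A) →ₐ[A] A ⧸ 𝔪 ^ (2 ^ k * 2) :=
        Ideal.Quotient.liftₐ _ (Ideal.Quotient.mkₐ A _) fun r hr => Ideal.Quotient.eq_zero_iff_mem.2 (by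
          rwa [JJ, Algebra.algebraMap_self, Ideal.map_id] at hr)
      refine ⟨unitIso.inv ≫ l, ?_⟩
      have h1 := congrArg (pt χ ≫ ·) hl
      simp only [← Category.assoc, ← pt_comp] at h1
      rw [show χ.comp (Ideal.Quotient.mkₐ A (JJ _ A)) = Algebra.ofId A _ from AlgHom.ext fun _ => rfl] at h1
      rw [toUnit_eq, Category.assoc, Iso.hom_inv_id_assoc, h1]
      have : (χ.comp (Ideal.Quotient.liftₐ _ (Ideal.Quotient.mkₐ A (JJ (𝔪 ^ (2 ^ k * 2)) A))
          (fun r hr => Ideal.Quotient.eq_zero_iff_mem.2 (Ideal.mem_map_of_mem _ hr)))) = AlgHom.id A _ :=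
        AlgHom.ext fun z => by obtain ⟨z, rfl⟩ := Ideal.Quotient.mk_surjective z; rfl
      rw [this, pt_id]
      exact Category.id_comp a) u' v (fun D _ _ hD x => by rw [hu', g.2 D hD x])
    refine ⟨⟨c * g.1, fun D _ _ hD x => ?_⟩, fun D _ _ hD => ?_⟩
    · rw [pow_succ, pow_mul] at hD
      rw [hc D hD x, hu', MonObj.comp_mul]
      group
    · show toUnit _ ≫ (c * g.1) = _
      rw [MonObj.comp_mul, hc1 D hD, _root_.one_mul]
  choose next hnext using step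
  let seq : ∀ k : ℕ, {g // Good k g} := fun k =>
    Nat.rec (motive := fun k => {g // Good k g})
      ⟨1, fun D _ _ hD x => by
        rw [pow_zero, pow_one] at hD
        rw [MonObj.comp_one, inv_one, _root_.one_mul, _root_.mul_one, h D hD x]⟩ (fun k g => next k g) k
  have htu : ∀ {D : Type u} [CommRing D] [Algebra A D] (x : sp A D ⟶ sp A A) (g : 𝟙_ (Over (Spec (CommRingCat.of A))) ⟶ G),
      x ≫ unitIso.hom ≫ g = toUnit _ ≫ g := fun x g => by
    rw [← Category.assoc, toUnit_unique (x ≫ unitIso.hom) (toUnit _)]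
  obtain ⟨l, hl⟩ := exists_limit (C := A) (fun k => unitIso.hom ≫ (seq k).1) fun k D _ _ hD x => by
    rw [htu, htu]; exact hnext k (seq k) D hD
  have hg : ∀ (n : ℕ) (D : Type u) [CommRing D] [Algebra A D], 𝔪 ^ n ≤ RingHom.ker (algebraMap A D) →
      toUnit (sp A D) ≫ unitIso.inv ≫ l = toUnit _ ≫ (seq n).1 := fun n D _ _ hD => by
    rw [toUnit_eq, Category.assoc, Iso.hom_inv_id_assoc, hl n D hD, htu, ← toUnit_eq]
  refine ⟨unitIso.inv ≫ l, fun D _ _ hD => ?_, hom_ext_levels fun n => ?_⟩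
  · rw [hg 1 D (by rwa [pow_one])]
    refine (hnext 0 (seq 0) D (by rwa [pow_zero, pow_one])).trans ?_
    show _ ≫ (1 : _ ⟶ G) = 1
    rw [MonObj.comp_one]
  · have hk := killed (𝔪 ^ n) B
    rw [(seq n).2 _ ((le_two_pow n).trans hk), MonObj.comp_mul, MonObj.comp_mul, GrpObj.comp_inv,
      comp_toUnit_assoc, hg n _ hk]

end Complete

end Groth.Agent.SGA3Power26.AvgPoints
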