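import Groth.Agent.SGA3Power26.CentralLift
import Groth.Agent.SGA3cLib.FiniteComplete
import Groth.Agent.SGA3cLib.CentralOpen

/-! Central homomorphisms from finite etale groups of multiplicative type over complete local rings. -/

set_option autoImplicit false
set_option backward.isDefEq.respectTransparency.types false
set_option linter.style.haveILetI false

universe u

open CategoryTheory CategoryTheory.Limits MonoidalCategory CartesianMonoidalCategory MonObj AlgebraicGeometry
open Groth.Agent.Dense26 (powKer powKerι powKerHom powKerHom_pow fst_eq exists_lift)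
open Groth.Agent.SGA3cLib
open IsLocalRing (maximalIdeal closedPoint)

noncomputable section

namespace Groth.Agent.SGA3Power26

variable {A : Type u} [CommRing A] [IsLocalRing A]

/-- The closed point as a closed subscheme. -/
abbrev closedSub (A : Type u) [CommRing A] [IsLocalRing A] :
    Spec (CommRingCat.of (A ⧸ maximalIdeal A)) ⟶ Spec (CommRingCat.of A) :=
  Spec.map (CommRingCat.ofHom (Ideal.Quotient.mk (maximalIdeal A)))

instance : IsClosedImmersion (closedSub A) := IsClosedImmersion.spec_of_surjective _ Ideal.Quotient.mk_surjective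

theorem range_closedSub : Set.range (closedSub A).base = {closedPoint A} := by
  show Set.range (PrimeSpectrum.comap (Ideal.Quotient.mk (maximalIdeal A))) = _
  rw [range_comap_of_surjective _ _ Ideal.Quotient.mk_surjective, Ideal.mk_ker]
  ext p
  simp only [PrimeSpectrum.mem_zeroLocus, SetLike.coe_subset_coe]
  refine ⟨fun h => PrimeSpectrum.ext ((IsLocalRing.maximalIdeal.isMaximal A).eq_of_le p.isPrime.ne_top h).symm, ?_⟩
  rintro rfl
  exact le_rfl

/-- An object all whose points lie over the closed point is a thickening of its closed fibre. -/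
theorem surjective_fst_closedSub {T : Scheme.{u}} (f : T ⟶ Spec (CommRingCat.of A)) (h : ∀ t, f t = closedPoint A) :
    Surjective (pullback.fst f (closedSub A)) := by
  refine ⟨fun t => ?_⟩
  obtain ⟨z, hz⟩ : closedPoint A ∈ Set.range (closedSub A).base := by rw [range_closedSub]; rfl
  obtain ⟨w, hw, -⟩ := Scheme.Pullback.exists_preimage_pullback (f := f) (g := closedSub A) t z ((h t).trans hz.symm)
  exact ⟨w, hw⟩

section Noetherian

variable [IsNoetherianRing A] [IsAdicComplete (maximalIdeal A) A]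

theorem apply_red_str (B : Type u) [CommRing B] [Algebra A B] [Module.Finite A B] (n : ℕ)
    (x : Spec (CommRingCat.of (B ⧸ FiniteComplete.pw A B n))) :
    (FiniteComplete.red A B n ≫ Spec.map (CommRingCat.ofHom (algebraMap A B))) x = closedPoint A := by
  have hle : FiniteComplete.pw A B n ≤ (FiniteComplete.red A B n x).asIdeal := fun c hc => by
    show Ideal.Quotient.mk (FiniteComplete.pw A B n) c ∈ x.asIdeal
    rw [Ideal.Quotient.eq_zero_iff_mem.2 hc]
    exact zero_mem _
  haveI := FiniteComplete.isMaximal_of_le A B (FiniteComplete.red A B n x).isPrime n hle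
  apply PrimeSpectrum.ext
  exact IsLocalRing.eq_maximalIdeal (Ideal.isMaximal_comap_of_isIntegral_of_isMaximal (R := A) (S := B)
    (FiniteComplete.red A B n x).asIdeal)

/-- Morphisms out of a finite scheme over a complete local ring are determined near the closed fibre. -/
theorem ext_of_near {X : Over (Spec (CommRingCat.of A))} [IsFinite X.hom] {Y : Scheme.{u}} (a b : X.left ⟶ Y)
    (h : ∀ (T : Scheme.{u}) (k : T ⟶ X.left), (∀ t, (k ≫ X.hom) t = closedPoint A) → k ≫ a = k ≫ b) : a = b := by
  haveI : IsAffine X.left := isAffine_of_isAffineHom X.hom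
  let B := Γ(X.left, ⊤)
  let str := X.left.isoSpec.inv ≫ X.hom
  letI : Algebra A B := (Spec.preimage str).hom.toAlgebra
  have hstr : Spec.map (CommRingCat.ofHom (algebraMap A B)) = str := Spec.map_preimage str
  haveI : Module.Finite A B := by
    have h1 : IsFinite (Spec.map (CommRingCat.ofHom (algebraMap A B))) := by rw [hstr]; infer_instance
    rw [IsFinite.SpecMap_iff] at h1
    exact RingHom.finite_algebraMap.1 h1
  rw [← cancel_epi X.left.isoSpec.inv]
  refine (FiniteComplete.main A B Y).1 _ _ fun n => ?_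
  rw [← Category.assoc, ← Category.assoc]
  refine h _ _ fun t => ?_
  have := apply_red_str (A := A) B n t
  rw [hstr] at this
  exact this

end Noetherian

section Central

variable (M : Over (Spec (CommRingCat.of A))) [GrpObj M] [Smooth M.hom] [IsFinite M.hom]
  (G : Over (Spec (CommRingCat.of A))) [GrpObj G] [Flat G.hom] [LocallyOfFinitePresentation G.hom]

/-- A finite etale group of multiplicative type over a local ring is killed by an invertible integer. -/
theorem exists_pow_eq_one (hM : SGA3x.IsMultTypeFT M) :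
    ∃ N : ℕ, (∀ t, (N : (Spec (CommRingCat.of A)).residueField t) ≠ 0) ∧ (𝟙 M : M ⟶ M) ^ N = 1 := by
  obtain ⟨N, V, hV, hN, hk⟩ := exists_killedOn M hM (closedPoint A)
  obtain rfl : V = ⊤ := top_unique fun t _ => (IsLocalRing.specializes_closedPoint t).mem_open V.2 hV
  refine ⟨N, fun t => hN t trivial, ?_⟩
  let r : Over.mk ((M.hom ⁻¹ᵁ ⊤).ι ≫ M.hom) ⟶ M := Over.homMk (M.hom ⁻¹ᵁ ⊤).ι rfl
  have h1 : (r ≫ 𝟙 M) ^ N = 1 := hk
  rw [← MonObj.comp_pow, ← MonObj.comp_one (f := r)] at h1
  refine Over.OverMorphism.ext ?_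
  haveI : IsIso r.left := inferInstanceAs (IsIso M.left.topIso.hom)
  exact (cancel_epi r.left).1 (congrArg (fun t => t.left) h1)

variable {M G}
  (u₀ : Red.bc (closedSub A) M ⟶ Red.bc (closedSub A) G) [IsMonHom u₀]
  (hc₀ : ∀ (X : Over (Spec (CommRingCat.of (A ⧸ maximalIdeal A)))) (x : X ⟶ Red.bc (closedSub A) M)
    (g : X ⟶ Red.bc (closedSub A) G), (x ≫ u₀) * g = g * (x ≫ u₀))

omit [Smooth M.hom] [IsFinite M.hom] [GrpObj M] [GrpObj G] [Flat G.hom] [LocallyOfFinitePresentation G.hom] in
theorem fst_comp_left {X : Over (Spec (CommRingCat.of A))} (a : X ⟶ G) (b : X ⟶ G)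
    (h : (Over.pullback (closedSub A)).map a = (Over.pullback (closedSub A)).map b) :
    pullback.fst X.hom (closedSub A) ≫ a.left = pullback.fst X.hom (closedSub A) ≫ b.left :=
  ((pullback.lift_fst _ _ _).symm.trans (congrArg (fun t => t.left ≫ pullback.fst G.hom (closedSub A)) h)).trans
    (pullback.lift_fst _ _ _)

omit [IsMonHom u₀] in
include hc₀ in
/-- A lift is central near the closed fibre. -/
theorem commute_near (hM : SGA3x.IsMultTypeFT M) (u : M ⟶ G) [IsMonHom u]
    (hu : (Over.pullback (closedSub A)).map u = u₀) {X : Over (Spec (CommRingCat.of A))}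
    (hX : ∀ t, X.hom t = closedPoint A) (x : X ⟶ M) (g : X ⟶ G) : Commute (x ≫ u) g := by
  haveI := etale_of_smooth_of_finite M.hom
  haveI := surjective_fst_closedSub X.hom hX
  haveI : Etale (Red.bc (closedSub A) M).hom := MorphismProperty.pullback_snd M.hom _ inferInstance
  obtain ⟨N, hN, hpow⟩ := exists_pow_eq_one M hM
  let F := Over.pullback (closedSub A)
  let r : Over.mk ((X.hom ⁻¹ᵁ ⊤).ι ≫ X.hom) ⟶ X := Over.homMk (X.hom ⁻¹ᵁ ⊤).ι rfl
  have hk : ((x ≫ u) : X ⟶ G) ^ N = 1 := by
    rw [← MonObj.pow_comp, show x ^ N = x ≫ (𝟙 M : M ⟶ M) ^ N by rw [MonObj.comp_pow, Category.comp_id], hpow,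
      MonObj.comp_one, MonObj.one_comp]
  have h : x ≫ u = g * (x ≫ u) * g⁻¹ := by
    refine eq_of_killed (x ≫ u) (g * (x ≫ u) * g⁻¹) (pullback.fst X.hom (closedSub A)) (fst_comp_left _ _ ?_)
      (fun y => ?_) fun y => ⟨⊤, N, trivial, fun t _ => hN t, ?_, ?_⟩
    · show F.homMonoidHom (x ≫ u) = F.homMonoidHom (g * (x ≫ u) * g⁻¹)
      rw [map_mul, map_mul, map_inv]
      have e1 : F.homMonoidHom (x ≫ u) = F.map x ≫ u₀ := by
        show F.map (x ≫ u) = _
        rw [F.map_comp, hu]
      rw [e1, ← hc₀ _ (F.map x) (F.homMonoidHom g), mul_inv_cancel_right]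
    · obtain ⟨z, rfl⟩ := (pullback.fst X.hom (closedSub A)).surjective y
      have e : pullback.fst X.hom (closedSub A) ≫ (x ≫ u).left =
          (F.map x).left ≫ u₀.left ≫ pullback.fst G.hom (closedSub A) := by
        rw [← hu, ← Category.assoc, ← Over.comp_left, ← F.map_comp]
        exact (pullback.lift_fst _ _ _).symm
      rw [← Scheme.Hom.comp_apply, e, Scheme.Hom.comp_apply]
      exact goodPt_central (closedSub A) u₀ hc₀ _
    · show (r ≫ x ≫ u) ^ N = 1
      rw [← MonObj.comp_pow, hk, MonObj.comp_one]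
    · show (r ≫ (g * (x ≫ u) * g⁻¹)) ^ N = 1
      rw [← MonObj.comp_pow, conj_pow, hk, _root_.mul_one, mul_inv_cancel, MonObj.comp_one]
  exact (eq_mul_inv_iff_mul_eq.1 h)

variable [IsNoetherianRing A] [IsAdicComplete (maximalIdeal A) A]

include hc₀ in
/-- Central homomorphisms lift uniquely over a complete local ring. -/
theorem existsUnique_complete_lift (hM : SGA3x.IsMultTypeFT M) :
    ∃ u : M ⟶ G, IsMonHom u ∧ (Over.pullback (closedSub A)).map u = u₀ ∧
      ∀ u' : M ⟶ G, IsMonHom u' → (Over.pullback (closedSub A)).map u' = u₀ → u' = u := by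
  haveI := etale_of_smooth_of_finite M.hom
  let q := closedSub A
  let F := Over.pullback q
  let H₀ := Red.bc q M
  haveI : Etale H₀.hom := MorphismProperty.pullback_snd M.hom q inferInstance
  let i : H₀.left ⟶ M.left := pullback.fst M.hom q
  let x₀ : H₀.left ⟶ G.left := u₀.left ≫ pullback.fst G.hom q
  have hgood : ∀ h, GoodPt G (x₀ h) := goodPt_central q u₀ hc₀
  have hx₀ : x₀ ≫ G.hom = i ≫ M.hom := by
    rw [Category.assoc, pullback.condition, ← Category.assoc,
      show u₀.left ≫ pullback.snd G.hom q = pullback.snd M.hom q from Over.w u₀]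
    exact pullback.condition.symm
  obtain ⟨N, hN, hpow⟩ := exists_pow_eq_one M hM
  obtain ⟨W, hW, hWmem⟩ := exists_etale_open (G := G) N
  haveI := hW
  haveI := etale_powKer_restrict N W
  let U := powKerι G N ⁻¹ᵁ W
  let p := U.ι ≫ powKerι G N ≫ G.hom
  -- the closed fibre maps into the kernel
  let b₀ : (Over.map q).obj H₀ ⟶ M := Over.homMk i pullback.condition
  let a₀ : (Over.map q).obj H₀ ⟶ G := Over.homMk x₀ (hx₀.trans pullback.condition)
  have hb₀ : BCPoints.pt q M H₀ b₀ = 𝟙 H₀ := by
    refine Over.OverMorphism.ext (pullback.hom_ext ?_ ?_)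
    · exact (pt_left_fst q b₀).trans (Category.id_comp _).symm
    · exact (Over.w (BCPoints.pt q M H₀ b₀)).trans (Category.id_comp _).symm
  have ha₀ : BCPoints.pt q G H₀ a₀ = u₀ := by
    refine Over.OverMorphism.ext (pullback.hom_ext (pt_left_fst q a₀) ?_)
    exact (Over.w (BCPoints.pt q G H₀ a₀)).trans (Over.w u₀).symm
  have hpw : a₀ ^ N = 1 := by
    have hm := fun (Q : Over (Spec (CommRingCat.of A))) [GrpObj Q] (c : (Over.map q).obj H₀ ⟶ Q) =>
      _root_.map_pow (MonoidHom.mk' (BCPoints.pt q Q H₀) (BCPoints.pt_mul q)) c N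
    have h1 := hm M b₀
    simp only [MonoidHom.mk'_apply, hb₀] at h1
    have h2 : b₀ ^ N = 1 := by
      rw [show b₀ ^ N = b₀ ≫ (𝟙 M : M ⟶ M) ^ N by rw [MonObj.comp_pow, Category.comp_id], hpow, MonObj.comp_one]
    have h3 := _root_.map_one (MonoidHom.mk' (BCPoints.pt q M H₀) (BCPoints.pt_mul q))
    rw [h2] at h1
    simp only [MonoidHom.mk'_apply] at h3
    rw [h3] at h1
    apply (BCPoints.pt q G H₀).injective
    have h4 := hm G a₀
    simp only [MonoidHom.mk'_apply, ha₀] at h4
    have h5 := _root_.map_one (MonoidHom.mk' (BCPoints.pt q G H₀) (BCPoints.pt_mul q))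
    simp only [MonoidHom.mk'_apply] at h5
    rw [h4, h5, show u₀ = 𝟙 H₀ ≫ u₀ from (Category.id_comp _).symm, ← MonObj.pow_comp, ← h1, MonObj.one_comp]
  obtain ⟨z, hz⟩ := exists_lift a₀ hpw
  change z ≫ powKerι G N = x₀ at hz
  have hzU : Set.range z ⊆ Set.range U.ι := by
    rw [Scheme.Opens.range_ι]
    rintro _ ⟨y, rfl⟩
    show powKerι G N (z y) ∈ W
    rw [← Scheme.Hom.comp_apply, hz]
    obtain ⟨W', h1, h2⟩ := hgood y N (hN _)
    exact hWmem _ W' h1 h2
  let m : H₀.left ⟶ (U : Scheme) := IsOpenImmersion.lift U.ι z hzU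
  have hm : m ≫ U.ι ≫ powKerι G N = x₀ := by rw [IsOpenImmersion.lift_fac_assoc, hz]
  -- the formal lifts
  haveI : IsAffine M.left := isAffine_of_isAffineHom M.hom
  let B := Γ(M.left, ⊤)
  let e := M.left.isoSpec
  letI : Algebra A B := (Spec.preimage (e.inv ≫ M.hom)).hom.toAlgebra
  have hstr : Spec.map (CommRingCat.ofHom (algebraMap A B)) = e.inv ≫ M.hom := Spec.map_preimage _
  haveI : Module.Finite A B := by
    have h1 : IsFinite (Spec.map (CommRingCat.ofHom (algebraMap A B))) := by rw [hstr]; infer_instance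
    rw [IsFinite.SpecMap_iff] at h1
    exact RingHom.finite_algebraMap.1 h1
  let red := fun n => FiniteComplete.red A B n ≫ e.inv
  have hred : ∀ n t, (red n ≫ M.hom) t = closedPoint A := fun n t => by
    have := apply_red_str (A := A) B n t
    rw [hstr] at this
    exact this
  let pn := fun n => pullback.fst (red n ≫ M.hom) q
  let mn : ∀ n, pullback (red n ≫ M.hom) q ⟶ H₀.left := fun n =>
    pullback.lift (pn n ≫ red n) (pullback.snd _ _) ((Category.assoc _ _ _).trans pullback.condition)
  have hsurj : ∀ n, Surjective (pn n) := fun n => surjective_fst_closedSub _ (hred n)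
  have hln : ∀ n, ∃ l : Spec (CommRingCat.of (B ⧸ FiniteComplete.pw A B n)) ⟶ (U : Scheme),
      l ≫ p = red n ≫ M.hom ∧ pn n ≫ l = mn n ≫ m := fun n => by
    haveI := hsurj n
    haveI : IsClosedImmersion (pn n) := MorphismProperty.pullback_fst _ q inferInstance
    refine exists_lift_of_etale p (pn n) (mn n ≫ m) (red n ≫ M.hom) ?_
    have h1 : m ≫ p = i ≫ M.hom := by rw [← hx₀, ← hm]; simp [p]
    have h2 : mn n ≫ i = pn n ≫ red n := pullback.lift_fst _ _ _
    exact (Category.assoc _ _ _).trans ((congrArg (mn n ≫ ·) h1).trans ((Category.assoc _ _ _).symm.trans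
      ((congrArg (· ≫ M.hom) h2).trans (Category.assoc _ _ _))))
  choose l hl hlm using hln
  obtain ⟨f, hf⟩ := (FiniteComplete.main A B (U : Scheme)).2 l fun n => by
    haveI := hsurj n
    let w : Spec (CommRingCat.of (B ⧸ FiniteComplete.pw A B n)) ⟶ Spec (CommRingCat.of (B ⧸ FiniteComplete.pw A B (n + 1))) :=
      Spec.map (CommRingCat.ofHom (Ideal.Quotient.factor
        (Ideal.map_mono (f := algebraMap A B) (Ideal.pow_le_pow_right (I := maximalIdeal A) (Nat.le_succ n)))))
    have hw : w ≫ red (n + 1) = red n := by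
      show w ≫ FiniteComplete.red A B (n + 1) ≫ e.inv = _
      rw [← Category.assoc, ← Spec.map_comp, ← CommRingCat.ofHom_comp, Ideal.Quotient.factor_comp_mk]
    refine FEtLib.eq_of_surjective p _ _ (pn n) ?_ ?_
    · let w' : pullback (red n ≫ M.hom) q ⟶ pullback (red (n + 1) ≫ M.hom) q :=
        pullback.lift (pn n ≫ w) (pullback.snd _ _)
          ((Category.assoc _ _ _).trans ((congrArg (pn n ≫ ·) (((Category.assoc _ _ _).symm).trans (congrArg (· ≫ M.hom) hw))).trans pullback.condition))
      have hw' : w' ≫ pn (n + 1) = pn n ≫ w := pullback.lift_fst _ _ _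
      refine ((Category.assoc _ _ _).symm.trans ((congrArg (· ≫ l (n + 1)) hw'.symm).trans ((Category.assoc _ _ _).trans
        ((congrArg (w' ≫ ·) (hlm (n + 1))).trans ((Category.assoc _ _ _).symm.trans (Eq.trans ?_ (hlm n).symm))))))
      refine congrArg (· ≫ m) ?_
      refine pullback.hom_ext ?_ ?_
      · refine (Category.assoc _ _ _).trans ((congrArg (w' ≫ ·) (pullback.lift_fst _ _ _)).trans
          (((Category.assoc _ _ _).symm.trans (congrArg (· ≫ red (n + 1)) hw')).trans
            ((Category.assoc _ _ _).trans ((congrArg (pn n ≫ ·) hw).trans (pullback.lift_fst _ _ _).symm))))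
      · exact (Category.assoc _ _ _).trans ((congrArg (w' ≫ ·) (pullback.lift_snd _ _ _)).trans
          ((pullback.lift_snd _ _ _).trans (pullback.lift_snd _ _ _).symm))
    · rw [Category.assoc, hl, reassoc_of% hw, hl]
  have hfred : ∀ n, red n ≫ e.hom ≫ f = l n := fun n => by
    rw [Category.assoc, Iso.inv_hom_id_assoc]; exact hf n
  have hfs : e.hom ≫ f ≫ p = M.hom := by
    rw [← cancel_epi e.inv, Iso.inv_hom_id_assoc]
    refine (FiniteComplete.main A B _).1 _ _ fun n => ?_
    rw [reassoc_of% hf n, hl]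
    exact Category.assoc _ _ _
  let u : M ⟶ G := Over.homMk (e.hom ≫ f ≫ U.ι ≫ powKerι G N) (by
    simpa only [p, Category.assoc] using hfs)
  have huN : u ^ N = 1 := by
    have hv : u = (Over.homMk (e.hom ≫ f ≫ U.ι) (by simp only [p] at hfs; simpa [Dense26.powKerOver] using hfs) :
        M ⟶ Dense26.powKerOver G N) ≫ powKerHom G N := by
      ext1; simp [u]
    rw [hv, ← MonObj.comp_pow, powKerHom_pow, MonObj.comp_one]
  -- the restriction to the closed fibre
  have hiu : i ≫ u.left = x₀ := by
    have hi : ∀ y, (i ≫ M.hom) y = closedPoint A := fun y => by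
      show (pullback.fst M.hom q ≫ M.hom) y = _
      rw [pullback.condition]
      exact Set.eq_of_mem_singleton (range_closedSub (A := A) ▸ ⟨_, rfl⟩)
    haveI : IsAffineHom H₀.hom := MorphismProperty.pullback_snd M.hom q inferInstance
    haveI : IsAffine H₀.left := isAffine_of_isAffineHom H₀.hom
    let eH := H₀.left.isoSpec
    let ψ := Spec.preimage (eH.inv ≫ i ≫ e.hom)
    have hker : ∀ c ∈ FiniteComplete.pw A B 1, ψ.hom c = 0 := by
      intro c hc
      refine (?_ : FiniteComplete.pw A B 1 ≤ RingHom.ker ψ.hom) hc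
      rw [FiniteComplete.pw, pow_one, Ideal.map_le_iff_le_comap]
      intro c hc
      show ψ.hom (algebraMap A B c) = 0
      have h1 : CommRingCat.ofHom (algebraMap A B) ≫ ψ =
          CommRingCat.ofHom (Ideal.Quotient.mk (maximalIdeal A)) ≫ Spec.preimage (eH.inv ≫ pullback.snd M.hom q) := by
        apply Spec.map_injective
        rw [Spec.map_comp, Spec.map_comp, Spec.map_preimage, Spec.map_preimage, hstr, Category.assoc, Category.assoc,
          Iso.hom_inv_id_assoc, Category.assoc]
        exact congrArg (eH.inv ≫ ·) pullback.condition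
      refine (congrArg (fun t => t.hom c) h1).trans ?_
      show (Spec.preimage (eH.inv ≫ pullback.snd M.hom q)).hom (Ideal.Quotient.mk (maximalIdeal A) c) = 0
      rw [Ideal.Quotient.eq_zero_iff_mem.2 hc, map_zero]
    let k : H₀.left ⟶ Spec (CommRingCat.of (B ⧸ FiniteComplete.pw A B 1)) :=
      eH.hom ≫ Spec.map (CommRingCat.ofHom (Ideal.Quotient.lift _ ψ.hom hker))
    have hkr : k ≫ red 1 = i := by
      show (eH.hom ≫ _) ≫ FiniteComplete.red A B 1 ≫ e.inv = i
      rw [Category.assoc, ← Category.assoc (Spec.map _), ← Spec.map_comp]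
      have : CommRingCat.ofHom (Ideal.Quotient.mk (FiniteComplete.pw A B 1)) ≫
          CommRingCat.ofHom (Ideal.Quotient.lift _ ψ.hom hker) = ψ := by
        rw [← CommRingCat.ofHom_comp, Ideal.Quotient.lift_comp_mk]; rfl
      rw [this, Spec.map_preimage, Category.assoc, Category.assoc, Iso.hom_inv_id, Iso.hom_inv_id_assoc,
        Category.comp_id]
    let t : H₀.left ⟶ pullback (red 1 ≫ M.hom) q :=
      pullback.lift k H₀.hom (((Category.assoc _ _ _).symm.trans (congrArg (· ≫ M.hom) hkr)).trans pullback.condition)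
    have ht : t ≫ pn 1 = k := pullback.lift_fst _ _ _
    have htm : t ≫ mn 1 = 𝟙 _ := by
      refine pullback.hom_ext ?_ ?_
      · rw [Category.assoc, show mn 1 ≫ pullback.fst M.hom q = _ from pullback.lift_fst _ _ _, reassoc_of% ht, hkr]
        exact (Category.id_comp _).symm
      · rw [Category.assoc, show mn 1 ≫ pullback.snd M.hom q = _ from pullback.lift_snd _ _ _]
        exact (pullback.lift_snd _ _ _).trans (Category.id_comp _).symm
    have h2 : i ≫ e.hom ≫ f = m := by
      rw [← hkr, Category.assoc, hfred, ← ht, Category.assoc, hlm, reassoc_of% htm]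
    show i ≫ e.hom ≫ f ≫ U.ι ≫ powKerι G N = x₀
    rw [reassoc_of% h2, hm]
  have hu₀ : F.map u = u₀ := by
    refine Over.OverMorphism.ext (pullback.hom_ext ?_ ?_)
    · exact (pullback.lift_fst _ _ _).trans hiu
    · exact (pullback.lift_snd _ _ _).trans (Over.w u₀).symm
  have hnear : ∀ {X : Over (Spec (CommRingCat.of A))}, (∀ t, X.hom t = closedPoint A) → ∀ (a b : X ⟶ G),
      a ^ N = 1 → b ^ N = 1 → F.map a = F.map b → (∀ y, ∃ z, a.left y = x₀ z) → a = b := by
    intro X hX a b ha hb hab hy
    haveI := surjective_fst_closedSub X.hom hX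
    refine eq_of_killed a b (pullback.fst X.hom q) (fst_comp_left _ _ hab) (fun y => ?_) fun y =>
      ⟨⊤, N, trivial, fun t _ => hN t, ?_, ?_⟩
    · obtain ⟨z, hz⟩ := hy y
      rw [hz]; exact hgood z
    · show (_ ≫ a) ^ N = 1
      rw [← MonObj.comp_pow, ha, MonObj.comp_one]
    · show (_ ≫ b) ^ N = 1
      rw [← MonObj.comp_pow, hb, MonObj.comp_one]
  have hpts : ∀ {X : Over (Spec (CommRingCat.of A))}, (∀ t, X.hom t = closedPoint A) → ∀ (x : X ⟶ M) (y : X.left),
      ∃ z, (x ≫ u).left y = x₀ z := by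
    intro X hX x y
    haveI := surjective_fst_closedSub X.hom hX
    obtain ⟨w, rfl⟩ := (pullback.fst X.hom q).surjective y
    refine ⟨(F.map x).left w, ?_⟩
    rw [← hiu, ← Scheme.Hom.comp_apply, ← Scheme.Hom.comp_apply, Over.comp_left, ← Category.assoc, ← Category.assoc]
    have h : (F.map x).left ≫ i = pullback.fst X.hom q ≫ x.left := pullback.lift_fst _ _ _
    rw [h]
  have hcomm : ∀ {X : Over (Spec (CommRingCat.of A))}, (∀ t, X.hom t = closedPoint A) → ∀ (x : X ⟶ M) (g : X ⟶ G),
      Commute (x ≫ u) g := by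
    intro X hX x g
    have hxN : ∀ (x : X ⟶ M), (x ≫ u) ^ N = 1 := fun x => by rw [← MonObj.comp_pow, huN, MonObj.comp_one]
    have h : x ≫ u = g * (x ≫ u) * g⁻¹ := by
      refine hnear hX _ _ (hxN x) (by rw [conj_pow, hxN, _root_.mul_one, mul_inv_cancel]) ?_ (hpts hX x)
      show F.homMonoidHom (x ≫ u) = F.homMonoidHom (g * (x ≫ u) * g⁻¹)
      rw [map_mul, map_mul, map_inv]
      have e1 : F.homMonoidHom (x ≫ u) = F.map x ≫ u₀ := by
        show F.map (x ≫ u) = _
        rw [F.map_comp, hu₀]
      rw [e1, ← hc₀ _ (F.map x) (F.homMonoidHom g), mul_inv_cancel_right]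
    exact eq_mul_inv_iff_mul_eq.1 h
  have hmul : (fst M M * snd M M) ≫ u = (fst M M ≫ u) * (snd M M ≫ u) := by
    haveI : IsFinite (M ⊗ M).hom := by
      show IsFinite (pullback.fst M.hom M.hom ≫ M.hom)
      infer_instance
    refine Over.OverMorphism.ext (ext_of_near _ _ fun T k hk => ?_)
    let X : Over (Spec (CommRingCat.of A)) := Over.mk (k ≫ (M ⊗ M).hom)
    let kk : X ⟶ M ⊗ M := Over.homMk k rfl
    suffices h : kk ≫ (fst M M * snd M M) ≫ u = kk ≫ ((fst M M ≫ u) * (snd M M ≫ u)) from
      congrArg CommaMorphism.left h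
    rw [MonObj.comp_mul, ← Category.assoc, MonObj.comp_mul]
    refine hnear (X := X) hk _ _ (by rw [← MonObj.comp_pow, huN, MonObj.comp_one]) ?_ ?_ (hpts (X := X) hk _)
    · rw [← Category.assoc, ← Category.assoc, (hcomm (X := X) hk _ _).mul_pow, ← MonObj.comp_pow,
        ← MonObj.comp_pow, huN, MonObj.comp_one, MonObj.comp_one, _root_.one_mul]
    · rw [← Category.assoc, ← Category.assoc]
      show F.map ((kk ≫ fst M M * kk ≫ snd M M) ≫ u) =
        F.homMonoidHom (((kk ≫ fst M M) ≫ u) * ((kk ≫ snd M M) ≫ u))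
      rw [map_mul, F.map_comp, hu₀]
      show F.homMonoidHom (kk ≫ fst M M * kk ≫ snd M M) ≫ u₀ =
        F.map ((kk ≫ fst M M) ≫ u) * F.map ((kk ≫ snd M M) ≫ u)
      rw [map_mul, MonObj.mul_comp, F.map_comp (kk ≫ fst M M) u, F.map_comp (kk ≫ snd M M) u, hu₀]
      rfl
  haveI hmon : IsMonHom u := BCPoints.isMonHom_of_mul u fun X x y => by
    have h := congrArg (lift x y ≫ ·) hmul
    simp only [MonObj.comp_mul, ← Category.assoc, lift_fst, lift_snd] at h
    exact h
  refine ⟨u, hmon, hu₀, fun u' hu' hu'₀ => Over.OverMorphism.ext (ext_of_near _ _ fun T k hk => ?_)⟩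
  haveI := hu'
  let X : Over (Spec (CommRingCat.of A)) := Over.mk (k ≫ M.hom)
  let kk : X ⟶ M := Over.homMk k rfl
  suffices h : kk ≫ u = kk ≫ u' from (congrArg CommaMorphism.left h).symm
  have hu'N : u' ^ N = 1 := by
    rw [← Category.id_comp u', ← MonObj.pow_comp, hpow, MonObj.one_comp]
  exact hnear (X := X) hk _ _ (by rw [← MonObj.comp_pow, huN, MonObj.comp_one])
    (by rw [← MonObj.comp_pow, hu'N, MonObj.comp_one]) (by rw [F.map_comp, F.map_comp, hu₀, hu'₀]) (hpts (X := X) hk kk)

end Central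

end Groth.Agent.SGA3Power26
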