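import Groth.Agent.SGA3Power26.AvgHom
import Groth.Agent.S1488
import Mathlib.RingTheory.Ideal.Quotient.Nilpotent

/-!
# Homomorphisms into smooth groups lift along nilpotent ideals
-/

set_option autoImplicit false
set_option linter.style.haveILetI false
set_option linter.unusedSectionVars false
set_option backward.isDefEq.respectTransparency.types false
universe u

open CategoryTheory MonoidalCategory CartesianMonoidalCategory MonObj AlgebraicGeometry CoactBr
open scoped TensorProduct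
open Groth.Agent.HopfLib.SpPoints

noncomputable section

namespace Groth.Agent.SGA3Power26.AvgPoints

/-- Morphisms into smooth schemes lift along surjections with nilpotent kernel. -/
theorem exists_lift_nil {X S : Scheme.{u}} (f : X ⟶ S) [Smooth f] {E : Type u} [CommRing E] (N : Ideal E)
    (hN : IsNilpotent N) :
    ∀ (D : Type u) [CommRing D] (π : E →+* D), Function.Surjective π → RingHom.ker π = N →
      ∀ (a : Spec (CommRingCat.of D) ⟶ X) (b : Spec (CommRingCat.of E) ⟶ S),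
        Spec.map (CommRingCat.ofHom π) ≫ b = a ≫ f →
        ∃ l : Spec (CommRingCat.of E) ⟶ X, Spec.map (CommRingCat.ofHom π) ≫ l = a ∧ l ≫ f = b := by
  revert N
  suffices H : ∀ (E : Type u) [CommRing E] (N : Ideal E), IsNilpotent N →
      ∀ (D : Type u) [CommRing D] (π : E →+* D), Function.Surjective π → RingHom.ker π = N →
      ∀ (a : Spec (CommRingCat.of D) ⟶ X) (b : Spec (CommRingCat.of E) ⟶ S),
        Spec.map (CommRingCat.ofHom π) ≫ b = a ≫ f →
        ∃ l : Spec (CommRingCat.of E) ⟶ X, Spec.map (CommRingCat.ofHom π) ≫ l = a ∧ l ≫ f = b from H E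
  intro E _ N hN
  refine Ideal.IsNilpotent.induction_on (S := E) N hN (P := fun ⦃E⦄ _ N =>
    ∀ (D : Type u) [CommRing D] (π : E →+* D), Function.Surjective π → RingHom.ker π = N →
      ∀ (a : Spec (CommRingCat.of D) ⟶ X) (b : Spec (CommRingCat.of E) ⟶ S),
        Spec.map (CommRingCat.ofHom π) ≫ b = a ≫ f →
        ∃ l : Spec (CommRingCat.of E) ⟶ X, Spec.map (CommRingCat.ofHom π) ≫ l = a ∧ l ≫ f = b) ?_ ?_
  · intro E _ N hN2 D _ π hπ hker a b hab
    subst hker
    let e : (E ⧸ RingHom.ker π) ≃+* D := RingHom.quotientKerEquivOfSurjective hπ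
    have he : (e : (E ⧸ RingHom.ker π) →+* D).comp (Ideal.Quotient.mk _) = π := RingHom.ext fun _ => rfl
    let i : CommRingCat.of (E ⧸ RingHom.ker π) ≅ CommRingCat.of D := e.toCommRingCatIso
    have hi : CommRingCat.ofHom (Ideal.Quotient.mk (RingHom.ker π)) ≫ i.hom = CommRingCat.ofHom π :=
      CommRingCat.hom_ext he
    obtain ⟨l, hl, hl'⟩ := ((S1488.result f).1 inferInstance).2 E (RingHom.ker π) hN2 (Spec.map i.inv ≫ a) b (by
      rw [Category.assoc, ← hab, ← hi, Spec.map_comp, Category.assoc, ← Spec.map_comp_assoc, Iso.hom_inv_id,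
        Spec.map_id, Category.id_comp])
    refine ⟨l, ?_, hl'⟩
    rw [← hi, Spec.map_comp, Category.assoc, hl, ← Spec.map_comp_assoc, Iso.inv_hom_id, Spec.map_id,
      Category.id_comp]
  · intro E _ I J hIJ h1 h2 D _ π hπ hker a b hab
    let π' : E ⧸ I →+* D := Ideal.Quotient.lift I π fun x hx => by
      rw [← RingHom.mem_ker, hker]; exact hIJ hx
    have hπ' : π'.comp (Ideal.Quotient.mk I) = π := Ideal.Quotient.lift_comp_mk _ _ _
    have hker' : RingHom.ker π' = J.map (Ideal.Quotient.mk I) := by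
      rw [Ideal.ker_quotient_lift, hker]
    obtain ⟨l₁, hl₁, hl₁'⟩ := h2 D π' (Ideal.Quotient.lift_surjective_of_surjective _ _ hπ) hker' a
      (Spec.map (CommRingCat.ofHom (Ideal.Quotient.mk I)) ≫ b) (by
        rw [← Category.assoc, ← Spec.map_comp, ← CommRingCat.ofHom_comp, hπ', hab])
    obtain ⟨l, hl, hl'⟩ := h1 (E ⧸ I) (Ideal.Quotient.mk I) Ideal.Quotient.mk_surjective Ideal.mk_ker l₁ b hl₁'.symm
    refine ⟨l, ?_, hl'⟩
    rw [← hπ', CommRingCat.ofHom_comp, Spec.map_comp, Category.assoc, hl, hl₁]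

variable {R : Type u} [CommRing R] {B : Type u} [CommRing B] [HopfAlgebra R B]
variable (P : B →ₗ[R] R) (hP : P 1 = 1)
variable (hPinv : ∀ b : B, avgLin P B (Bialgebra.comulAlgHom R B b) = algebraMap R B (P b))
variable {G : Over (Spec (CommRingCat.of R))} [GrpObj G]

/-- multiplicative at the points killed by an ideal -/
def MulMod (I : Ideal R) (w : sp R B ⟶ G) : Prop :=
  ∀ (D : Type u) [CommRing D] [Algebra R D], I ≤ RingHom.ker (algebraMap R D) →
    ∀ x y : sp R D ⟶ sp R B, (x * y) ≫ w = (x ≫ w) * (y ≫ w)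

theorem eq_one_of_cong {I : Ideal R} {D : Type u} [CommRing D] [Algebra R D]
    (hD : I ≤ RingHom.ker (algebraMap R D)) {g : sp R D ⟶ G} (hg : Cong I g) : g = 1 := by
  have hbot : JJ I D = ⊥ := le_bot_iff.1 (Ideal.map_le_iff_le_comap.2 fun r hr => by
    simpa [Ideal.mem_comap, Ideal.mem_bot] using hD hr)
  let e : (D ⧸ JJ I D) →ₐ[R] D := Ideal.Quotient.liftₐ _ (AlgHom.id R D) fun a ha => by
    rw [hbot, Ideal.mem_bot] at ha; exact ha
  have := congrArg (pt e ≫ ·) hg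
  simp only [← Category.assoc, ← pt_comp, MonObj.comp_one] at this
  rwa [show e.comp (Ideal.Quotient.mkₐ R (JJ I D)) = AlgHom.id R D from AlgHom.ext fun _ => rfl, pt_id,
    Category.id_comp] at this

set_option maxHeartbeats 1000000 in
include hP hPinv in
/-- One correction step, given liftings from the square of the ideal. -/
theorem exists_step_of_lift (I : Ideal R)
    (hlift : ∀ a : sp R (B ⧸ JJ (I ^ 2) B) ⟶ G, ∃ l : sp R B ⟶ G, pt (Ideal.Quotient.mkₐ R (JJ (I ^ 2) B)) ≫ l = a)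
    (w : sp R B ⟶ G) (hw : MulMod I w) :
    ∃ u : sp R B ⟶ G, MulMod (I ^ 2) u ∧ ∀ (D : Type u) [CommRing D] [Algebra R D],
      I ≤ RingHom.ker (algebraMap R D) → ∀ x : sp R D ⟶ sp R B, x ≫ u = x ≫ w := by
  have hsq : ∀ (D : Type u) [CommRing D] [Algebra R D], I ^ 2 ≤ RingHom.ker (algebraMap R D) → SqZero I D :=
    fun D _ _ h => ⟨by
      rw [← Ideal.map_mul, ← pow_two]
      exact (Ideal.map_eq_bot_iff_le_ker _).2 h⟩
  let A₀ : Type u := B ⧸ JJ (I ^ 2) B
  let mk₀ : B →ₐ[R] A₀ := Ideal.Quotient.mkₐ R (JJ (I ^ 2) B)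
  haveI : SqZero I A₀ := hsq A₀ fun r hr => by
    show algebraMap R (B ⧸ JJ (I ^ 2) B) r = 0
    rw [← Ideal.Quotient.mk_algebraMap, Ideal.Quotient.eq_zero_iff_mem]
    exact Ideal.mem_map_of_mem _ hr
  obtain ⟨g, hg, hgd⟩ := exists_correction I P hP w hw hPinv (pt mk₀)
  let u₀ : sp R A₀ ⟶ G := g⁻¹ * (pt mk₀ ≫ w)
  obtain ⟨u, hu⟩ := hlift u₀
  have key : ∀ (D : Type u) [CommRing D] [Algebra R D] [SqZero I D],
      I ^ 2 ≤ RingHom.ker (algebraMap R D) → ∀ x : sp R D ⟶ sp R B,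
      ∃ gx, Cong I gx ∧ Avgd I P hP w x gx ∧ x ≫ u = gx⁻¹ * (x ≫ w) := by
    intro D _ _ _ hD x
    let χ : A₀ →ₐ[R] D := Ideal.Quotient.liftₐ _ (algOf x) fun b hb => by
      have h0 := mem_JJ_map (I ^ 2) (algOf x) hb
      rwa [show JJ (I ^ 2) D = ⊥ from (Ideal.map_eq_bot_iff_le_ker _).2 hD, Ideal.mem_bot] at h0
    have hx : pt χ ≫ pt mk₀ = x := by
      rw [← pt_comp, show χ.comp mk₀ = algOf x from AlgHom.ext fun _ => rfl, pt_algOf]
    have h1 := Avgd.map I P hP w hgd χ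
    rw [hx] at h1
    refine ⟨pt χ ≫ g, IsAvg.cong I P hP h1, h1, ?_⟩
    rw [← hx, Category.assoc, hu]
    simp only [u₀, MonObj.comp_mul, GrpObj.comp_inv, Category.assoc]
  refine ⟨u, fun D _ _ hD x y => ?_, fun D _ _ hD x => ?_⟩
  · haveI := hsq D hD
    obtain ⟨gx, -, hgx, ex⟩ := key D hD x
    obtain ⟨gy, -, hgy, ey⟩ := key D hD y
    obtain ⟨gxy, -, hgxy, exy⟩ := key D hD (x * y)
    rw [ex, ey, exy]
    exact Avgd.corrected_mul I P hP w hw hPinv hgx hgy hgxy
  · have hD' : I ^ 2 ≤ RingHom.ker (algebraMap R D) := (Ideal.pow_le_self two_ne_zero).trans hD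
    haveI := hsq D hD'
    obtain ⟨gx, hgx, -, ex⟩ := key D hD' x
    rw [ex, eq_one_of_cong hD hgx, inv_one, _root_.one_mul]

include hP hPinv in
theorem exists_step [Smooth G.hom] (I : Ideal R) (hI : IsNilpotent I) (w : sp R B ⟶ G) (hw : MulMod I w) :
    ∃ u : sp R B ⟶ G, MulMod (I ^ 2) u ∧ ∀ (D : Type u) [CommRing D] [Algebra R D],
      I ≤ RingHom.ker (algebraMap R D) → ∀ x : sp R D ⟶ sp R B, x ≫ u = x ≫ w := by
  refine exists_step_of_lift P hP hPinv I (fun a => ?_) w hw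
  obtain ⟨l, hl, hl'⟩ := exists_lift_nil G.hom (JJ (I ^ 2) B)
    (by obtain ⟨n, hn⟩ := hI
        exact ⟨n, by rw [← Ideal.map_pow, ← pow_mul, mul_comm 2 n, pow_mul, hn,
          zero_pow two_ne_zero, Ideal.zero_eq_bot, Ideal.map_bot]; rfl⟩)
    (B ⧸ JJ (I ^ 2) B) (Ideal.Quotient.mkₐ R (JJ (I ^ 2) B)).toRingHom Ideal.Quotient.mk_surjective
    (Ideal.Quotient.mkₐ_ker R _) a.left (Spec.map (CommRingCat.ofHom (algebraMap R B)))
    ((Over.w (pt (Ideal.Quotient.mkₐ R (JJ (I ^ 2) B)))).trans (Over.w a).symm)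
  exact ⟨Over.homMk l hl', Over.OverMorphism.ext hl⟩

set_option maxHeartbeats 1000000 in
include hP hPinv in
/-- A morphism multiplicative modulo a nilpotent ideal is congruent to a homomorphism. -/
theorem exists_hom_nil [Smooth G.hom] (J : Ideal R) (hJ : IsNilpotent J) (w : sp R B ⟶ G) (hw : MulMod J w) :
    ∃ u : sp R B ⟶ G, IsMonHom u ∧ ∀ (D : Type u) [CommRing D] [Algebra R D],
      J ≤ RingHom.ker (algebraMap R D) → ∀ x : sp R D ⟶ sp R B, x ≫ u = x ≫ w := by
  have hk : ∀ k : ℕ, ∃ u : sp R B ⟶ G, MulMod (J ^ 2 ^ k) u ∧ ∀ (D : Type u) [CommRing D] [Algebra R D],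
      J ≤ RingHom.ker (algebraMap R D) → ∀ x : sp R D ⟶ sp R B, x ≫ u = x ≫ w := by
    intro k
    induction k with
    | zero => exact ⟨w, by rwa [pow_zero, pow_one], fun _ _ _ _ _ => rfl⟩
    | succ k ih =>
      obtain ⟨u₁, h1, h1'⟩ := ih
      obtain ⟨u, h, h'⟩ := exists_step P hP hPinv (J ^ 2 ^ k)
        (by obtain ⟨n, hn⟩ := hJ; exact ⟨n, by rw [← pow_mul, mul_comm, pow_mul, hn,
          zero_pow (Nat.two_pow_pos k).ne']⟩) u₁ h1
      refine ⟨u, by rwa [pow_succ, pow_mul], fun D _ _ hD x => ?_⟩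
      rw [h' D ((Ideal.pow_le_self (Nat.two_pow_pos k).ne').trans hD) x, h1' D hD x]
  obtain ⟨n, hn⟩ := hJ
  obtain ⟨u, hu, hu'⟩ := hk n
  have h0 : J ^ 2 ^ n = ⊥ := le_bot_iff.1 ((Ideal.pow_le_pow_right Nat.lt_two_pow_self.le).trans (le_of_eq hn))
  refine ⟨u, SGA3cLib.BCPoints.isMonHom_of_mul u fun Y x y => ?_, hu'⟩
  have hmul : ∀ (A : Type u) [CommRing A] [Algebra R A] (x y : sp R A ⟶ sp R B),
      (x * y) ≫ u = (x ≫ u) * (y ≫ u) := fun A _ _ => hu A (by rw [h0]; exact bot_le)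
  have h1 : (fst (sp R B) (sp R B) * snd (sp R B) (sp R B)) ≫ u =
      (fst (sp R B) (sp R B) ≫ u) * (snd (sp R B) (sp R B) ≫ u) := by
    haveI := Misc15.AffinePoints.isIso_Q (R := R) B B
    rw [← cancel_epi (Misc15.AffinePoints.Q (R := R) B B), ← Category.assoc, MonObj.comp_mul, hmul,
      MonObj.comp_mul, Category.assoc, Category.assoc]
  have h2 := congrArg (lift x y ≫ ·) h1
  simp only [← Category.assoc, MonObj.comp_mul, lift_fst, lift_snd] at h2
  exact h2

end Groth.Agent.SGA3Power26.AvgPoints
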