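import Groth.Agent.SGA3Power26.AvgPoints
import Groth.Agent.SGA3cLib.BCPoints

/-!
# A morphism multiplicative modulo a square-zero ideal corrects to a homomorphism

The source is an affine group with an invariant integral; the target is any group scheme.
-/

set_option autoImplicit false
set_option linter.style.haveILetI false
set_option linter.unusedSectionVars false
set_option backward.isDefEq.respectTransparency.types false
universe u

open CategoryTheory MonoidalCategory CartesianMonoidalCategory MonObj AlgebraicGeometry CoactBr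
open scoped TensorProduct
open Groth.Agent.HopfLib.SpPoints

noncomputable section

namespace Groth.Agent.SGA3Power26.AvgPoints

variable {R : Type u} [CommRing R] (J : Ideal R) {B : Type u} [CommRing B] [HopfAlgebra R B]
variable (P : B →ₗ[R] R) (hP : P 1 = 1)
variable {G : Over (Spec (CommRingCat.of R))} [GrpObj G] (w : sp R B ⟶ G)

/-- the defect of multiplicativity -/
def defect {X : Over (Spec (CommRingCat.of R))} (x y : X ⟶ sp R B) : X ⟶ G := (x ≫ w) * (y ≫ w) * ((x * y) ≫ w)⁻¹

theorem comp_defect {X Y : Over (Spec (CommRingCat.of R))} (f : Y ⟶ X) (x y : X ⟶ sp R B) :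
    f ≫ defect w x y = defect w (f ≫ x) (f ≫ y) := by
  simp only [defect, MonObj.comp_mul, GrpObj.comp_inv, ← Category.assoc]

/-- a constant point -/
abbrev cst {A : Type u} [CommRing A] [Algebra R A] (x : sp R A ⟶ sp R B) : sp R (A ⊗[R] B) ⟶ sp R B :=
  pt Algebra.TensorProduct.includeLeft ≫ x

/-- the variable point -/
abbrev var (A : Type u) [CommRing A] [Algebra R A] : sp R (A ⊗[R] B) ⟶ sp R B :=
  pt Algebra.TensorProduct.includeRight

/-- `x` has defect average `g` -/
def Avgd {A : Type u} [CommRing A] [Algebra R A] [SqZero J A] (x : sp R A ⟶ sp R B) (g : sp R A ⟶ G) : Prop :=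
  IsAvg J P hP (defect w (cst x) (var A)) g

variable (hw : ∀ (D : Type u) [CommRing D] [Algebra R D], J ≤ RingHom.ker (algebraMap R D) →
  ∀ x y : sp R D ⟶ sp R B, (x * y) ≫ w = (x ≫ w) * (y ≫ w))

include hw in
theorem cong_defect {E : Type u} [CommRing E] [Algebra R E] (x y : sp R E ⟶ sp R B) : Cong J (defect w x y) := by
  show _ ≫ _ = _
  rw [comp_defect]
  simp only [defect]
  rw [hw (E ⧸ JJ J E) (fun r hr => ?_) _ _]
  · exact mul_inv_cancel _
  · rw [RingHom.mem_ker, ← Ideal.Quotient.mk_algebraMap, Ideal.Quotient.eq_zero_iff_mem]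
    exact Ideal.mem_map_of_mem _ hr

include hw in
theorem exists_avgd {A : Type u} [CommRing A] [Algebra R A] [SqZero J A] (x : sp R A ⟶ sp R B) :
    ∃ g, Avgd J P hP w x g :=
  exists_isAvg J P hP _ (cong_defect J w hw _ _)

theorem Avgd.map {A A' : Type u} [CommRing A] [Algebra R A] [SqZero J A] [CommRing A'] [Algebra R A'] [SqZero J A'] {x : sp R A ⟶ sp R B}
    {g : sp R A ⟶ G} (h : Avgd J P hP w x g) (v : A →ₐ[R] A') : Avgd J P hP w (pt v ≫ x) (pt v ≫ g) := by
  let T : A ⊗[R] B →ₐ[R] A' ⊗[R] B := Algebra.TensorProduct.map v (AlgHom.id R B)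
  have h1 := IsAvg.map J P hP h v T (fun a => by simp [T]) (fun e => by
    induction e using TensorProduct.induction_on with
    | zero => simp
    | tmul a b => simp [T]
    | add a b ha hb => simp only [map_add, ha, hb])
  rw [comp_defect] at h1
  have e1 : pt T ≫ cst x = cst (pt v ≫ x) := by
    show pt T ≫ pt Algebra.TensorProduct.includeLeft ≫ x = pt Algebra.TensorProduct.includeLeft ≫ pt v ≫ x
    rw [← Category.assoc, ← pt_comp, ← Category.assoc, ← pt_comp]
    congr 2
  have e2 : pt T ≫ var A = var (B := B) A' := by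
    rw [← pt_comp]
    congr 1
    exact AlgHom.ext fun a => by simp [T]
  rwa [e1, e2] at h1

variable (hPinv : ∀ b : B, avgLin P B (Bialgebra.comulAlgHom R B b) = algebraMap R B (P b))

set_option maxHeartbeats 2000000 in
include hPinv in
/-- Averages are invariant under translation of the variable. -/
theorem Avgd.translate {A : Type u} [CommRing A] [Algebra R A] [SqZero J A] {x : sp R A ⟶ sp R B} {g : sp R A ⟶ G}
    (h : Avgd J P hP w x g) (y : sp R A ⟶ sp R B) :
    IsAvg J P hP (defect w (cst x) (cst y * var A)) g := by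
  obtain ⟨χ, hχ⟩ : ∃ χ : B →ₐ[R] A, pt χ = y := ⟨algOf y, pt_algOf y⟩
  obtain ⟨φ, hφdef⟩ : ∃ φ : B →ₐ[R] A ⊗[R] B, φ = (Algebra.TensorProduct.lift
    ((Algebra.TensorProduct.includeLeft : A →ₐ[R] A ⊗[R] B).comp χ) Algebra.TensorProduct.includeRight
      fun _ _ => .all _ _).comp (Bialgebra.comulAlgHom R B) := ⟨_, rfl⟩
  have hφ : pt φ = cst y * var A := by
    rw [hφdef, ← pt_mul_pt, pt_comp, hχ]
  have hsum : ∀ z : B ⊗[R] B, avgLin P A (Algebra.TensorProduct.lift
      ((Algebra.TensorProduct.includeLeft : A →ₐ[R] A ⊗[R] B).comp χ) Algebra.TensorProduct.includeRight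
        (fun _ _ => .all _ _) z) = χ (avgLin P B z) := fun z => by
    induction z using TensorProduct.induction_on with
    | zero => simp
    | tmul a b => simp
    | add a b ha hb => simp only [map_add, ha, hb]
  let T : A ⊗[R] B →ₐ[R] A ⊗[R] B := Algebra.TensorProduct.lift Algebra.TensorProduct.includeLeft φ fun _ _ => .all _ _
  have h1 := IsAvg.map J P hP h (AlgHom.id R A) T (fun a => by simp [T]) (fun e => by
    induction e using TensorProduct.induction_on with
    | zero => simp
    | tmul a b =>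
      simp only [T, Algebra.TensorProduct.lift_tmul, Algebra.TensorProduct.includeLeft_apply]
      rw [avgLin_mul, hφdef, AlgHom.comp_apply, hsum,
        hPinv, AlgHom.commutes, avgLin_tmul, AlgHom.id_apply, Algebra.smul_def, _root_.mul_comm]
    | add a b ha hb => simp only [map_add, ha, hb])
  rw [pt_id, Category.id_comp, comp_defect] at h1
  have e1 : pt T ≫ cst x = cst x := by
    rw [← Category.assoc, ← pt_comp, Algebra.TensorProduct.lift_comp_includeLeft]
  have e2 : pt T ≫ var A = cst y * var A := by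
    rw [← hφ, ← pt_comp]
    congr 1
    exact AlgHom.ext fun b => by simp [T]
  rwa [e1, e2] at h1

set_option maxHeartbeats 2000000 in
include hw hPinv in
/-- The averages form a cocycle. -/
theorem Avgd.corrected_mul {A : Type u} [CommRing A] [Algebra R A] [SqZero J A] {x y : sp R A ⟶ sp R B} {gx gy gxy : sp R A ⟶ G}
    (hx : Avgd J P hP w x gx) (hy : Avgd J P hP w y gy) (hxy : Avgd J P hP w (x * y) gxy) :
    gxy⁻¹ * ((x * y) ≫ w) = gx⁻¹ * (x ≫ w) * (gy⁻¹ * (y ≫ w)) := by
  have hl := IsAvg.mul J P hP (IsAvg.const J P hP (defect w x y) (cong_defect J w hw x y)) hxy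
  have hr := IsAvg.mul J P hP (IsAvg.conj J P hP hy (x ≫ w)) (Avgd.translate J P hP w hPinv hx y)
  have e : pt (Algebra.TensorProduct.includeLeft : A →ₐ[R] A ⊗[R] B) ≫ defect w x y *
      1 = defect w (cst x) (cst y) := by
    rw [_root_.mul_one, comp_defect]
  rw [_root_.mul_one] at e
  rw [e] at hl
  have hprod : defect w (cst x) (cst y) * defect w (cst (x * y)) (var A) =
      (pt Algebra.TensorProduct.includeLeft ≫ x ≫ w) * defect w (cst y) (var A) *
        (pt Algebra.TensorProduct.includeLeft ≫ x ≫ w)⁻¹ * defect w (cst x) (cst y * var A) := by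
    simp only [defect, cst, MonObj.comp_mul, Category.assoc, _root_.mul_assoc]
    group
  rw [hprod] at hl
  have key := IsAvg.unique J P hP hl hr
  simp only [defect] at key
  have h2 : (x ≫ w) * gy⁻¹ * (x ≫ w)⁻¹ =
      gx * gxy⁻¹ * ((x ≫ w) * (y ≫ w) * ((x * y) ≫ w)⁻¹)⁻¹ := by
    have := congrArg (fun t => gx * t⁻¹) key
    simpa [_root_.mul_assoc] using this.symm
  calc gxy⁻¹ * ((x * y) ≫ w) = gx⁻¹ * (gx * gxy⁻¹ * ((x ≫ w) * (y ≫ w) * ((x * y) ≫ w)⁻¹)⁻¹) * ((x ≫ w) * (y ≫ w)) := by
        group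
    _ = gx⁻¹ * (x ≫ w) * (gy⁻¹ * (y ≫ w)) := by rw [← h2]; group

include hP hw hPinv in
/-- A morphism multiplicative modulo `J` corrects to one multiplicative at the points where `J` has square zero. -/
theorem exists_correction {A₀ : Type u} [CommRing A₀] [Algebra R A₀] [SqZero J A₀] (x₀ : sp R A₀ ⟶ sp R B) :
    ∃ g : sp R A₀ ⟶ G, Cong J g ∧ Avgd J P hP w x₀ g := by
  obtain ⟨g, hg⟩ := exists_avgd J P hP w hw x₀
  exact ⟨g, IsAvg.cong J P hP hg, hg⟩

end Groth.Agent.SGA3Power26.AvgPoints
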