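import Groth.Agent.HopfLib.SpPoints
import Groth.Agent.KerEval.Ferrand
import Mathlib.RingTheory.TensorProduct.Maps
import Mathlib.RingTheory.Ideal.Quotient.Operations

/-!
# Averaging points congruent to the unit

For a linear retraction `π : E → A` of an `A`-algebra and an ideal `J` of square zero, a point of a group over
`E` congruent to the unit modulo `J` has an average over `A`.
-/

set_option autoImplicit false
set_option linter.style.haveILetI false
set_option linter.unusedSectionVars false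
set_option backward.isDefEq.respectTransparency.types false
universe u

open CategoryTheory MonoidalCategory CartesianMonoidalCategory MonObj AlgebraicGeometry CoactBr
open scoped TensorProduct

noncomputable section

namespace Groth.Agent.SGA3Power26.AvgPoints

variable {R : Type u} [CommRing R] (J : Ideal R)
variable {A : Type u} [CommRing A] [Algebra R A] {B : Type u} [CommRing B] [Algebra R B] (P : B →ₗ[R] R)

/-- integration over the second factor -/
def avgLin (A : Type u) [CommRing A] [Algebra R A] : A ⊗[R] B →ₗ[R] A :=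
  (TensorProduct.rid R A).toLinearMap ∘ₗ LinearMap.lTensor A P

@[simp] theorem avgLin_tmul (a : A) (b : B) : avgLin P A (a ⊗ₜ[R] b) = P b • a := by simp [avgLin]

theorem avgLin_mul (a : A) (y : A ⊗[R] B) : avgLin P A ((a ⊗ₜ[R] (1 : B)) * y) = a * avgLin P A y := by
  induction y using TensorProduct.induction_on with
  | zero => simp
  | tmul x b => rw [Algebra.TensorProduct.tmul_mul_tmul, avgLin_tmul, avgLin_tmul, _root_.one_mul, mul_smul_comm]
  | add x y hx hy => rw [mul_add, map_add, map_add, hx, hy, mul_add]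

/-- the ideal generated by `J` -/
abbrev JJ (E : Type u) [CommRing E] [Algebra R E] : Ideal E := J.map (algebraMap R E)

theorem mem_JJ_map {E E' : Type u} [CommRing E] [Algebra R E] [CommRing E'] [Algebra R E'] (φ : E →ₐ[R] E')
    {e : E} (he : e ∈ JJ J E) : φ e ∈ JJ J E' := by
  have h := Ideal.mem_map_of_mem φ.toRingHom he
  rwa [Ideal.map_map, AlgHom.toRingHom_eq_coe, AlgHom.comp_algebraMap] at h

theorem mem_JJ_linear {E E' : Type u} [CommRing E] [Algebra R E] [CommRing E'] [Algebra R E'] (φ : E →ₗ[R] E')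
    {e : E} (he : e ∈ JJ J E) : φ e ∈ JJ J E' := by
  have he' : e ∈ J • (⊤ : Submodule R E) := by rw [Ideal.smul_top_eq_map]; exact he
  refine Submodule.smul_induction_on he' (fun r hr y _ => ?_) (fun x y hx hy => ?_)
  · rw [map_smul, Algebra.smul_def]
    exact Ideal.mul_mem_right _ _ (Ideal.mem_map_of_mem _ hr)
  · rw [map_add]; exact add_mem hx hy

variable (A B) in
/-- elements congruent to constants -/
def adj : Subalgebra R (A ⊗[R] B) where
  carrier := {e | ∃ a : A, e - a ⊗ₜ[R] (1 : B) ∈ JJ J (A ⊗[R] B)}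
  mul_mem' := fun {e e'} ⟨a, ha⟩ ⟨a', ha'⟩ => ⟨a * a', by
    have : e * e' - (a * a') ⊗ₜ[R] (1 : B) =
        e * (e' - a' ⊗ₜ[R] (1 : B)) + (a' ⊗ₜ[R] (1 : B)) * (e - a ⊗ₜ[R] (1 : B)) := by
      rw [show (a * a') ⊗ₜ[R] (1 : B) = (a ⊗ₜ[R] (1 : B)) * (a' ⊗ₜ[R] (1 : B)) by
        rw [Algebra.TensorProduct.tmul_mul_tmul, _root_.mul_one]]
      ring
    rw [this]
    exact Ideal.add_mem _ (Ideal.mul_mem_left _ _ ha') (Ideal.mul_mem_left _ _ ha)⟩
  add_mem' := fun {e e'} ⟨a, ha⟩ ⟨a', ha'⟩ => ⟨a + a', by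
    rw [TensorProduct.add_tmul, add_sub_add_comm]; exact Ideal.add_mem _ ha ha'⟩
  algebraMap_mem' := fun r => ⟨algebraMap R A r, by simp⟩

instance adjCommRing : CommRing (adj J A B) := (adj J A B).toCommRing

/-- the ideal generated by `J` in `E` has square zero -/
class SqZero (E : Type u) [CommRing E] [Algebra R E] : Prop where
  sq : JJ J E * JJ J E = ⊥

instance sqZero_tensor [h : SqZero J A] : SqZero J (A ⊗[R] B) := ⟨by
  have e : JJ J (A ⊗[R] B) = (JJ J A).map (Algebra.TensorProduct.includeLeft : A →ₐ[R] A ⊗[R] B).toRingHom := by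
    rw [Ideal.map_map, AlgHom.toRingHom_eq_coe, AlgHom.comp_algebraMap]
  rw [e, ← Ideal.map_mul, h.sq, Ideal.map_bot]⟩

variable [SqZero J A] (hP : P 1 = 1)

theorem mul_eq_zero_JJ {E : Type u} [CommRing E] [Algebra R E] [h : SqZero J E] {x y : E} (hx : x ∈ JJ J E)
    (hy : y ∈ JJ J E) : x * y = 0 := by
  have := Ideal.mul_mem_mul hx hy
  rwa [h.sq, Ideal.mem_bot] at this

include hP in
theorem avgLin_left (a : A) : avgLin P A (a ⊗ₜ[R] (1 : B)) = a := by rw [avgLin_tmul, hP, one_smul]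

variable (A) in
/-- the average is multiplicative on elements congruent to constants -/
def avgAlg : adj J A B →ₐ[R] A :=
  AlgHom.ofLinearMap ((avgLin P A).comp (adj J A B).val.toLinearMap)
    (avgLin_left P hP (1 : A)) (by
    rintro ⟨e, a, ha⟩ ⟨e', a', ha'⟩
    show avgLin P A (e * e') = avgLin P A e * avgLin P A e'
    obtain ⟨k, hk, rfl⟩ : ∃ k ∈ JJ J (A ⊗[R] B), e = a ⊗ₜ[R] (1 : B) + k := ⟨_, ha, by ring⟩
    obtain ⟨k', hk', rfl⟩ : ∃ k ∈ JJ J (A ⊗[R] B), e' = a' ⊗ₜ[R] (1 : B) + k := ⟨_, ha', by ring⟩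
    have e1 : (a ⊗ₜ[R] (1 : B) + k) * (a' ⊗ₜ[R] (1 : B) + k') =
        (a * a') ⊗ₜ[R] (1 : B) + (a ⊗ₜ[R] (1 : B)) * k' + (a' ⊗ₜ[R] (1 : B)) * k := by
      rw [show (a * a') ⊗ₜ[R] (1 : B) = (a ⊗ₜ[R] (1 : B)) * (a' ⊗ₜ[R] (1 : B)) by
        rw [Algebra.TensorProduct.tmul_mul_tmul, _root_.mul_one]]
      linear_combination mul_eq_zero_JJ J hk hk'
    rw [e1, map_add, map_add, map_add, map_add, avgLin_mul, avgLin_mul, avgLin_left P hP, avgLin_left P hP,
      avgLin_left P hP]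
    linear_combination -(mul_eq_zero_JJ J (mem_JJ_linear J (avgLin P A) hk) (mem_JJ_linear J (avgLin P A) hk')))

theorem avgAlg_apply (e : adj J A B) : avgAlg J A P hP e = avgLin P A (e : A ⊗[R] B) := rfl

variable (A) in
/-- reduction of an element congruent to a constant -/
def redAlg : adj J A B →ₐ[R] A ⧸ JJ J A := (Ideal.Quotient.mkₐ R (JJ J A)).comp (avgAlg J A P hP)

/-- the inclusion of the constants -/
def iota : A →ₐ[R] adj J A B :=
  Algebra.TensorProduct.includeLeft.codRestrict (adj J A B) fun a => ⟨a, by simp⟩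

theorem avgAlg_comp_iota : (avgAlg J A P hP).comp (iota J) = AlgHom.id R A :=
  AlgHom.ext fun a => avgLin_left P hP a

theorem val_comp_iota : (adj J A B).val.comp (iota J) = Algebra.TensorProduct.includeLeft :=
  AlgHom.ext fun _ => rfl

variable (A) in
/-- the Ferrand square -/
def square : KerEval.Sq (adj J A B) (A ⧸ JJ J A) (A ⊗[R] B) ((A ⊗[R] B) ⧸ JJ J (A ⊗[R] B)) where
  f := (redAlg J A P hP).toRingHom
  g := (adj J A B).val.toRingHom
  q := Ideal.Quotient.lift (JJ J A) ((Ideal.Quotient.mk (JJ J (A ⊗[R] B))).comp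
    (Algebra.TensorProduct.includeLeft : A →ₐ[R] A ⊗[R] B).toRingHom) fun a ha =>
    Ideal.Quotient.eq_zero_iff_mem.2 (mem_JJ_map J (Algebra.TensorProduct.includeLeft : A →ₐ[R] A ⊗[R] B) ha)
  p := Ideal.Quotient.mk _
  surj := Ideal.Quotient.mk_surjective
  comm := by
    rintro ⟨e, a, ha⟩
    show Ideal.Quotient.mk (JJ J (A ⊗[R] B)) ((avgLin P A e) ⊗ₜ[R] (1 : B)) = Ideal.Quotient.mk _ e
    rw [Ideal.Quotient.eq]
    have h1 : avgLin P A e - a ∈ JJ J A := by
      have := mem_JJ_linear J (avgLin P A) ha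
      rwa [map_sub, avgLin_left P hP] at this
    have h2 : (avgLin P A e - a) ⊗ₜ[R] (1 : B) ∈ JJ J (A ⊗[R] B) :=
      mem_JJ_map J (Algebra.TensorProduct.includeLeft : A →ₐ[R] A ⊗[R] B) h1
    rw [TensorProduct.sub_tmul] at h2
    have := sub_mem h2 ha
    rwa [sub_sub_sub_cancel_right] at this
  exist := by
    intro d e h
    obtain ⟨a, rfl⟩ := Ideal.Quotient.mk_surjective d
    have h' : a ⊗ₜ[R] (1 : B) - e ∈ JJ J (A ⊗[R] B) := Ideal.Quotient.eq.1 h
    refine ⟨⟨e, a, by rw [← neg_sub]; exact neg_mem h'⟩, ?_, rfl⟩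
    show Ideal.Quotient.mk (JJ J A) (avgLin P A e) = Ideal.Quotient.mk _ a
    rw [Ideal.Quotient.eq]
    have := mem_JJ_linear J (avgLin P A) h'
    rw [map_sub, avgLin_left P hP] at this
    rw [← neg_sub]; exact neg_mem this
  ext := fun c c' _ h => Subtype.ext h

variable {G : Over (Spec (CommRingCat.of R))} [GrpObj G]

variable (A) in
/-- congruent to the unit modulo `J` -/
def Cong {E : Type u} [CommRing E] [Algebra R E] (x : sp R E ⟶ G) : Prop :=
  pt (Ideal.Quotient.mkₐ R (JJ J E)) ≫ x = 1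

/-- `c` is the average of `x` -/
def IsAvg (x : sp R (A ⊗[R] B) ⟶ G) (c : sp R A ⟶ G) : Prop :=
  ∃ z : sp R (adj J A B) ⟶ G, pt (adj J A B).val ≫ z = x ∧ pt (redAlg J A P hP) ≫ z = 1 ∧
    pt (avgAlg J A P hP) ≫ z = c

theorem pt_left {E F : Type u} [CommRing E] [Algebra R E] [CommRing F] [Algebra R F] (φ : E →ₐ[R] F) :
    (pt φ).left = Spec.map (CommRingCat.ofHom φ.toRingHom) := rfl

include hP in
theorem hom_ext_adj (z z' : sp R (adj J A B) ⟶ G) (h1 : pt (redAlg J A P hP) ≫ z = pt (redAlg J A P hP) ≫ z')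
    (h2 : pt (adj J A B).val ≫ z = pt (adj J A B).val ≫ z') : z = z' :=
  Over.OverMorphism.ext ((square J A P hP).hom_ext z.left z'.left (congrArg CommaMorphism.left h1)
    (congrArg CommaMorphism.left h2))

theorem IsAvg.unique {x : sp R (A ⊗[R] B) ⟶ G} {c c' : sp R A ⟶ G} (h : IsAvg J P hP x c)
    (h' : IsAvg J P hP x c') : c = c' := by
  obtain ⟨z, hz1, hz2, rfl⟩ := h
  obtain ⟨z', hz1', hz2', rfl⟩ := h'
  rw [hom_ext_adj J P hP z z' (hz2.trans hz2'.symm) (hz1.trans hz1'.symm)]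

theorem exists_isAvg (x : sp R (A ⊗[R] B) ⟶ G) (hx : Cong J x) : ∃ c, IsAvg J P hP x c := by
  let qa : (A ⧸ JJ J A) →ₐ[R] (A ⊗[R] B) ⧸ JJ J (A ⊗[R] B) :=
    { (square J A P hP).q with
      commutes' := fun r => by
        show (square J A P hP).q (Ideal.Quotient.mk _ (algebraMap R A r)) = _
        show Ideal.Quotient.mk (JJ J (A ⊗[R] B)) ((algebraMap R A r) ⊗ₜ[R] (1 : B)) = _
        rfl }
  have hq : pt qa ≫ (1 : sp R (A ⧸ JJ J A) ⟶ G) = pt (Ideal.Quotient.mkₐ R (JJ J (A ⊗[R] B))) ≫ x := by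
    rw [MonObj.comp_one]; exact hx.symm
  obtain ⟨m, hm1, hm2⟩ := (square J A P hP).exists_hom (1 : sp R (A ⧸ JJ J A) ⟶ G).left x.left
    (congrArg CommaMorphism.left hq)
  let z : sp R (adj J A B) ⟶ G := Over.homMk m (by
    refine (square J A P hP).hom_ext _ _ ?_ ?_
    · exact ((Category.assoc _ _ _).symm.trans (congrArg (· ≫ G.hom) hm1)).trans
        ((Over.w (1 : sp R (A ⧸ JJ J A) ⟶ G)).trans (Over.w (pt (redAlg J A P hP))).symm)
    · exact ((Category.assoc _ _ _).symm.trans (congrArg (· ≫ G.hom) hm2)).trans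
        ((Over.w x).trans (Over.w (pt (adj J A B).val)).symm))
  exact ⟨_, z, Over.OverMorphism.ext hm2, Over.OverMorphism.ext hm1, rfl⟩

theorem IsAvg.cong {x : sp R (A ⊗[R] B) ⟶ G} {c : sp R A ⟶ G} (h : IsAvg J P hP x c) : Cong J c := by
  obtain ⟨z, -, hz2, rfl⟩ := h
  show _ ≫ _ ≫ z = 1
  rw [← Category.assoc, ← pt_comp]
  exact hz2

theorem IsAvg.mul {x x' : sp R (A ⊗[R] B) ⟶ G} {c c' : sp R A ⟶ G} (h : IsAvg J P hP x c)
    (h' : IsAvg J P hP x' c') : IsAvg J P hP (x * x') (c * c') := by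
  obtain ⟨z, h1, h2, h3⟩ := h
  obtain ⟨z', h1', h2', h3'⟩ := h'
  exact ⟨z * z', by rw [MonObj.comp_mul, h1, h1'], by rw [MonObj.comp_mul, h2, h2', _root_.one_mul],
    by rw [MonObj.comp_mul, h3, h3']⟩

theorem IsAvg.const (y : sp R A ⟶ G) (hy : Cong J y) :
    IsAvg J P hP (pt Algebra.TensorProduct.includeLeft ≫ y) y := by
  refine ⟨pt (iota J) ≫ y, ?_, ?_, ?_⟩
  · rw [← Category.assoc, ← pt_comp, val_comp_iota]
  · rw [← Category.assoc, ← pt_comp, redAlg, AlgHom.comp_assoc, avgAlg_comp_iota, AlgHom.comp_id]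
    exact hy
  · rw [← Category.assoc, ← pt_comp, avgAlg_comp_iota, pt_id, Category.id_comp]

set_option maxHeartbeats 1000000 in
theorem IsAvg.conj {x : sp R (A ⊗[R] B) ⟶ G} {c : sp R A ⟶ G} (h : IsAvg J P hP x c) (y : sp R A ⟶ G) :
    IsAvg J P hP ((pt Algebra.TensorProduct.includeLeft ≫ y) * x * (pt Algebra.TensorProduct.includeLeft ≫ y)⁻¹)
      (y * c * y⁻¹) := by
  obtain ⟨z, h1, h2, h3⟩ := h
  refine ⟨(pt (iota J) ≫ y) * z * (pt (iota J) ≫ y)⁻¹, ?_, ?_, ?_⟩
  · simp only [MonObj.comp_mul, GrpObj.comp_inv, ← Category.assoc, ← pt_comp, val_comp_iota, h1]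
  · simp only [MonObj.comp_mul, GrpObj.comp_inv, h2]
    group
  · simp only [MonObj.comp_mul, GrpObj.comp_inv, ← Category.assoc, ← pt_comp, avgAlg_comp_iota, pt_id,
      Category.id_comp, h3]

set_option maxHeartbeats 1000000 in
/-- Averages commute with maps preserving constants and the integral. -/
theorem IsAvg.map {A' : Type u} [CommRing A'] [Algebra R A'] [SqZero J A'] {x : sp R (A ⊗[R] B) ⟶ G} {c : sp R A ⟶ G}
    (h : IsAvg J P hP x c) (v : A →ₐ[R] A') (T : A ⊗[R] B →ₐ[R] A' ⊗[R] B)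
    (hT : ∀ a : A, T (a ⊗ₜ[R] (1 : B)) = v a ⊗ₜ[R] (1 : B))
    (hTP : ∀ e, avgLin P A' (T e) = v (avgLin P A e)) :
    IsAvg J P hP (pt T ≫ x) (pt v ≫ c) := by
  obtain ⟨z, h1, h2, h3⟩ := h
  let T' : adj J A B →ₐ[R] adj J A' B := (T.comp (adj J A B).val).codRestrict (adj J A' B) fun e => by
    obtain ⟨a, ha⟩ := e.2
    refine ⟨v a, ?_⟩
    show T (e : A ⊗[R] B) - _ ∈ _
    rw [← hT, ← map_sub]
    exact mem_JJ_map J T ha
  have hv : (adj J A' B).val.comp T' = T.comp (adj J A B).val := AlgHom.ext fun _ => rfl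
  have ha : (avgAlg J A' P hP).comp T' = v.comp (avgAlg J A P hP) := AlgHom.ext fun e => hTP _
  let vb : (A ⧸ JJ J A) →ₐ[R] A' ⧸ JJ J A' := Ideal.Quotient.liftₐ _ ((Ideal.Quotient.mkₐ R _).comp v) fun a ha =>
    Ideal.Quotient.eq_zero_iff_mem.2 (mem_JJ_map J v ha)
  have hr : (redAlg J A' P hP).comp T' = vb.comp (redAlg J A P hP) := by
    rw [redAlg, AlgHom.comp_assoc, ha]
    exact AlgHom.ext fun _ => rfl
  refine ⟨pt T' ≫ z, ?_, ?_, ?_⟩
  · rw [← h1, ← Category.assoc, ← Category.assoc, ← pt_comp, ← pt_comp, hv]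
  · rw [← Category.assoc, ← pt_comp, hr, pt_comp, Category.assoc, h2, MonObj.comp_one]
  · rw [← h3, ← Category.assoc, ← Category.assoc, ← pt_comp, ← pt_comp, ha]

end Groth.Agent.SGA3Power26.AvgPoints
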