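import Groth.Agent.AlgGrpLib.FlatAtUnit
import Mathlib.RingTheory.Nakayama
import Mathlib.RingTheory.Flat.Localization

/-! Endomorphisms of a local ring which are a unit scalar on the cotangent space. -/

set_option autoImplicit false
set_option linter.style.haveILetI false

universe u

namespace Groth.Agent.SGA3Power26

open IsLocalRing

/-- A surjective endomorphism of a noetherian ring is injective. -/
theorem injective_of_surjective_endo {R : Type u} [CommRing R] [IsNoetherianRing R] (g : R →+* R)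
    (hg : Function.Surjective g) : Function.Injective g := by
  let K : ℕ → Ideal R := fun n => Nat.rec ⊥ (fun _ I => I.comap g) n
  have hmono : Monotone K := monotone_nat_of_le_succ fun n => by
    induction n with
    | zero => exact bot_le
    | succ n ih => exact Ideal.comap_mono ih
  obtain ⟨n, hn⟩ := monotone_stabilizes_iff_noetherian.2 (inferInstanceAs (IsNoetherian R R)) ⟨K, hmono⟩
  have h1 : ∀ m, K (m + 1) ≤ K m → K 1 ≤ K 0 := by
    intro m
    induction m with
    | zero => exact id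
    | succ m ih =>
      intro hm
      refine ih fun x hx => ?_
      obtain ⟨y, rfl⟩ := hg x
      exact hm (show y ∈ K (m + 1 + 1) from hx)
  rw [injective_iff_map_eq_zero]
  intro x hx
  exact h1 n (hn (n + 1) (Nat.le_succ n)).ge (show g x ∈ (⊥ : Ideal R) from hx)

variable {k O : Type u} [Field k] [CommRing O] [IsLocalRing O] [IsNoetherianRing O] [Algebra k O]
  (φ : O →ₐ[k] O) (χ : O →ₐ[k] k) (hχφ : χ.comp φ = χ) (hker : ∀ x, χ x = 0 ↔ x ∈ maximalIdeal O)
  {n : k} (hn : n ≠ 0) (hcot : ∀ x ∈ maximalIdeal O, φ x - n • x ∈ maximalIdeal O ^ 2)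

include hχφ hker in
theorem map_mem {x : O} (hx : x ∈ maximalIdeal O) : φ x ∈ maximalIdeal O := by
  rw [← hker] at hx ⊢
  rw [← hx]; exact AlgHom.congr_fun hχφ x

include hker hn hcot in
theorem mem_map_add_sq {x : O} (hx : x ∈ maximalIdeal O) :
    ∃ y ∈ maximalIdeal O, x - φ y ∈ maximalIdeal O ^ 2 := by
  refine ⟨n⁻¹ • x, Submodule.smul_of_tower_mem _ _ hx, ?_⟩
  have h := hcot x hx
  have e : x - φ (n⁻¹ • x) = -(n⁻¹ • (φ x - n • x)) := by
    rw [map_smul, smul_sub, smul_smul, inv_mul_cancel₀ hn, one_smul]; abel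
  rw [e]
  exact neg_mem (Submodule.smul_of_tower_mem _ _ h)

include hχφ hker hn hcot in
theorem map_maximalIdeal : (maximalIdeal O).map φ.toRingHom = maximalIdeal O := by
  have hle : (maximalIdeal O).map φ.toRingHom ≤ maximalIdeal O :=
    Ideal.map_le_iff_le_comap.2 fun x hx => map_mem φ χ hχφ hker hx
  refine le_antisymm hle ?_
  refine Submodule.le_of_le_smul_of_le_jacobson_bot (I := maximalIdeal O) (IsNoetherian.noetherian _)
    (maximalIdeal_le_jacobson ⊥) fun x hx => ?_
  obtain ⟨y, hy, h⟩ := mem_map_add_sq φ χ hker hn hcot hx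
  rw [smul_eq_mul, ← pow_two, show x = φ y + (x - φ y) by ring]
  exact Submodule.add_mem_sup (Ideal.mem_map_of_mem _ hy) h

include hχφ hker hn hcot in
theorem pow_le_map_add : ∀ r, ∀ x ∈ maximalIdeal O ^ r, ∃ y ∈ maximalIdeal O ^ r, x - φ y ∈ maximalIdeal O ^ (r + 1) := by
  intro r
  induction r with
  | zero =>
    intro x _
    refine ⟨algebraMap k O (χ x), by simp, ?_⟩
    rw [φ.commutes, zero_add, pow_one, ← hker, map_sub, AlgHom.commutes]
    simp
  | succ r ih =>
    intro x hx
    rw [pow_succ] at hx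
    refine Submodule.mul_induction_on hx (fun a ha b hb => ?_) fun a b ⟨y, hy, h⟩ ⟨z, hz, h'⟩ => ?_
    · obtain ⟨a', ha', h1⟩ := ih a ha
      obtain ⟨b', hb', h2⟩ := mem_map_add_sq φ χ hker hn hcot hb
      refine ⟨a' * b', by rw [pow_succ]; exact Ideal.mul_mem_mul ha' hb', ?_⟩
      have e : a * b - φ (a' * b') = (a - φ a') * b + φ a' * (b - φ b') := by rw [map_mul]; ring
      rw [e]
      refine add_mem (by rw [pow_succ]; exact Ideal.mul_mem_mul h1 hb) ?_
      have hφa : φ a' ∈ maximalIdeal O ^ r := by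
        have := Ideal.mem_map_of_mem φ.toRingHom ha'
        rw [Ideal.map_pow, map_maximalIdeal φ χ hχφ hker hn hcot] at this
        exact this
      rw [show r + 1 + 1 = r + 2 from rfl, pow_add]
      exact Ideal.mul_mem_mul hφa h2
    · exact ⟨y + z, add_mem hy hz, by rw [map_add, show a + b - (φ y + φ z) = (a - φ y) + (b - φ z) by ring]; exact add_mem h h'⟩

include hχφ hker hn hcot in
theorem exists_congr_pow : ∀ r, ∀ x : O, ∃ y, x - φ y ∈ maximalIdeal O ^ r := by
  intro r
  induction r with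
  | zero => exact fun x => ⟨0, by simp⟩
  | succ r ih =>
    intro x
    obtain ⟨y, hy⟩ := ih x
    obtain ⟨z, -, hz⟩ := pow_le_map_add φ χ hχφ hker hn hcot r _ hy
    exact ⟨y + z, by rwa [map_add, ← sub_sub]⟩

include hχφ hker hn hcot in
/-- Such an endomorphism is flat. -/
theorem flat_endo : φ.toRingHom.Flat := by
  haveI : IsLocalHom φ.toRingHom := ⟨fun a ha => by
    by_contra h
    have ha' : χ (φ a) = 0 := (AlgHom.congr_fun hχφ a).trans ((hker a).2 h)
    exact (hker _).1 ha' ha⟩
  have hs : ∀ r : ℕ, Function.Surjective ((Ideal.Quotient.mk (maximalIdeal O ^ r)).comp φ.toRingHom) := fun r y => by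
    obtain ⟨x, rfl⟩ := Ideal.Quotient.mk_surjective y
    obtain ⟨z, hz⟩ := exists_congr_pow φ χ hχφ hker hn hcot r x
    exact ⟨z, (Ideal.Quotient.eq.2 hz).symm⟩
  refine AlgGrpLib.FlatAtUnit.flat_of_levels φ.toRingHom (fun r => hs _) fun r a => ?_
  have hle : maximalIdeal O ^ (r + 1) ≤ (maximalIdeal O ^ (r + 1)).comap φ.toRingHom := by
    rw [← Ideal.map_le_iff_le_comap, Ideal.map_pow, map_maximalIdeal φ χ hχφ hker hn hcot]
  refine ⟨fun h => ?_, fun h => hle h⟩
  let g := Ideal.quotientMap (maximalIdeal O ^ (r + 1)) φ.toRingHom hle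
  have hg : Function.Surjective g := fun y => by
    obtain ⟨z, hz⟩ := hs (r + 1) y
    exact ⟨Ideal.Quotient.mk _ z, hz⟩
  have : g (Ideal.Quotient.mk _ a) = 0 := by
    rw [Ideal.quotientMap_mk]; exact Ideal.Quotient.eq_zero_iff_mem.2 h
  rw [← Ideal.Quotient.eq_zero_iff_mem]
  exact injective_of_surjective_endo g hg (this.trans (map_zero g).symm)

end Groth.Agent.SGA3Power26
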